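import Cfsg.Agent.H34.PerfThree
import Cfsg.Agent.H691.LieAll
import Cfsg.Agent.H424.CentBound
import Cfsg.Agent.H672.Over
import Cfsg.Agent.S0256
import Cfsg.Agent.H464.PslDeg
import Cfsg.Agent.H691.TPsAll_m3
import Cfsg.Agent.H424.DegTools
import Cfsg.Agent.S0886
import Cfsg.Agent.S1489
import Cfsg.Agent.CharactersDeep.CosetAverage
import Cfsg.Agent.CharactersDeep.NormalInd
import Cfsg.Agent.ClassicalGeometry.PSL2Basic
import Cfsg.Agent.H612.Deg3.Cusp
import Cfsg.Agent.H612.Deg3.Series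
import Cfsg.Agent.H706.Uniq
import Cfsg.Agent.H113.PSL.Facts
import Cfsg.Agent.Classification.QDW.FrobLift
import Cfsg.Agent.H462.T3.MulIrr
import Cfsg.Agent.LieClassical.SLGen
import Cfsg.Agent.CharDeep.DegreeBound
import Cfsg.Agent.CharactersDeep.NormalSylow
import Cfsg.Prelude.Def_StandardType
import Mathlib
import Cfsg.Agent.H686.CharKit
import Cfsg.Agent.H67.PCov
import Cfsg.Agent.H175.BdSp_m3
import Cfsg.Agent.H514.OrdL34
import Cfsg.Agent.H67.Cross
import Cfsg.Agent.S0249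
import Cfsg.Agent.H686.SLCover
import Cfsg.Agent.S0248
import Cfsg.Agent.Lib.ListFast
import Cfsg.Agent.Blocks.CentralInvolutionCount
import Cfsg.Agent.Characters.GaloisBasic
import Cfsg.Agent.Mrg.Omega.Lie.PairRee_m3
import Cfsg.Agent.S0495
import Cfsg.Agent.H3.CenT
import Cfsg.Agent.H678.CCData
import Cfsg.Agent.H678.SuzChar
import Cfsg.Agent.H701.ZerosCols
import Cfsg.Agent.S0145
import Cfsg.Agent.H681.ZerosPSL3
import Cfsg.Agent.S2690
import Cfsg.Agent.H326.T3.SlDeg
import Cfsg.Agent.H279.FiveAlt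
import Cfsg.Agent.H579.RR.Psl2Real
import Cfsg.Agent.S0243
import Cfsg.Agent.H681.DegBasic
import Cfsg.Agent.CharDeep.PowerDegrees
import Cfsg.Agent.H691.PDvd
import Cfsg.Agent.S0205
import Cfsg.Agent.H681.SimpleChar
import Cfsg.Agent.H691.Defs
import Cfsg.Agent.SmallSimple.DegreeData
import Cfsg.Agent.H691.Back
import Cfsg.Agent.H677.PslThree_m3
import Mathlib.Algebra.Field.Shrink
import Cfsg.Agent.S0165
import Cfsg.Agent.H665.NoPQ
import Cfsg.Agent.Characters.DegreeBounds
import Cfsg.Agent.H403.TitsSixteen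
import Cfsg.Agent.H603.FD.Spor
import Cfsg.Agent.H113.PSU.Rank3_m3
import Cfsg.Agent.S1624
import Cfsg.Agent.H393.Iso.TitsJ4
import Cfsg.Agent.H393.Iso.Co1
import Cfsg.Agent.H393.Iso.Co2
import Cfsg.Agent.H393.Iso.Co3
import Cfsg.Agent.H393.Iso.He
import Cfsg.Agent.H393.Iso.Ru
import Cfsg.Agent.H547.SelfCent.Conway
import Cfsg.Agent.H547.SelfCent.McLHS
import Cfsg.Agent.H547.SelfCent.He
import Cfsg.Agent.H547.SelfCent.Ru
import Cfsg.Agent.H690.Spor.RankRows
import Cfsg.Agent.H690.Spor.ONRow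
import Cfsg.Agent.H859.Five.LyDZ
import Cfsg.Agent.H713.Spor.Fi22
import Cfsg.Agent.H713.Spor.Fi23
import Cfsg.Agent.H713.Spor.FiTF
import Cfsg.Agent.H713.Spor.B
import Cfsg.Agent.H713.Spor.M
import Cfsg.Agent.H603.SporElim
import Cfsg.Agent.H481.TBound
import Cfsg.Agent.EvenType.ChevTwoTits
import Cfsg.Agent.S2060
import Cfsg.Agent.S2061
import Cfsg.Agent.S2062
import Cfsg.Agent.S2063
import Cfsg.Agent.S2064
import Cfsg.Agent.S2065
import Cfsg.Agent.S2066
import Cfsg.Agent.S2067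
import Cfsg.Agent.S2068
import Cfsg.Agent.S2069
import Cfsg.Agent.S2070
import Cfsg.Agent.S2071
import Cfsg.Agent.S2072
import Cfsg.Agent.S2073
import Cfsg.Agent.S2074
import Cfsg.Agent.S2075
import Cfsg.Agent.S2076
import Cfsg.Agent.S2077
import Cfsg.Agent.S2078
import Cfsg.Agent.S2079
import Cfsg.Agent.S2080
import Cfsg.Agent.S2081
import Cfsg.Agent.S2082
import Cfsg.Agent.S2083
import Cfsg.Agent.S2084
import Cfsg.Agent.S2085
import Cfsg.Agent.S0280
import Cfsg.Agent.S2480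
import Cfsg.Agent.S2579
import Cfsg.Agent.S0157
import Cfsg.Agent.PermutationGroups.MultFree
import Cfsg.Agent.Characters.Linear
import Cfsg.Agent.SporadicA.M11CharSimple
import Cfsg.Agent.H669.SlTwoE
import Cfsg.Agent.S2140
import Cfsg.Agent.Blocks.Knorr
import Cfsg.Agent.H33.IMLie
import Cfsg.Agent.FastGrp
import Cfsg.Agent.Prune
set_option linter.all false

section
prune_inst 0x7ff0acf888a809dedfff7e3dae90ddf812800fffa6def903ffe861bf0fdf031209c5638109e010fc0e02401410a87803f97eceffe06bdc7ffffd5df41ffbee0fa5e73500519080240fbc0ff603e0678e6f3ffffffffcffffffffffffffffffbeffbdfbfefffd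

-- part: H691/T3/GLList
section
set_option linter.all false

/-!
# The list of the degrees of `GL₃(F)` (helper691)
-/

set_option autoImplicit false

namespace Cfsg.Agent.H691.T3

open Cfsg

end Cfsg.Agent.H691.T3
end

-- part: H691/T3/KOne_mg
section
prune_inst 0xf03053302400120000002504102042042c0004900000800048000a0002000200098040400280200d4a20800100010000000000200000000000200400000504010880920060c1000006009e010100000000000000300000000000000000000000200000002
set_option linter.all false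
open scoped Cfsg.Agent.FastGrp

-- part: H691/T3/Types
section
/-!
# Almost simple groups whose degrees lie in `DT q` (helper691)

* `types3` : `q + 1` and (up to `3`) `q² + q + 1` divide the order;
* `gc` : elements with small centralisers bound the order of the socle.
-/

set_option autoImplicit false

namespace Cfsg.Agent.H691.T3

open Cfsg Cfsg.Agent.H681

universe u

/-- If all the degrees different from `1` and the powers of `p` are divisible by `m`, then `m` divides `|A : S|`. -/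
theorem dvd_index {A : Type u} [Group A] [Finite A] {S : Subgroup A} (h : AS A S) {p : ℕ} (hp : p.Prime)
    (hpS : p ∣ Nat.card S) {m : ℕ} (hm : ∀ d ∈ charDegrees A, d = 1 ∨ (∃ k, d = p ^ k) ∨ m ∣ d) : m ∣ S.index := by
  have h1 : 2 * m ∣ 2 * S.index := by
    apply h.dvd_two_index hp hpS
    intro d hd
    rcases hm d hd with h1 | h1 | h1
    · exact Or.inl h1
    · exact Or.inr (Or.inl h1)
    · exact Or.inr (Or.inr (Nat.mul_dvd_mul_left 2 h1))
  exact Nat.dvd_of_mul_dvd_mul_left (by norm_num) h1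

theorem cube_sub (q : ℕ) (hq : 1 ≤ q) : (q - 1) * (q ^ 2 + q + 1) + 1 = q ^ 3 := by
  obtain ⟨a, rfl⟩ : ∃ a, q = a + 1 := ⟨q - 1, by omega⟩
  rw [Nat.add_sub_cancel]
  ring

theorem three_dvd_n {q : ℕ} (h : 3 ∣ q - 1) (hq : 1 ≤ q) : 3 ∣ q ^ 2 + q + 1 := by
  obtain ⟨a, ha⟩ := h
  obtain rfl : q = 3 * a + 1 := by omega
  exact ⟨3 * a ^ 2 + 3 * a + 1, by ring⟩

/-- The elements of `DT q` which are not powers of `q` are divisible by `q + 1`, or by `n = q² + q + 1`. -/
theorem dt_cases {q : ℕ} (hq : 1 ≤ q) {d : ℕ} (h : d ∈ DT q) :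
    d = 1 ∨ d = q ^ 3 ∨ (q + 1 ∣ d ∧ (d = q ^ 2 + q ∨ d = (q - 1) ^ 2 * (q + 1) ∨ 3 * d = (q - 1) ^ 2 * (q + 1))) ∨
      (q + 1 ∣ d ∧ (d = (q + 1) * (q ^ 2 + q + 1) ∨ 3 * d = (q + 1) * (q ^ 2 + q + 1))) ∨
      (q ^ 2 + q + 1 ∣ d ∧ (d + 1 = q ^ 3 ∨ d = q ^ 2 + q + 1 ∨ d = q * (q ^ 2 + q + 1))) := by
  rcases h with h | h | h | h | h | ⟨-, h | h⟩ | ⟨-, h⟩ | ⟨h3, h | h⟩
  · exact Or.inl h
  · exact Or.inr (Or.inr (Or.inl ⟨⟨q, by rw [h]; ring⟩, Or.inl h⟩))
  · exact Or.inr (Or.inl h)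
  · refine Or.inr (Or.inr (Or.inr (Or.inr ⟨⟨q - 1, ?_⟩, Or.inl h⟩)))
    have := cube_sub q hq
    rw [mul_comm]
    omega
  · exact Or.inr (Or.inr (Or.inl ⟨⟨(q - 1) ^ 2, by rw [h]; ring⟩, Or.inr (Or.inl h)⟩))
  · exact Or.inr (Or.inr (Or.inr (Or.inr ⟨by rw [h], Or.inr (Or.inl h)⟩)))
  · exact Or.inr (Or.inr (Or.inr (Or.inr ⟨⟨q, by rw [h]; ring⟩, Or.inr (Or.inr h)⟩)))
  · exact Or.inr (Or.inr (Or.inr (Or.inl ⟨⟨q ^ 2 + q + 1, by rw [h]⟩, Or.inl h⟩)))
  · refine Or.inr (Or.inr (Or.inr (Or.inl ⟨?_, Or.inr h⟩)))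
    obtain ⟨b, hb⟩ := three_dvd_n h3 hq
    refine ⟨b, ?_⟩
    rw [hb] at h
    have : 3 * d = 3 * ((q + 1) * b) := by rw [h]; ring
    omega
  · refine Or.inr (Or.inr (Or.inl ⟨?_, Or.inr (Or.inr h)⟩))
    obtain ⟨a, ha⟩ := h3
    refine ⟨3 * a ^ 2, ?_⟩
    rw [ha] at h
    have : 3 * d = 3 * ((q + 1) * (3 * a ^ 2)) := by rw [h]; ring
    omega

/-- **Both types of degrees occur.** -/
theorem types3 {A : Type*} [Group A] [Finite A] {S : Subgroup A} (h : AS A S) {p F : ℕ} (hp : p.Prime)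
    (_hF : F ≠ 0) (h3 : 3 ≤ p ^ F) (hpS : p ∣ Nat.card S) (hD : charDegrees A ⊆ DT (p ^ F))
    (hout : S.index ≤ p ^ F) :
    p ^ F + 1 ∣ Nat.card A ∧ (p ^ F) ^ 2 + p ^ F + 1 ∣ 3 * Nat.card A := by
  have hpos : 0 < S.index := Nat.pos_of_ne_zero Subgroup.index_ne_zero_of_finite
  constructor
  · by_contra hcon
    have h1 : (p ^ F) ^ 2 + p ^ F + 1 ∣ S.index := by
      apply dvd_index h hp hpS
      intro d hd
      have hdA := DegBasic.dvd_card hd
      rcases dt_cases (by omega) (hD hd) with h2 | h2 | h2 | h2 | h2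
      · exact Or.inl h2
      · exact Or.inr (Or.inl ⟨F * 3, by rw [h2, pow_mul]⟩)
      · exact absurd (h2.1.trans hdA) hcon
      · exact absurd (h2.1.trans hdA) hcon
      · exact Or.inr (Or.inr h2.1)
    have := Nat.le_of_dvd hpos h1
    omega
  · by_contra hcon
    have h1 : p ^ F + 1 ∣ S.index := by
      apply dvd_index h hp hpS
      intro d hd
      have hdA := DegBasic.dvd_card hd
      rcases dt_cases (by omega) (hD hd) with h2 | h2 | h2 | h2 | h2
      · exact Or.inl h2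
      · exact Or.inr (Or.inl ⟨F * 3, by rw [h2, pow_mul]⟩)
      · exact Or.inr (Or.inr h2.1)
      · exact Or.inr (Or.inr h2.1)
      · exact absurd ((h2.1.trans hdA).mul_left 3) hcon
    have := Nat.le_of_dvd hpos h1
    omega

/-- Every degree of `S` divides a degree of `A`. -/
theorem exists_mult {A : Type u} [Group A] [Finite A] {S : Subgroup A} [S.Normal] {d : ℕ} (hd : d ∈ charDegrees S) :
    ∃ x ∈ charDegrees A, d ∣ x ∧ x / d ∣ S.index := by
  obtain ⟨θ, rfl⟩ := hd
  obtain ⟨χ, hχ, ho⟩ := H672.exists_over_subtype S θ.2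
  obtain ⟨h1, h2⟩ := H672.charDegree_dvd_of_over S hχ θ.2 ho
  exact ⟨_, ⟨⟨χ, hχ⟩, rfl⟩, h1, h2⟩

/-- The largest element of `DT q`, `q ≥ 5`. -/
theorem dt_le {q : ℕ} (hq : 2 ≤ q) {d : ℕ} (h : d ∈ DT q) : d ≤ (q + 1) * (q ^ 2 + q + 1) := by
  have hc := cube_sub q (by omega)
  have h1 : (q - 1) * (q ^ 2 + q + 1) ≤ (q + 1) * (q ^ 2 + q + 1) := Nat.mul_le_mul_right _ (by omega)
  have h2 : (q - 1) ^ 2 * (q + 1) ≤ (q + 1) * (q ^ 2 + q + 1) := by
    rw [mul_comm]
    apply Nat.mul_le_mul_left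
    have : (q - 1) ^ 2 ≤ q ^ 2 := Nat.pow_le_pow_left (by omega) 2
    omega
  have h3 : q ^ 3 ≤ (q + 1) * (q ^ 2 + q + 1) := by linarith only [_root_.sq_nonneg (↑q : ℤ)]
  rcases h with h | h | h | h | h | ⟨-, h | h⟩ | ⟨-, h⟩ | ⟨h3, h | h⟩ <;> nlinarith only [h, h2, _root_.sq_nonneg (↑q : ℤ)]

end Cfsg.Agent.H691.T3
end

-- part: H691/T3/NT
section
/-!
# Arithmetic for the identification of the socle (helper691)

* `dt_prime_pow` : the prime powers in `DT q`;
* `NF3 s ord out` : the arithmetic condition excluding a group of Lie type;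
* criteria for `NF3`.
-/

set_option autoImplicit false

namespace Cfsg.Agent.H691.T3

open Cfsg.Agent.H691.Arith

/-- The prime divisors of `n = q² + q + 1` and of `q - 1`: only `3` is common. -/
theorem dvd_three {q l : ℕ} (hq : 1 ≤ q) (h1 : l ∣ q ^ 2 + q + 1) (h2 : l ∣ q - 1) : l ∣ 3 := by
  obtain ⟨a, rfl⟩ : ∃ a, q = a + 1 := ⟨q - 1, by omega⟩
  rw [Nat.add_sub_cancel] at h2
  have h3 : (a + 1) ^ 2 + (a + 1) + 1 = a * (a + 3) + 3 := by ring
  rw [h3] at h1
  exact (Nat.dvd_add_right (h2.mul_right _)).1 h1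

theorem dvd_one_of_add {q l : ℕ} (h1 : l ∣ q ^ 2 + q + 1) (h2 : l ∣ q + 1) : l ∣ 1 := by
  have h3 : q ^ 2 + q + 1 = (q + 1) * q + 1 := by ring
  rw [h3] at h1
  exact (Nat.dvd_add_right (h2.mul_right _)).1 h1

theorem dvd_one_of_self {q l : ℕ} (h1 : l ∣ q ^ 2 + q + 1) (h2 : l ∣ q) : l ∣ 1 := by
  have h3 : q ^ 2 + q + 1 = q * (q + 1) + 1 := by ring
  rw [h3] at h1
  exact (Nat.dvd_add_right (h2.mul_right _)).1 h1

theorem not_nine {q : ℕ} : ¬ 9 ∣ q ^ 2 + q + 1 := by
  intro h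
  have h1 : q % 9 < 9 := Nat.mod_lt _ (by norm_num)
  have h2 : (q ^ 2 + q + 1) % 9 = ((q % 9) ^ 2 + q % 9 + 1) % 9 := by
    simp only [Nat.add_mod, Nat.pow_mod, _root_.Nat.add_mod, _root_.Nat.pow_mod, _root_.dvd_refl, _root_.Nat.mod_mod_of_dvd, _root_.Nat.one_mod]
  have h3 : (q ^ 2 + q + 1) % 9 = 0 := Nat.mod_eq_zero_of_dvd h
  rw [h2] at h3
  generalize q % 9 = t at h1 h3
  interval_cases t <;> omega

/-- a divisor `> 1` of a prime power is divisible by the prime -/
theorem dvd_of_dvd_pow {r M x : ℕ} (hr : r.Prime) (h : x ∣ r ^ M) (hx : x ≠ 1) : r ∣ x := by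
  obtain ⟨k, -, rfl⟩ := (Nat.dvd_prime_pow hr).1 h
  rcases k with _ | k
  · exact absurd (pow_zero r) hx
  · exact dvd_pow_self r (by omega)

/-- **The prime powers in `DT q`.** -/
theorem dt_prime_pow {r M p F : ℕ} (hr : r.Prime) (hM : M ≠ 0) (hp : p.Prime) (hF : F ≠ 0) (h3 : 3 ≤ p ^ F)
    (hs : r ^ M ∈ DT (p ^ F)) :
    (r = p ∧ M = 3 * F) ∨ r ^ M = (p ^ F) ^ 2 + p ^ F + 1 ∨ (p ^ F = 3 ∧ r ^ M = 16) := by
  have hpq : p ∣ p ^ F := dvd_pow_self p hF
  obtain ⟨q, hq⟩ : ∃ q, q = p ^ F := ⟨_, rfl⟩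
  rw [← hq] at h3 hs hpq ⊢
  have hr1 := hr.one_lt
  have hone : ∀ l : ℕ, l.Prime → l ∣ 1 → False := fun l hl h => hl.one_lt.ne' (Nat.dvd_one.1 h)
  have hrs : ∀ l : ℕ, l.Prime → l ∣ r ^ M → l = r := fun l hl h =>
    (Nat.prime_dvd_prime_iff_eq hl hr).1 (hl.dvd_of_dvd_pow h)
  rcases hs with h | h | h | h | h | ⟨-, h | h⟩ | ⟨-, h⟩ | ⟨h13, h | h⟩
  · have := Nat.one_lt_pow hM hr1
    omega
  · -- `q (q + 1)`
    exfalso
    have h1 : q ^ 2 + q = q * (q + 1) := by ring
    rw [h1] at h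
    have h2 : p = r := hrs p hp (by rw [h]; exact hpq.mul_right _)
    have h4 : r ∣ q + 1 := dvd_of_dvd_pow hr (by rw [h]; exact Dvd.intro_left _ rfl) (by omega)
    rw [← h2] at h4
    exact hone p hp ((Nat.dvd_add_right hpq).1 h4)
  · left
    have h2 : p = r := hrs p hp (by rw [h]; exact hpq.trans (dvd_pow_self q (by norm_num)))
    subst h2
    refine ⟨rfl, ?_⟩
    rw [hq, ← pow_mul] at h
    have := Nat.pow_right_injective hp.two_le h
    omega
  · exfalso
    have h1 := cube_sub q (by omega)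
    have h2 : r ^ M = (q - 1) * (q ^ 2 + q + 1) := by omega
    have h4 : r ∣ q - 1 := dvd_of_dvd_pow hr (by rw [h2]; exact Dvd.intro _ rfl) (by omega)
    have h5 : q ^ 2 + q + 1 ∣ r ^ M := by rw [h2]; exact Dvd.intro_left _ rfl
    have h6 : r ∣ q ^ 2 + q + 1 := dvd_of_dvd_pow hr h5 (by omega)
    have h7 : r = 3 := (Nat.prime_dvd_prime_iff_eq hr Nat.prime_three).1 (dvd_three (by omega) h6 h4)
    subst h7
    obtain ⟨k, -, hk⟩ := (Nat.dvd_prime_pow hr).1 h5
    rcases k with _ | _ | k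
    · rw [pow_zero] at hk; omega
    · rw [zero_add, pow_one] at hk; linarith only [h3, hk, _root_.sq_nonneg (↑q : ℤ)]
    · apply not_nine (q := q)
      rw [hk, show 3 ^ (k + 1 + 1) = 9 * 3 ^ k by rw [pow_succ, pow_succ]; ring]
      exact Dvd.intro _ rfl
  · right; right
    have h4 : r ∣ q - 1 := dvd_of_dvd_pow hr (x := q - 1) (by
      rw [h]; exact (Dvd.intro_left (q - 1) (by ring)).trans (Dvd.intro (q + 1) rfl)) (by omega)
    have h5' : q + 1 ∣ r ^ M := by rw [h]; exact Dvd.intro_left _ rfl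
    have h5 : r ∣ q + 1 := dvd_of_dvd_pow hr h5' (by omega)
    have h6 : r ∣ 2 := by
      have := Nat.dvd_sub h5 h4
      rwa [show q + 1 - (q - 1) = 2 by omega] at this
    have h7 : r = 2 := (Nat.prime_dvd_prime_iff_eq hr Nat.prime_two).1 h6
    subst h7
    have h8 : q - 1 ∣ 2 ^ M := by
      rw [h]; exact (Dvd.intro_left (q - 1) (by ring)).trans (Dvd.intro (q + 1) rfl)
    obtain ⟨a, -, ha⟩ := (Nat.dvd_prime_pow hr).1 h8
    obtain ⟨b, -, hb⟩ := (Nat.dvd_prime_pow hr).1 h5'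
    have hq3 : q = 3 := by
      rcases a with _ | _ | a
      · rw [pow_zero] at ha; omega
      · rw [zero_add, pow_one] at ha; omega
      · exfalso
        have ha' : q - 1 = 4 * 2 ^ a := by rw [ha, pow_succ, pow_succ]; ring
        rcases b with _ | _ | b
        · rw [pow_zero] at hb; omega
        · rw [zero_add, pow_one] at hb; omega
        · have hb' : q + 1 = 4 * 2 ^ b := by rw [hb, pow_succ, pow_succ]; ring
          (clear * - ha hb; omega)
    rw [h, hq3]
    norm_num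
  · exact Or.inr (Or.inl h)
  · exfalso
    have h2 : p = r := hrs p hp (by rw [h]; exact hpq.mul_right _)
    have h6 : r ∣ q ^ 2 + q + 1 := dvd_of_dvd_pow hr (by rw [h]; exact Dvd.intro_left _ rfl) (by omega)
    exact hone r hr (dvd_one_of_self h6 (h2 ▸ hpq))
  · exfalso
    have h6 : r ∣ q ^ 2 + q + 1 := dvd_of_dvd_pow hr (by rw [h]; exact Dvd.intro_left _ rfl) (by omega)
    have h5 : r ∣ q + 1 := dvd_of_dvd_pow hr (by rw [h]; exact Dvd.intro _ rfl) (by omega)
    exact hone r hr (dvd_one_of_add h6 h5)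
  · exfalso
    obtain ⟨b, hb⟩ := three_dvd_n h13 (by omega)
    rw [hb] at h
    have h7 : r ^ M = (q + 1) * b := by
      have : 3 * r ^ M = 3 * ((q + 1) * b) := by rw [h]; ring
      omega
    have h6 : r ∣ b := dvd_of_dvd_pow hr (by rw [h7]; exact Dvd.intro_left _ rfl) (by
      rintro rfl
      linarith only [h3, hb, _root_.sq_nonneg (↑q : ℤ)])
    have h5 : r ∣ q + 1 := dvd_of_dvd_pow hr (by rw [h7]; exact Dvd.intro _ rfl) (by omega)
    exact hone r hr (dvd_one_of_add (by rw [hb]; exact h6.mul_left 3) h5)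
  · exfalso
    obtain ⟨a, ha⟩ := h13
    have h7 : r ^ M = 3 * (a ^ 2 * (q + 1)) := by
      rw [ha] at h
      have : 3 * r ^ M = 3 * (3 * (a ^ 2 * (q + 1))) := by rw [h]; ring
      omega
    have h8 : 3 = r := hrs 3 Nat.prime_three (by rw [h7]; exact Dvd.intro _ rfl)
    have h5 : r ∣ q + 1 := dvd_of_dvd_pow hr (by rw [h7, ← mul_assoc]; exact Dvd.intro_left _ rfl) (by omega)
    rw [← h8] at h5
    omega

/-- The arithmetic condition excluding a group of Lie type. -/
def NF3 (s ord out : ℕ) : Prop :=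
  ∀ p F : ℕ, p.Prime → F ≠ 0 → 3 ≤ p ^ F → s ∈ DT (p ^ F) → p ∣ ord →
    (∀ l : ℕ, l.Prime → l ∣ ord → l ∣ 3 * (p ^ F * (((p ^ F) ^ 2 - 1) * ((p ^ F) ^ 3 - 1)))) →
    (p ^ F + 1 ∣ ord * out ∨ (p ^ F) ^ 2 + p ^ F + 1 ∣ out) →
    ((p ^ F) ^ 2 + p ^ F + 1 ∣ 3 * (ord * out) ∨ p ^ F + 1 ∣ out) → False

/-- The three cases. -/
theorem nf3_of {r M ord out : ℕ} (hr : r.Prime) (hM : M ≠ 0) (h16 : r ^ M ≠ 16)
    (hP : ∀ F : ℕ, M = 3 * F → F ≠ 0 → 3 ≤ r ^ F →
      (∀ l : ℕ, l.Prime → l ∣ ord → l ∣ 3 * (r ^ F * (((r ^ F) ^ 2 - 1) * ((r ^ F) ^ 3 - 1)))) →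
      (r ^ F + 1 ∣ ord * out ∨ (r ^ F) ^ 2 + r ^ F + 1 ∣ out) →
      ((r ^ F) ^ 2 + r ^ F + 1 ∣ 3 * (ord * out) ∨ r ^ F + 1 ∣ out) → False)
    (hN : ∀ p F : ℕ, p.Prime → F ≠ 0 → 3 ≤ p ^ F → p ∣ ord → r ^ M = (p ^ F) ^ 2 + p ^ F + 1 →
      (p ^ F + 1 ∣ ord * out ∨ (p ^ F) ^ 2 + p ^ F + 1 ∣ out) → False) : NF3 (r ^ M) ord out := by
  intro p F hp hF h3 hs hpo hIM h2 h1
  rcases dt_prime_pow hr hM hp hF h3 hs with ⟨rfl, h⟩ | h | ⟨-, h⟩
  · exact hP F h hF h3 hIM h2 h1
  · exact hN p F hp hF h3 hpo h h2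
  · exact h16 h

/-! ### the case `r ^ M = q² + q + 1` -/

/-- a square -/
theorem nsq {t q : ℕ} (hq : 1 ≤ q) : t ^ 2 ≠ q ^ 2 + q + 1 := by
  intro h
  have h1 : q < t := by
    by_contra hcon
    have : t ^ 2 ≤ q ^ 2 := Nat.pow_le_pow_left (by omega) 2
    omega
  have h2 : t < q + 1 := by
    by_contra hcon
    have : (q + 1) ^ 2 ≤ t ^ 2 := Nat.pow_le_pow_left (by omega) 2
    linarith only [hq, h, this]
  omega

theorem neven {t q : ℕ} (h2 : 2 ∣ t) : t ≠ q ^ 2 + q + 1 := by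
  rintro rfl
  have h3 : 2 ∣ q * (q + 1) := (Nat.even_mul_succ_self q).two_dvd
  have h4 : q ^ 2 + q + 1 = q * (q + 1) + 1 := by ring
  rw [h4] at h2
  omega

/-- a primitive prime divisor -/
theorem nzd {r M ord out : ℕ} (hr : r.Prime) (hM : 3 ≤ M) (h6 : ¬ (r = 2 ∧ M = 6)) (hZ : Zd r M (ord * out))
    (hpos : 0 < out) (hout : out < r ^ M) :
    ∀ p F : ℕ, p.Prime → F ≠ 0 → 3 ≤ p ^ F → p ∣ ord → r ^ M = (p ^ F) ^ 2 + p ^ F + 1 →
      (p ^ F + 1 ∣ ord * out ∨ (p ^ F) ^ 2 + p ^ F + 1 ∣ out) → False := by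
  intro p F hp hF h3 hpo h h2
  obtain ⟨l, hl, hlp, hlM⟩ := exists_prim (r := r) (m := M) hr.two_le hM h6
  have h4 : l ∣ r ^ M - 1 := (hlp M).2 dvd_rfl
  rw [h, Nat.add_sub_cancel, show (p ^ F) ^ 2 + p ^ F = p ^ F * (p ^ F + 1) by ring] at h4
  apply hZ l hl hlp
  rcases h2 with h2 | h2
  · rcases hl.dvd_mul.1 h4 with h5 | h5
    · have h6 : l = p := (Nat.prime_dvd_prime_iff_eq hl hp).1 (hl.dvd_of_dvd_pow h5)
      rw [h6]
      exact hpo.mul_right _
    · exact h5.trans h2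
  · have := Nat.le_of_dvd hpos h2
    omega

/-! ### the case `r = p` -/

/-- by `n ∣ 3 |A|` -/
theorem pzd1 {r M ord out : ℕ} (hr : r.Prime) (hM : 3 ≤ M) (h6 : ¬ (r = 2 ∧ M = 6)) (hZ : Zd r M (ord * out))
    (hpos : 0 < out) {F : ℕ} (hMF : M = 3 * F) (hout : out ≤ r ^ F)
    (h1 : (r ^ F) ^ 2 + r ^ F + 1 ∣ 3 * (ord * out) ∨ r ^ F + 1 ∣ out) : False := by
  rcases h1 with h1 | h1
  · obtain ⟨l, hl, hlp, hlM⟩ := exists_prim (r := r) (m := M) hr.two_le hM h6
    have h4 : l ∣ r ^ M - 1 := (hlp M).2 dvd_rfl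
    have hq1 : 1 ≤ r ^ F := Nat.one_le_pow _ _ hr.pos
    have h5 := cube_sub (r ^ F) hq1
    rw [hMF, mul_comm 3 F, pow_mul, ← h5, Nat.add_sub_cancel] at h4
    have h7 : ¬ l ∣ r ^ F - 1 := by
      rw [hlp]
      intro h8
      have := Nat.le_of_dvd (by omega) h8
      omega
    have h8 : l ∣ (r ^ F) ^ 2 + r ^ F + 1 := (hl.dvd_mul.1 h4).resolve_left h7
    rcases hl.dvd_mul.1 (h8.trans h1) with h9 | h9
    · have := Nat.le_of_dvd (by norm_num) h9
      omega
    · exact hZ l hl hlp h9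
  · have := Nat.le_of_dvd hpos h1
    omega

/-- by `q + 1 ∣ |A|` -/
theorem pzd2 {r ord out F : ℕ} (hr : r.Prime) (hF : 2 ≤ F) (h6 : ¬ (r = 2 ∧ 2 * F = 6))
    (hZ : Zd r (2 * F) (ord * out)) (hpos : 0 < out) (hout : out ≤ (r ^ F) ^ 2)
    (h2 : r ^ F + 1 ∣ ord * out ∨ (r ^ F) ^ 2 + r ^ F + 1 ∣ out) : False := by
  rcases h2 with h2 | h2
  · obtain ⟨l, hl, hlp, hlM⟩ := exists_prim (r := r) (m := 2 * F) hr.two_le (by omega) h6
    have h4 : l ∣ r ^ (2 * F) - 1 := (hlp _).2 dvd_rfl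
    rw [mul_comm, pow_mul] at h4
    have h5 := Nat.sq_sub_sq (r ^ F) 1
    rw [one_pow] at h5
    rw [h5] at h4
    rcases hl.dvd_mul.1 h4 with h7 | h7
    · exact hZ l hl hlp (h7.trans h2)
    · rw [hlp] at h7
      have := Nat.le_of_dvd (by omega) h7
      omega
  · have := Nat.le_of_dvd hpos h2
    omega

/-- by Itô-Michler -/
theorem pim {r ord K F : ℕ} (hr : r.Prime) (hK : 3 ≤ K) (h6 : ¬ (r = 2 ∧ K = 6))
    (hK2 : ¬ K ∣ 2 * F) (hK3 : ¬ K ∣ 3 * F)
    (hKo : ∀ l : ℕ, l.Prime → K < l → (∀ k, l ∣ r ^ k - 1 ↔ K ∣ k) → l ∣ ord)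
    (hIM : ∀ l : ℕ, l.Prime → l ∣ ord → l ∣ 3 * (r ^ F * (((r ^ F) ^ 2 - 1) * ((r ^ F) ^ 3 - 1)))) : False := by
  obtain ⟨l, hl, hlp, hlM⟩ := exists_prim (r := r) (m := K) hr.two_le hK h6
  rcases hl.dvd_mul.1 (hIM l hl (hKo l hl hlM hlp)) with h | h
  · have := Nat.le_of_dvd (by norm_num) h
    omega
  rcases hl.dvd_mul.1 h with h | h
  · have h2 : l ∣ r := hl.dvd_of_dvd_pow h
    have h3 : l ∣ r ^ K - 1 := (hlp _).2 dvd_rfl
    have h4 : l ∣ r ^ K := dvd_pow h2 (by omega)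
    have h5 : 1 ≤ r ^ K := Nat.one_le_pow _ _ hr.one_le
    have h6 := Nat.dvd_sub h4 h3
    rw [show r ^ K - (r ^ K - 1) = 1 by omega] at h6
    exact hl.one_lt.ne' (Nat.dvd_one.1 h6)
  rcases hl.dvd_mul.1 h with h | h
  · rw [← pow_mul, hlp, mul_comm] at h
    exact hK2 h
  · rw [← pow_mul, hlp, mul_comm] at h
    exact hK3 h

/-- no primitive prime divisor with exponent `m`, from `PD` -/
theorem zd_of_pd' {r0 f m K x : ℕ} {Lp Lm : ℕ → Prop} (hr0 : 1 ≤ r0) (hf : f ≤ m) (hm3 : 3 ≤ m)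
    (h : PD (r0 ^ f) f Lp Lm x) (hcan : ∀ c, m ∣ f * c → K ∣ c)
    (hcan2 : ∀ c, K ∣ c → m ∣ f * c) (hp : ∀ c, Lp c → ¬ K ∣ c)
    (hm : ∀ c, Lm c → ¬ (K ∣ 2 * c ∧ ¬ K ∣ c)) :
    Zd r0 m x := by
  intro l hl hlp hlx
  have hlM := lt_of_prim hl hlp hr0 (by omega)
  rcases h l hl hlx with h1 | h1 | h1 | ⟨c, hc, h1⟩ | ⟨c, hc, h1⟩
  · omega
  · omega
  · have h2 : l ∣ r0 := hl.dvd_of_dvd_pow h1
    have h3 : l ∣ r0 ^ m - 1 := (hlp _).2 dvd_rfl
    have h4 : l ∣ r0 ^ m := dvd_pow h2 (by omega)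
    have h5 : 1 ≤ r0 ^ m := Nat.one_le_pow _ _ hr0
    have h6 := Nat.dvd_sub h4 h3
    rw [show r0 ^ m - (r0 ^ m - 1) = 1 by omega] at h6
    exact hl.one_lt.ne' (Nat.dvd_one.1 h6)
  · rw [← pow_mul, hlp] at h1
    exact hp c hc (hcan c h1)
  · rw [← pow_mul] at h1
    have h2 : l ∣ r0 ^ (f * c + f * c) - 1 := by
      have h3 : r0 ^ (f * c + f * c) - 1 = (r0 ^ (f * c) + 1) * (r0 ^ (f * c) - 1) := by
        rw [pow_add]
        have := Nat.sq_sub_sq (r0 ^ (f * c)) 1
        rw [one_pow, pow_two] at this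
        exact this
      rw [h3]
      exact h1.mul_right _
    rw [hlp, ← two_mul, mul_left_comm] at h2
    refine hm c hc ⟨hcan _ h2, fun h3 => ?_⟩
    have h4 : l ∣ r0 ^ (f * c) - 1 := (hlp _).2 (hcan2 c h3)
    have h5 := Nat.dvd_sub h1 h4
    have h6 : 1 ≤ r0 ^ (f * c) := Nat.one_le_pow _ _ hr0
    rw [show r0 ^ (f * c) + 1 - (r0 ^ (f * c) - 1) = 2 by omega] at h5
    have := Nat.le_of_dvd (by norm_num) h5
    omega

end Cfsg.Agent.H691.T3
end

-- part: H691/T3/Fam
section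
/-!
# `NF3` for the families of Lie type (helper691)
-/

set_option autoImplicit false

namespace Cfsg.Agent.H691.T3.Fam

open Cfsg.Agent.H691.Arith Cfsg.Agent.H691.Fam

theorem le_of_cube {a b : ℕ} (h : a ^ 3 ≤ b ^ 3) : a ≤ b := by
  by_contra hcon
  have : (b + 1) ^ 3 ≤ a ^ 3 := Nat.pow_le_pow_left (by omega) 3
  nlinarith

/-- the generic criterion -/
theorem genT1 {r0 f N ord out : ℕ} {Lp Lm : ℕ → Prop} (hr0 : r0.Prime) (hf : 1 ≤ f) (hN : 6 ≤ N)
    (h6 : ¬ (r0 = 2 ∧ N * f = 6)) (hpd : PD (r0 ^ f) f Lp Lm (ord * out))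
    (hp : ∀ c, Lp c → ¬ N ∣ c) (hm : ∀ c, Lm c → ¬ (N ∣ 2 * c ∧ ¬ N ∣ c)) (hpos : 0 < out)
    (hout : out ^ 3 ≤ (r0 ^ f) ^ N) : NF3 ((r0 ^ f) ^ N) ord out := by
  have hNf : N ≤ N * f := Nat.le_mul_of_pos_right _ hf
  have hpw : (r0 ^ f) ^ N = r0 ^ (N * f) := by rw [← pow_mul, mul_comm]
  have hZ : Zd r0 (N * f) (ord * out) := zd_of_pd hr0.one_le hf (by omega) (by omega) hpd hp hm
  have h64 : 64 ≤ r0 ^ (N * f) := by
    calc 64 = 2 ^ 6 := by norm_num
      _ ≤ r0 ^ 6 := Nat.pow_le_pow_left hr0.two_le 6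
      _ ≤ r0 ^ (N * f) := Nat.pow_le_pow_right hr0.pos (by omega)
  rw [hpw] at hout ⊢
  refine nf3_of hr0 (by omega) (by omega) ?_ ?_
  · intro F hMF hF h3 _ _ h1
    refine pzd1 hr0 (by omega) h6 hZ hpos hMF (le_of_cube ?_) h1
    rwa [← pow_mul, mul_comm F 3, ← hMF]
  · refine nzd hr0 (by omega) h6 hZ hpos ?_
    by_contra hcon
    have h1 : (r0 ^ (N * f)) ^ 3 ≤ out ^ 3 := Nat.pow_le_pow_left (by omega) 3
    have h2 : (r0 ^ (N * f)) ^ 3 ≤ r0 ^ (N * f) := h1.trans hout
    have h3 : (r0 ^ (N * f)) ^ 3 = r0 ^ (N * f) * (r0 ^ (N * f)) ^ 2 := by ring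
    nlinarith only [hout, h64, h1, _root_.sq_nonneg (↑r0 ^ (N * f) : ℤ)]

/-- the criterion for even `N` -/
theorem genSq {r0 f N K ord out : ℕ} {Lp Lm : ℕ → Prop} (hr0 : r0.Prime) (hf : 1 ≤ f) (hN : 4 ≤ N)
    (hN2 : 2 ∣ N) (h16 : (r0 ^ f) ^ N ≠ 16) (hF2 : ∀ F, N * f = 3 * F → 2 ∣ F ∧ f ≤ 2 * F)
    (hpd : PD (r0 ^ f) f Lp Lm (ord * out)) (hK : ∀ c, 2 * N ∣ 3 * c ↔ K ∣ c)
    (hp : ∀ c, Lp c → ¬ K ∣ c) (hm : ∀ c, Lm c → ¬ (K ∣ 2 * c ∧ ¬ K ∣ c)) (hpos : 0 < out)
    (hout : out ^ 3 ≤ ((r0 ^ f) ^ N) ^ 2) : NF3 ((r0 ^ f) ^ N) ord out := by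
  have hNf : N ≤ N * f := Nat.le_mul_of_pos_right _ hf
  have hpw : (r0 ^ f) ^ N = r0 ^ (N * f) := by rw [← pow_mul, mul_comm]
  rw [hpw] at hout h16 ⊢
  refine nf3_of hr0 (by omega) h16 ?_ ?_
  · intro F hMF hF h3 _ h2 _
    obtain ⟨h21, h22⟩ := hF2 F hMF
    have key : ∀ c, 2 * F ∣ f * c ↔ K ∣ c := by
      intro c
      rw [← hK, ← Nat.mul_dvd_mul_iff_left (show 0 < 3 by norm_num), ← mul_assoc 3 2 F,
        show 3 * 2 * F = f * (2 * N) by linarith only [hMF], show 3 * (f * c) = f * (3 * c) by ring,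
        Nat.mul_dvd_mul_iff_left (show 0 < f by omega)]
    refine pzd2 hr0 (by omega) (by omega) (zd_of_pd' hr0.one_le h22 (by omega) hpd (fun c => (key c).1)
      (fun c => (key c).2) hp hm) hpos (le_of_cube ?_) h2
    rw [hMF] at hout
    calc out ^ 3 ≤ (r0 ^ (3 * F)) ^ 2 := hout
      _ = ((r0 ^ F) ^ 2) ^ 3 := by ring
  · intro p F _ _ h3 _ h _
    obtain ⟨t, ht⟩ := hN2
    refine nsq (t := r0 ^ (t * f)) (q := p ^ F) (by omega) ?_
    rw [← h, ← pow_mul, ht]
    congr 1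
    ring

theorem cubeB {r f A B k N : ℕ} (hr : B ≤ r) (hA : A ^ 3 ≤ 8 * B ^ k) (h2f : 2 * f ≤ r) (hN : k + 3 ≤ N)
    (hB : 1 ≤ B) : (A * f) ^ 3 ≤ r ^ N := by
  have h1 : (2 * f) ^ 3 ≤ r ^ 3 := Nat.pow_le_pow_left h2f 3
  have h2 : (A * f) ^ 3 = A ^ 3 * f ^ 3 := by ring
  have h3 : A ^ 3 * f ^ 3 ≤ 8 * B ^ k * f ^ 3 := Nat.mul_le_mul_right _ hA
  have h4 : 8 * B ^ k * f ^ 3 = B ^ k * (2 * f) ^ 3 := by ring
  have h5 : B ^ k * (2 * f) ^ 3 ≤ r ^ k * r ^ 3 := Nat.mul_le_mul (Nat.pow_le_pow_left hr k) h1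
  have h6 : r ^ k * r ^ 3 = r ^ (k + 3) := by rw [pow_add]
  have h7 : r ^ (k + 3) ≤ r ^ N := Nat.pow_le_pow_right (by omega) hN
  omega

/-! ### linear groups -/

theorem psl_NF3 {r0 f n ord : ℕ} (hr0 : r0.Prime) (hf : 1 ≤ f) (hn : 4 ≤ n) (h42 : ¬ (n = 4 ∧ r0 ^ f = 2))
    (hord : ord ∣ ∏ i ∈ Finset.range n, ((r0 ^ f) ^ n - (r0 ^ f) ^ i)) :
    NF3 ((r0 ^ f) ^ (n * (n - 1) / 2)) ord (2 * Nat.gcd n (r0 ^ f - 1) * f) := by
  have hr2 : 2 ≤ r0 ^ f := hr0.two_le.trans (Nat.le_self_pow (by omega) _)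
  have h2f : 2 * f ≤ r0 ^ f := two_mul_le_pow hr0.two_le hf
  have hg : Nat.gcd n (r0 ^ f - 1) ≤ r0 ^ f - 1 := Nat.le_of_dvd (by omega) (Nat.gcd_dvd_right _ _)
  have hpd : PD (r0 ^ f) f (fun c => 1 ≤ c ∧ c ≤ n) (fun _ => False) (ord * (2 * Nat.gcd n (r0 ^ f - 1) * f)) := by
    refine (pd_gl.of_dvd hord).mul ((PD.two.mul ?_).mul (PD.le_f (by omega) le_rfl))
    refine (PD.plus (c := 1) ⟨le_rfl, by omega⟩).of_dvd ?_
    rw [pow_one]
    exact Nat.gcd_dvd_right _ _
  have hg0 : 0 < Nat.gcd n (r0 ^ f - 1) := Nat.gcd_pos_of_pos_left _ (by omega)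
  obtain ⟨N, hN⟩ : ∃ N, N = n * (n - 1) / 2 := ⟨_, rfl⟩
  rw [← hN]
  have hN2 : 2 * N = n * (n - 1) := by
    rw [hN]
    exact Nat.mul_div_cancel' (by
      obtain ⟨k, rfl⟩ : ∃ k, n = k + 1 := ⟨n - 1, by omega⟩
      rw [Nat.add_sub_cancel, mul_comm]
      exact (Nat.even_mul_succ_self k).two_dvd)
  have hNn : n < N := by
    have h1 : n * 3 ≤ n * (n - 1) := Nat.mul_le_mul_left _ (by omega)
    omega
  have hN6 : 6 ≤ N := by
    have h1 : n * 3 ≤ n * (n - 1) := Nat.mul_le_mul_left _ (by omega)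
    omega
  refine genT1 hr0 hf hN6 ?_ hpd ?_ (fun _ h => h.elim) (by positivity) ?_
  · rintro ⟨h61, h62⟩
    have hf1 : f = 1 := by
      by_contra hcon
      have : N * 2 ≤ N * f := Nat.mul_le_mul_left _ (by omega)
      omega
    have hn4 : n = 4 := by
      by_contra hcon
      have h1 : n * 4 ≤ n * (n - 1) := Nat.mul_le_mul_left _ (by omega)
      rw [hf1] at h62
      omega
    exact h42 ⟨hn4, by rw [h61, hf1, pow_one]⟩
  · rintro c ⟨h1, h2⟩ h3
    have := Nat.le_of_dvd (by omega) h3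
    omega
  · have h1 : 2 * Nat.gcd n (r0 ^ f - 1) * f ≤ (r0 ^ f) ^ 2 := by
      calc 2 * Nat.gcd n (r0 ^ f - 1) * f = Nat.gcd n (r0 ^ f - 1) * (2 * f) := by ring
        _ ≤ r0 ^ f * r0 ^ f := Nat.mul_le_mul (by omega) h2f
        _ = (r0 ^ f) ^ 2 := by ring
    calc (2 * Nat.gcd n (r0 ^ f - 1) * f) ^ 3 ≤ ((r0 ^ f) ^ 2) ^ 3 := Nat.pow_le_pow_left h1 3
      _ = (r0 ^ f) ^ 6 := by ring
      _ ≤ (r0 ^ f) ^ N := Nat.pow_le_pow_right (by omega) hN6

/-! ### symplectic groups and odd dimensional orthogonal groups -/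

theorem psp_NF3 {r0 f m ord : ℕ} (hr0 : r0.Prime) (hf : 1 ≤ f) (hm : 2 ≤ m) (hm3 : m = 2 → 3 ≤ r0 ^ f)
    (hord : ord ∣ (r0 ^ f) ^ (m ^ 2) * ∏ i ∈ Finset.range m, ((r0 ^ f) ^ (2 * (i + 1)) - 1)) :
    NF3 ((r0 ^ f) ^ (m ^ 2)) ord (4 * f) := by
  have hr2 : 2 ≤ r0 ^ f := hr0.two_le.trans (Nat.le_self_pow (by omega) _)
  have h2f : 2 * f ≤ r0 ^ f := two_mul_le_pow hr0.two_le hf
  have hpd : PD (r0 ^ f) f (fun c => 1 ≤ c ∧ c ≤ 2 * m) (fun _ => False) (ord * (4 * f)) :=
    (((PD.base.pow _).mul pd_prB).of_dvd hord).mul (PD.c4.mul (PD.le_f (by omega) le_rfl))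
  rcases hm.eq_or_lt with rfl | hm
  · refine genSq (N := 2 ^ 2) (K := 8) hr0 hf (by norm_num) (by norm_num) ?_ (fun F h => ?_) hpd (fun c => by (clear * -; solve | lia | omega)) ?_
      (fun _ h => h.elim) (by omega) ?_
    · intro h16
      have : 3 ^ 2 ^ 2 ≤ (r0 ^ f) ^ 2 ^ 2 := Nat.pow_le_pow_left (hm3 rfl) _
      rw [h16] at this
      norm_num at this
    · omega
    · rintro c ⟨h1, h2⟩ h3
      have := Nat.le_of_dvd (by omega) h3
      omega
    · rw [← pow_mul]
      exact cubeB (B := 2) (k := 3) hr2 (by norm_num) h2f (by norm_num) (by norm_num)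
  · have hm9 : 9 ≤ m ^ 2 := by nlinarith only [hm]
    refine genT1 hr0 hf (by omega) ?_ hpd ?_ (fun _ h => h.elim) (by omega) ?_
    · rintro ⟨-, h⟩
      have : m ^ 2 ≤ m ^ 2 * f := Nat.le_mul_of_pos_right _ hf
      omega
    · rintro c ⟨h1, h2⟩ h3
      have := Nat.le_of_dvd (by omega) h3
      nlinarith only [hm9, h2, this]
    · exact cubeB (B := 2) (k := 3) hr2 (by norm_num) h2f (by omega) (by norm_num)

/-! ### even dimensional orthogonal groups -/

/-- the bound for the outer automorphism groups of orthogonal groups -/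
def oc (p : ℕ) : ℕ := if p = 2 then 6 else 24

theorem oc_pos (p : ℕ) : 0 < oc p := by unfold oc; split_ifs <;> norm_num

theorem oc_dvd (p : ℕ) : oc p ∣ 24 := by unfold oc; split_ifs <;> norm_num

theorem oc_cube {r0 f N : ℕ} (hr0 : r0.Prime) (hf : 1 ≤ f) (hN : 12 ≤ N) : (oc r0 * f) ^ 3 ≤ (r0 ^ f) ^ N := by
  have hr2 : 2 ≤ r0 ^ f := hr0.two_le.trans (Nat.le_self_pow (by omega) _)
  have h2f : 2 * f ≤ r0 ^ f := two_mul_le_pow hr0.two_le hf
  unfold oc
  split_ifs with h
  · exact cubeB (B := 2) (k := 9) hr2 (by norm_num) h2f (by omega) (by norm_num)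
  · have h3 : 3 ≤ r0 := by
      have := hr0.two_le
      omega
    have hr3 : 3 ≤ r0 ^ f := h3.trans (Nat.le_self_pow (by omega) _)
    exact cubeB (B := 3) (k := 9) hr3 (by norm_num) h2f (by omega) (by norm_num)

theorem oplus_NF3 {r0 f m ord : ℕ} (hr0 : r0.Prime) (hf : 1 ≤ f) (hm : 4 ≤ m)
    (hord : ord ∣ (r0 ^ f) ^ (m * (m - 1)) * (((r0 ^ f) ^ m - 1) *
      ∏ i ∈ Finset.range (m - 1), ((r0 ^ f) ^ (2 * (i + 1)) - 1))) :
    NF3 ((r0 ^ f) ^ (m * (m - 1))) ord (oc r0 * f) := by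
  have hm4 : 3 * m ≤ m * (m - 1) := by
    rw [mul_comm 3]
    exact Nat.mul_le_mul_left _ (by omega)
  have hpd : PD (r0 ^ f) f (fun c => 1 ≤ c ∧ c ≤ 2 * m) (fun _ => False) (ord * (oc r0 * f)) := by
    refine (((PD.base.pow _).mul ((PD.plus ⟨by omega, by omega⟩).mul ?_)).of_dvd hord).mul
      ((PD.c24.of_dvd (oc_dvd r0)).mul (PD.le_f (by omega) le_rfl))
    apply PD.prod
    intro i hi
    rw [Finset.mem_range] at hi
    exact PD.plus ⟨by omega, by omega⟩
  refine genT1 hr0 hf (by omega) ?_ hpd ?_ (fun _ h => h.elim) (Nat.mul_pos (oc_pos _) (by omega))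
    (oc_cube hr0 hf (by omega))
  · rintro ⟨-, h⟩
    have : m * (m - 1) ≤ m * (m - 1) * f := Nat.le_mul_of_pos_right _ hf
    omega
  · rintro c ⟨h1, h2⟩ h3
    have := Nat.le_of_dvd (by omega) h3
    omega

theorem ominus_NF3 {r0 f m ord : ℕ} (hr0 : r0.Prime) (hf : 1 ≤ f) (hm : 4 ≤ m)
    (hord : ord ∣ (r0 ^ f) ^ (m * (m - 1)) * (((r0 ^ f) ^ m + 1) *
      ∏ i ∈ Finset.range (m - 1), ((r0 ^ f) ^ (2 * (i + 1)) - 1))) :
    NF3 ((r0 ^ f) ^ (m * (m - 1))) ord (oc r0 * f) := by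
  have hm4 : 3 * m ≤ m * (m - 1) := by
    rw [mul_comm 3]
    exact Nat.mul_le_mul_left _ (by omega)
  have hpd : PD (r0 ^ f) f (fun c => 1 ≤ c ∧ c ≤ 2 * m) (fun c => c = m) (ord * (oc r0 * f)) := by
    refine (((PD.base.pow _).mul ((PD.minus (Lm := fun c => c = m) (c := m) rfl).mul ?_)).of_dvd hord).mul
      ((PD.c24.of_dvd (oc_dvd r0)).mul (PD.le_f (x := f) (by omega) le_rfl))
    apply PD.prod
    intro i hi
    rw [Finset.mem_range] at hi
    exact PD.plus ⟨by omega, by omega⟩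
  refine genT1 hr0 hf (by omega) ?_ hpd ?_ ?_ (Nat.mul_pos (oc_pos _) (by omega))
    (oc_cube hr0 hf (by omega))
  · rintro ⟨-, h⟩
    have : m * (m - 1) ≤ m * (m - 1) * f := Nat.le_mul_of_pos_right _ hf
    omega
  · rintro c ⟨h1, h2⟩ h3
    have := Nat.le_of_dvd (by omega) h3
    omega
  · rintro c rfl ⟨h1, -⟩
    have := Nat.le_of_dvd (by omega) h1
    omega

/-! ### unitary groups -/

theorem pd_psu {r0 f n ord : ℕ} (hf : 1 ≤ f) (hn : 3 ≤ n)
    (hord : ord ∣ (r0 ^ f) ^ (n * (n - 1) / 2) *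
      ∏ i ∈ Finset.range n, if Even i then (r0 ^ f) ^ (i + 1) + 1 else (r0 ^ f) ^ (i + 1) - 1) :
    PD (r0 ^ f) f (fun c => 1 ≤ c ∧ c ≤ n ∧ Even c) (fun c => 1 ≤ c ∧ c ≤ n ∧ Odd c)
      (ord * (2 * Nat.gcd n (r0 ^ f + 1) * f)) := by
  refine (((PD.base.pow _).mul pd_prU).of_dvd hord).mul ((PD.two.mul ?_).mul (PD.le_f (by omega) le_rfl))
  refine (PD.minus (c := 1) ⟨le_rfl, by omega, odd_one⟩).of_dvd ?_
  rw [pow_one]
  exact Nat.gcd_dvd_right _ _

/-- `PSU₃` -/
theorem psu3_NF3 {r0 f ord : ℕ} (hr0 : r0.Prime) (hf : 1 ≤ f) (h32 : r0 ^ f ≠ 2)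
    (hc : Nat.gcd 3 (r0 ^ f + 1) * (r0 ^ f + 1) * ord = (r0 ^ f) ^ (3 * (3 - 1) / 2) *
      ∏ i ∈ Finset.range 3, if Even i then (r0 ^ f) ^ (i + 1) + 1 else (r0 ^ f) ^ (i + 1) - 1) :
    NF3 ((r0 ^ f) ^ (3 * (3 - 1) / 2)) ord (2 * Nat.gcd 3 (r0 ^ f + 1) * f) := by
  have hr2 : 2 ≤ r0 ^ f := hr0.two_le.trans (Nat.le_self_pow (by omega) _)
  have h2f : 2 * f ≤ r0 ^ f := two_mul_le_pow hr0.two_le hf
  have hpd := pd_psu (r0 := r0) (f := f) (n := 3) (ord := ord) hf le_rfl (by rw [← hc]; exact Dvd.intro_left _ rfl)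
  have hg : Nat.gcd 3 (r0 ^ f + 1) ≤ r0 ^ f + 1 := Nat.le_of_dvd (by omega) (Nat.gcd_dvd_right _ _)
  have hg0 : 0 < Nat.gcd 3 (r0 ^ f + 1) := Nat.gcd_pos_of_pos_left _ (by omega)
  have hf2 : r0 = 2 → 2 ≤ f := by
    rintro rfl
    by_contra hcon
    have : f = 1 := by omega
    rw [this, pow_one] at h32
    exact h32 rfl
  have hpw : (r0 ^ f) ^ (3 * (3 - 1) / 2) = r0 ^ (3 * f) := by
    rw [show 3 * (3 - 1) / 2 = 3 by norm_num, ← pow_mul, mul_comm]
  have hb := psu_bound (r := r0 ^ f) (n := 3) hr2 le_rfl (fun h => h32 h.2)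
  rw [hpw] at hc hb ⊢
  have h16 : r0 ^ (3 * f) ≠ 16 := by
    intro h
    have h1 : r0 ∣ 16 := by rw [← h]; exact dvd_pow_self _ (by omega)
    have h2 : r0 = 2 := (Nat.prime_dvd_prime_iff_eq hr0 Nat.prime_two).1 (hr0.dvd_of_dvd_pow (n := 4) (by norm_num; exact h1))
    rw [h2, show (16 : ℕ) = 2 ^ 4 by norm_num] at h
    have := Nat.pow_right_injective le_rfl h
    omega
  refine nf3_of hr0 (by omega) h16 ?_ ?_
  · intro F hMF hF h3 hIM _ _
    have hFf : F = f := by omega
    subst hFf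
    refine pim (K := 6 * F) hr0 (by omega) ?_ ?_ ?_ ?_ hIM
    · rintro ⟨h1, h2⟩
      have := hf2 h1
      omega
    · intro h
      have := Nat.le_of_dvd (by omega) h
      omega
    · intro h
      have := Nat.le_of_dvd (by omega) h
      omega
    · intro l hl hlM hlp
      -- `l ∣ r ^ 3 + 1`
      have h1 : l ∣ r0 ^ (3 * F) + 1 := dvd_add_one_of_prim hl hr0.two_le (by omega) (fun k => by
        rw [hlp, show 2 * (3 * F) = 6 * F by ring])
      have h2 : l ∣ Nat.gcd 3 (r0 ^ F + 1) * (r0 ^ F + 1) * ord := by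
        rw [hc]
        refine Dvd.dvd.mul_left (Dvd.dvd.trans ?_ (Finset.dvd_prod_of_mem _ (Finset.mem_range.2 (show 2 < 3 by norm_num)))) _
        rw [if_pos (by decide), ← pow_mul, mul_comm F]
        exact h1
      have h5 : ¬ l ∣ r0 ^ F + 1 := by
        intro h5
        have h6 : l ∣ r0 ^ (F * 2) - 1 := by
          have := Nat.sq_sub_sq (r0 ^ F) 1
          rw [one_pow] at this
          rw [pow_mul, this]
          exact h5.mul_right _
        rw [hlp] at h6
        have := Nat.le_of_dvd (by omega) h6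
        omega
      rcases hl.dvd_mul.1 h2 with h3 | h3
      · exfalso
        rcases hl.dvd_mul.1 h3 with h4 | h4
        · exact h5 (h4.trans (Nat.gcd_dvd_right _ _))
        · exact h5 h4
      · exact h3
  · by_cases h2 : r0 = 2
    · intro p F _ _ _ _ h _
      exact neven (by rw [h2]; exact dvd_pow_self 2 (by omega)) h
    · refine nzd hr0 (by omega) (fun h => h2 h.1) ?_ (by positivity) ?_
      · refine zd_of_pd hr0.one_le hf (by norm_num) (by omega) hpd ?_ ?_
        · rintro c ⟨h1, h2, h4⟩ h5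
          have : c = 3 := le_antisymm h2 (Nat.le_of_dvd (by omega) h5)
          rw [this] at h4
          exact absurd h4 (by decide)
        · rintro c ⟨h1, h2, h4⟩ ⟨h5, h6⟩
          apply h6
          exact (Nat.Coprime.dvd_mul_left (by norm_num)).1 h5
      · have h1 : 2 * Nat.gcd 3 (r0 ^ f + 1) * f ≤ (r0 ^ f + 1) * r0 ^ f := by
          calc 2 * Nat.gcd 3 (r0 ^ f + 1) * f = Nat.gcd 3 (r0 ^ f + 1) * (2 * f) := by ring
            _ ≤ (r0 ^ f + 1) * r0 ^ f := Nat.mul_le_mul hg h2f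
        have h2 : 2 * (r0 ^ f + 1) * r0 ^ f = 2 * ((r0 ^ f + 1) * r0 ^ f) := by ring
        omega

/-- `PSU₄` -/
theorem psu4_NF3 {r0 f ord : ℕ} (hr0 : r0.Prime) (hf : 1 ≤ f)
    (hord : ord ∣ (r0 ^ f) ^ (4 * (4 - 1) / 2) *
      ∏ i ∈ Finset.range 4, if Even i then (r0 ^ f) ^ (i + 1) + 1 else (r0 ^ f) ^ (i + 1) - 1) :
    NF3 ((r0 ^ f) ^ (4 * (4 - 1) / 2)) ord (2 * Nat.gcd 4 (r0 ^ f + 1) * f) := by
  have hr2 : 2 ≤ r0 ^ f := hr0.two_le.trans (Nat.le_self_pow (by omega) _)
  have h2f : 2 * f ≤ r0 ^ f := two_mul_le_pow hr0.two_le hf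
  have hpd := pd_psu (r0 := r0) (f := f) (n := 4) (ord := ord) hf (by norm_num) hord
  have hg4 : Nat.gcd 4 (r0 ^ f + 1) ≤ 4 := Nat.le_of_dvd (by omega) (Nat.gcd_dvd_left _ _)
  have hg0 : 0 < Nat.gcd 4 (r0 ^ f + 1) := Nat.gcd_pos_of_pos_left _ (by omega)
  have hpw : (r0 ^ f) ^ (4 * (4 - 1) / 2) = r0 ^ (6 * f) := by
    rw [show 4 * (4 - 1) / 2 = 6 by norm_num, ← pow_mul, mul_comm]
  rw [hpw] at hord ⊢
  have h64 : 64 ≤ r0 ^ (6 * f) := by
    calc 64 = 2 ^ 6 := by norm_num
      _ ≤ r0 ^ 6 := Nat.pow_le_pow_left hr0.two_le 6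
      _ ≤ r0 ^ (6 * f) := Nat.pow_le_pow_right hr0.pos (by omega)
  refine nf3_of hr0 (by omega) (by omega) ?_ ?_
  · intro F hMF hF h3 _ _ h1
    have hFf : F = f * 2 := by omega
    rw [hFf, pow_mul] at h1
    -- the outer automorphism group
    have hout : 2 * Nat.gcd 4 (r0 ^ f + 1) * f < (r0 ^ f) ^ 2 + 1 := by
      have h5 : 2 * Nat.gcd 4 (r0 ^ f + 1) * f = Nat.gcd 4 (r0 ^ f + 1) * (2 * f) := by ring
      have h6 : Nat.gcd 4 (r0 ^ f + 1) * (2 * f) ≤ Nat.gcd 4 (r0 ^ f + 1) * r0 ^ f := Nat.mul_le_mul_left _ h2f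
      rw [h5]
      generalize r0 ^ f = r at *
      rcases Nat.lt_or_ge r 4 with h7 | h7
      · have h8 : r = 2 ∨ r = 3 := by omega
        rcases h8 with rfl | rfl
        · have : Nat.gcd 4 (2 + 1) = 1 := by decide
          rw [this] at h6 ⊢
          omega
        · have : f = 1 := by omega
          subst this
          have : Nat.gcd 4 (3 + 1) = 4 := by decide
          rw [this]
          norm_num
      · have h8 : Nat.gcd 4 (r + 1) * r ≤ 4 * r := Nat.mul_le_mul_right _ hg4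
        nlinarith only [h2f, hg4, h7]
    rcases h1 with h1 | h1
    · have hn : (r0 ^ f) ^ 2 + r0 ^ f + 1 ∣ ((r0 ^ f) ^ 2) ^ 2 + (r0 ^ f) ^ 2 + 1 := by
        refine ⟨(r0 ^ f) ^ 2 - r0 ^ f + 1, ?_⟩
        have h5 : r0 ^ f ≤ (r0 ^ f) ^ 2 := by nlinarith only []
        generalize r0 ^ f = r at *
        zify [h5]
        ring
      by_cases hc : r0 = 2 ∧ 3 * f = 6
      · obtain ⟨rfl, hc⟩ := hc
        have hf2 : f = 2 := by omega
        subst hf2
        have h7 : ord ∣ 4 ^ 6 * (5 * 15 * 65 * 255) := by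
          refine hord.trans ?_
          decide
        have h9 : (7 : ℕ) ∣ 3 * ((4 ^ 6 * (5 * 15 * 65 * 255)) * (2 * Nat.gcd 4 (2 ^ 2 + 1) * 2)) :=
          ((show 7 ∣ ((2 ^ 2) ^ 2) ^ 2 + (2 ^ 2) ^ 2 + 1 by norm_num).trans h1).trans
            (Nat.mul_dvd_mul_left _ (Nat.mul_dvd_mul h7 dvd_rfl))
        revert h9
        decide
      · obtain ⟨l, hl, hlp, hlM⟩ := exists_prim (r := r0) (m := 3 * f) hr0.two_le (by omega) hc
        have h4 : l ∣ r0 ^ (3 * f) - 1 := (hlp _).2 dvd_rfl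
        have h5 := cube_sub (r0 ^ f) (by omega)
        rw [mul_comm, pow_mul, ← h5, Nat.add_sub_cancel] at h4
        have h7 : ¬ l ∣ r0 ^ f - 1 := by
          rw [hlp]
          intro h8
          have := Nat.le_of_dvd (by omega) h8
          omega
        have h8 : l ∣ (r0 ^ f) ^ 2 + r0 ^ f + 1 := (hl.dvd_mul.1 h4).resolve_left h7
        have hZ : Zd r0 (3 * f) (ord * (2 * Nat.gcd 4 (r0 ^ f + 1) * f)) := by
          refine zd_of_pd hr0.one_le hf (by norm_num) (by omega) hpd ?_ ?_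
          · rintro c ⟨h1, h2, h4⟩ h5
            have : c = 3 := by omega
            rw [this] at h4
            exact absurd h4 (by decide)
          · rintro c ⟨h1, h2, h4⟩ ⟨h5, h6⟩
            apply h6
            exact (Nat.Coprime.dvd_mul_left (by norm_num)).1 h5
        rcases hl.dvd_mul.1 ((h8.trans hn).trans h1) with h9 | h9
        · have := Nat.le_of_dvd (by norm_num) h9
          omega
        · exact hZ l hl hlp h9
    · have := Nat.le_of_dvd (by positivity) h1
      omega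
  · intro p F _ _ h3 _ h _
    refine nsq (t := r0 ^ (3 * f)) (q := p ^ F) (by omega) ?_
    rw [← h, ← pow_mul]
    congr 1
    ring

/-- `PSU_n`, `n ≥ 5` -/
theorem psu5_NF3 {r0 f n ord : ℕ} (hr0 : r0.Prime) (hf : 1 ≤ f) (hn : 5 ≤ n)
    (hord : ord ∣ (r0 ^ f) ^ (n * (n - 1) / 2) *
      ∏ i ∈ Finset.range n, if Even i then (r0 ^ f) ^ (i + 1) + 1 else (r0 ^ f) ^ (i + 1) - 1) :
    NF3 ((r0 ^ f) ^ (n * (n - 1) / 2)) ord (2 * Nat.gcd n (r0 ^ f + 1) * f) := by
  have hr2 : 2 ≤ r0 ^ f := hr0.two_le.trans (Nat.le_self_pow (by omega) _)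
  have h2f : 2 * f ≤ r0 ^ f := two_mul_le_pow hr0.two_le hf
  have hpd := pd_psu (r0 := r0) (f := f) (n := n) (ord := ord) hf (by omega) hord
  have hg : Nat.gcd n (r0 ^ f + 1) ≤ r0 ^ f + 1 := Nat.le_of_dvd (by omega) (Nat.gcd_dvd_right _ _)
  have hg0 : 0 < Nat.gcd n (r0 ^ f + 1) := Nat.gcd_pos_of_pos_left _ (by omega)
  have h1 : 2 * Nat.gcd n (r0 ^ f + 1) * f ≤ 2 * (r0 ^ f) ^ 2 := by
    calc 2 * Nat.gcd n (r0 ^ f + 1) * f = Nat.gcd n (r0 ^ f + 1) * (2 * f) := by ring
      _ ≤ (r0 ^ f + 1) * r0 ^ f := Nat.mul_le_mul hg h2f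
      _ ≤ 2 * (r0 ^ f) ^ 2 := by nlinarith only []
  have hcube : (2 * Nat.gcd n (r0 ^ f + 1) * f) ^ 3 ≤ (r0 ^ f) ^ 9 := by
    calc (2 * Nat.gcd n (r0 ^ f + 1) * f) ^ 3 ≤ (2 * (r0 ^ f) ^ 2) ^ 3 := Nat.pow_le_pow_left h1 3
      _ = 2 ^ 3 * (r0 ^ f) ^ 6 := by ring
      _ ≤ (r0 ^ f) ^ 3 * (r0 ^ f) ^ 6 := Nat.mul_le_mul_right _ (Nat.pow_le_pow_left hr2 3)
      _ = (r0 ^ f) ^ 9 := by ring
  obtain ⟨N, hN⟩ : ∃ N, N = n * (n - 1) / 2 := ⟨_, rfl⟩
  have hN2 : 2 * N = n * (n - 1) := by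
    rw [hN]
    exact Nat.mul_div_cancel' (by
      obtain ⟨k, rfl⟩ : ∃ k, n = k + 1 := ⟨n - 1, by omega⟩
      rw [Nat.add_sub_cancel, mul_comm]
      exact (Nat.even_mul_succ_self k).two_dvd)
  have hn4 : n * 4 ≤ n * (n - 1) := Nat.mul_le_mul_left _ (by omega)
  rw [← hN] at hord ⊢
  have hcN : (2 * Nat.gcd n (r0 ^ f + 1) * f) ^ 3 ≤ (r0 ^ f) ^ N :=
    hcube.trans (Nat.pow_le_pow_right (by omega) (by omega))
  rcases hn.eq_or_lt with rfl | hn
  · have hN10 : N = 10 := by omega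
    subst hN10
    refine genSq (K := 20) hr0 hf (by norm_num) (by norm_num) ?_ (fun F h => by omega) hpd (fun c => by (clear * -; solve | lia | omega)) ?_ ?_
      (by positivity) ?_
    · have : 2 ^ 10 ≤ (r0 ^ f) ^ 10 := Nat.pow_le_pow_left hr2 _
      norm_num at this
      omega
    · rintro c ⟨h1, h2, h3⟩ h4
      have := Nat.le_of_dvd (by omega) h4
      omega
    · rintro c ⟨h1, h2, h3⟩ ⟨h4, -⟩
      have := Nat.le_of_dvd (by omega) h4
      omega
    · refine hcN.trans ?_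
      have : 1 ≤ (r0 ^ f) ^ 10 := Nat.one_le_pow _ _ (by omega)
      nlinarith only []
  · have hn5 : n * 5 ≤ n * (n - 1) := Nat.mul_le_mul_left _ (by omega)
    refine genT1 hr0 hf (by omega) ?_ hpd ?_ ?_ (by positivity) hcN
    · rintro ⟨-, h⟩
      have : N ≤ N * f := Nat.le_mul_of_pos_right _ hf
      omega
    · rintro c ⟨h1, h2, -⟩ h3
      have := Nat.le_of_dvd (by omega) h3
      omega
    · rintro c ⟨h1, h2, -⟩ ⟨h3, -⟩
      have := Nat.le_of_dvd (by omega) h3
      omega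

/-! ### exceptional groups -/

/-- exceptional families, generic case -/
theorem exc_NF3 {r0 f N ord num : ℕ} {Lp Lm : List ℕ} (hr0 : r0.Prime) (hf : 1 ≤ f) (hN : 24 ≤ N)
    (hpd : PD (r0 ^ f) f (fun c => c ∈ Lp) (fun c => c ∈ Lm) num) (hord : ord ∣ num)
    (hLp : ∀ c ∈ Lp, ¬ N ∣ c) (hLm : ∀ c ∈ Lm, ¬ N ∣ 2 * c) : NF3 ((r0 ^ f) ^ N) ord (6 * f) := by
  have hr2 : 2 ≤ r0 ^ f := hr0.two_le.trans (Nat.le_self_pow (by omega) _)
  have h2f : 2 * f ≤ r0 ^ f := two_mul_le_pow hr0.two_le hf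
  have hNf : N ≤ N * f := Nat.le_mul_of_pos_right _ hf
  exact genT1 hr0 hf (by omega) (by omega) ((hpd.of_dvd hord).mul (PD.c6.mul (PD.le_f (x := f) (by omega) le_rfl)))
    hLp (fun c hc h => hLm c hc h.1) (by omega) (cubeB (B := 2) (k := 9) hr2 (by norm_num) h2f (by omega) (by norm_num))

/-- exceptional families, `N = 6, 12` -/
theorem exc_NF3' {r0 f N K ord num : ℕ} {Lp Lm : List ℕ} (hr0 : r0.Prime) (hf : 1 ≤ f) (hN : 6 ≤ N) (hN6 : 6 ∣ N)
    (hpd : PD (r0 ^ f) f (fun c => c ∈ Lp) (fun c => c ∈ Lm) num) (hord : ord ∣ num)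
    (hK : ∀ c, 2 * N ∣ 3 * c ↔ K ∣ c)
    (hLp : ∀ c ∈ Lp, ¬ K ∣ c) (hLm : ∀ c ∈ Lm, ¬ K ∣ 2 * c) : NF3 ((r0 ^ f) ^ N) ord (6 * f) := by
  have hr2 : 2 ≤ r0 ^ f := hr0.two_le.trans (Nat.le_self_pow (by omega) _)
  have h2f : 2 * f ≤ r0 ^ f := two_mul_le_pow hr0.two_le hf
  have hNf : N ≤ N * f := Nat.le_mul_of_pos_right _ hf
  refine genSq (K := K) hr0 hf (by omega) (by omega) ?_ (fun F h => ?_)
    ((hpd.of_dvd hord).mul (PD.c6.mul (PD.le_f (x := f) (by omega) le_rfl))) hK hLp (fun c hc h => hLm c hc h.1)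
    (by omega) ?_
  · have h1 : 2 ^ 6 ≤ (r0 ^ f) ^ 6 := Nat.pow_le_pow_left hr2 6
    have h2 : (r0 ^ f) ^ 6 ≤ (r0 ^ f) ^ N := Nat.pow_le_pow_right (by omega) hN
    norm_num at h1
    omega
  · obtain ⟨k, hk⟩ := hN6
    have h1 : F = 2 * (k * f) := by
      have : 3 * F = 3 * (2 * (k * f)) := by rw [← h, hk]; ring
      omega
    refine ⟨⟨_, h1⟩, ?_⟩
    have : f ≤ k * f := Nat.le_mul_of_pos_left _ (by omega)
    omega
  · rw [← pow_mul]
    exact cubeB (B := 2) (k := 9) hr2 (by norm_num) h2f (by omega) (by norm_num)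

section

variable {r0 f ord : ℕ} (hr0 : r0.Prime) (hf : 1 ≤ f)

include hr0 hf

theorem f4_NF3 (hord : ord ∣ (r0 ^ f) ^ 24 * ((r0 ^ f) ^ 2 - 1) * ((r0 ^ f) ^ 6 - 1) * ((r0 ^ f) ^ 8 - 1) *
    ((r0 ^ f) ^ 12 - 1)) : NF3 ((r0 ^ f) ^ 24) ord (6 * f) := by
  refine exc_NF3 (Lp := [2, 6, 8, 12]) (Lm := []) hr0 hf le_rfl ?_ hord (by decide) (by decide)
  repeat' with_reducible apply PD.mul
  · exact PD.base.pow _
  all_goals exact PD.plus (by decide)

theorem e6_NF3 (hord : ord ∣ (r0 ^ f) ^ 36 * ((r0 ^ f) ^ 2 - 1) * ((r0 ^ f) ^ 5 - 1) * ((r0 ^ f) ^ 6 - 1) *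
    ((r0 ^ f) ^ 8 - 1) * ((r0 ^ f) ^ 9 - 1) * ((r0 ^ f) ^ 12 - 1)) : NF3 ((r0 ^ f) ^ 36) ord (6 * f) := by
  refine exc_NF3 (Lp := [2, 5, 6, 8, 9, 12]) (Lm := []) hr0 hf (by norm_num) ?_ hord (by decide) (by decide)
  repeat' with_reducible apply PD.mul
  · exact PD.base.pow _
  all_goals exact PD.plus (by decide)

theorem e7_NF3 (hord : ord ∣ (r0 ^ f) ^ 63 * ((r0 ^ f) ^ 2 - 1) * ((r0 ^ f) ^ 6 - 1) * ((r0 ^ f) ^ 8 - 1) *
    ((r0 ^ f) ^ 10 - 1) * ((r0 ^ f) ^ 12 - 1) * ((r0 ^ f) ^ 14 - 1) * ((r0 ^ f) ^ 18 - 1)) :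
    NF3 ((r0 ^ f) ^ 63) ord (6 * f) := by
  refine exc_NF3 (Lp := [2, 6, 8, 10, 12, 14, 18]) (Lm := []) hr0 hf (by norm_num) ?_ hord (by decide) (by decide)
  repeat' with_reducible apply PD.mul
  · exact PD.base.pow _
  all_goals exact PD.plus (by decide)

theorem e8_NF3 (hord : ord ∣ (r0 ^ f) ^ 120 * ((r0 ^ f) ^ 2 - 1) * ((r0 ^ f) ^ 8 - 1) * ((r0 ^ f) ^ 12 - 1) *
    ((r0 ^ f) ^ 14 - 1) * ((r0 ^ f) ^ 18 - 1) * ((r0 ^ f) ^ 20 - 1) * ((r0 ^ f) ^ 24 - 1) * ((r0 ^ f) ^ 30 - 1)) :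
    NF3 ((r0 ^ f) ^ 120) ord (6 * f) := by
  refine exc_NF3 (Lp := [2, 8, 12, 14, 18, 20, 24, 30]) (Lm := []) hr0 hf (by norm_num) ?_ hord (by decide)
    (by decide)
  repeat' with_reducible apply PD.mul
  · exact PD.base.pow _
  all_goals exact PD.plus (by decide)

theorem te6_NF3 (hord : ord ∣ (r0 ^ f) ^ 36 * ((r0 ^ f) ^ 2 - 1) * ((r0 ^ f) ^ 5 + 1) * ((r0 ^ f) ^ 6 - 1) *
    ((r0 ^ f) ^ 8 - 1) * ((r0 ^ f) ^ 9 + 1) * ((r0 ^ f) ^ 12 - 1)) : NF3 ((r0 ^ f) ^ 36) ord (6 * f) := by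
  refine exc_NF3 (Lp := [2, 6, 8, 12]) (Lm := [5, 9]) hr0 hf (by norm_num) ?_ hord (by decide) (by decide)
  repeat' with_reducible apply PD.mul
  · exact PD.base.pow _
  · exact PD.plus (by decide)
  · exact PD.minus (by decide)
  · exact PD.plus (by decide)
  · exact PD.plus (by decide)
  · exact PD.minus (by decide)
  · exact PD.plus (by decide)

theorem g2_NF3 (hord : ord ∣ (r0 ^ f) ^ 6 * ((r0 ^ f) ^ 2 - 1) * ((r0 ^ f) ^ 6 - 1)) :
    NF3 ((r0 ^ f) ^ 6) ord (6 * f) := by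
  refine exc_NF3' (K := 4) (Lp := [2, 6]) (Lm := []) hr0 hf le_rfl (by norm_num) ?_ hord (fun c => by omega)
    (by decide) (by decide)
  repeat' with_reducible apply PD.mul
  · exact PD.base.pow _
  all_goals exact PD.plus (by decide)

theorem td4_NF3 (hord : ord ∣ (r0 ^ f) ^ 12 * ((r0 ^ f) ^ 2 - 1) * ((r0 ^ f) ^ 6 - 1) *
    ((r0 ^ f) ^ 8 + (r0 ^ f) ^ 4 + 1)) : NF3 ((r0 ^ f) ^ 12) ord (6 * f) := by
  have h12 : (r0 ^ f) ^ 8 + (r0 ^ f) ^ 4 + 1 ∣ (r0 ^ f) ^ 12 - 1 := by
    refine ⟨(r0 ^ f) ^ 4 - 1, ?_⟩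
    have h0 : 1 ≤ r0 ^ f := Nat.one_le_pow _ _ hr0.pos
    generalize r0 ^ f = r at h0
    have h := cube_sub (r ^ 4) (Nat.one_le_pow _ _ h0)
    rw [← pow_mul, ← pow_mul] at h
    norm_num at h
    rw [← h, Nat.add_sub_cancel, mul_comm]
  refine exc_NF3' (K := 8) (Lp := [2, 6, 12]) (Lm := []) hr0 hf (by norm_num) (by norm_num) ?_ hord
    (fun c => by omega) (by decide) (by decide)
  repeat' with_reducible apply PD.mul
  · exact PD.base.pow _
  · exact PD.plus (by decide)
  · exact PD.plus (by decide)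
  · exact (PD.plus (c := 12) (by decide)).of_dvd h12

theorem tf4_NF3 (hord : ord ∣ (r0 ^ f) ^ 12 * (r0 ^ f - 1) * ((r0 ^ f) ^ 3 + 1) * ((r0 ^ f) ^ 4 - 1) *
    ((r0 ^ f) ^ 6 + 1)) : NF3 ((r0 ^ f) ^ 12) ord (6 * f) := by
  refine exc_NF3' (K := 8) (Lp := [1, 4]) (Lm := [3, 6]) hr0 hf (by norm_num) (by norm_num) ?_ hord
    (fun c => by omega) (by decide) (by decide)
  repeat' with_reducible apply PD.mul
  · exact PD.base.pow _
  · have := PD.plus (r := r0 ^ f) (f := f) (Lp := fun c => c ∈ [1, 4]) (Lm := fun c => c ∈ [3, 6]) (c := 1)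
      (by decide)
    rwa [pow_one] at this
  · exact PD.minus (by decide)
  · exact PD.plus (by decide)
  · exact PD.minus (by decide)

end

/-! ### the Suzuki and small Ree groups -/

theorem sz_NF3 {m ord : ℕ} (hm : 1 ≤ m)
    (hc : ord = (2 ^ (2 * m + 1)) ^ 2 * (2 ^ (2 * m + 1) - 1) * ((2 ^ (2 * m + 1)) ^ 2 + 1)) :
    NF3 ((2 ^ (2 * m + 1)) ^ 2) ord (2 * m + 1) := by
  obtain ⟨f, hf⟩ : ∃ f, f = 2 * m + 1 := ⟨_, rfl⟩
  rw [← hf] at hc ⊢
  have hf3 : 3 ≤ f := by omega
  have h2f : 2 * f ≤ 2 ^ f := two_mul_le_pow le_rfl (by omega)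
  have hpw : (2 ^ f) ^ 2 = 2 ^ (2 * f) := by rw [← pow_mul, mul_comm]
  have hpd : PD (2 ^ f) f (fun c => c ∈ [1]) (fun c => c ∈ [2]) (ord * f) := by
    refine PD.mul ?_ (PD.le_f (by omega) le_rfl)
    rw [hc]
    repeat' with_reducible apply PD.mul
    · exact PD.base.pow _
    · have := PD.plus (r := 2 ^ f) (f := f) (Lp := fun c => c ∈ [1]) (Lm := fun c => c ∈ [2]) (c := 1)
        (by decide)
      rwa [pow_one] at this
    · exact PD.minus (by decide)
  rw [hpw]
  have h64 : 64 ≤ 2 ^ (2 * f) := by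
    calc 64 = 2 ^ 6 := by norm_num
      _ ≤ 2 ^ (2 * f) := Nat.pow_le_pow_right (by norm_num) (by omega)
  refine nf3_of Nat.prime_two (by omega) (by omega) ?_ ?_
  · intro F hMF hF h3 hIM _ h1
    by_cases h6 : 2 * f = 6
    · have hf3 : f = 3 := by (clear * - h6; omega)
      have hF2 : F = 2 := by omega
      rw [hf3] at hc
      rw [hF2] at hIM
      have h13 : 13 ∣ ord := by rw [hc]; decide
      have := hIM 13 (by norm_num) h13
      revert this
      decide
    · refine pzd1 Nat.prime_two (by omega) (fun h => h6 h.2) ?_ (by omega) hMF ?_ h1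
      · exact zd_of_pd (by norm_num) (by omega) (by norm_num) (by omega) hpd (by decide) (by decide)
      · have := two_mul_le_pow (le_refl 2) (show 1 ≤ F by omega)
        omega
  · intro p F _ _ _ _ h _
    exact neven (dvd_pow_self 2 (by omega)) h

theorem ree_NF3 {m ord : ℕ} (hm : 1 ≤ m)
    (hord : ord ∣ (3 ^ (2 * m + 1)) ^ 3 * (3 ^ (2 * m + 1) - 1) * ((3 ^ (2 * m + 1)) ^ 3 + 1)) :
    NF3 ((3 ^ (2 * m + 1)) ^ 3) ord (2 * m + 1) := by
  obtain ⟨f, hf⟩ : ∃ f, f = 2 * m + 1 := ⟨_, rfl⟩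
  rw [← hf] at hord ⊢
  have hf3 : 3 ≤ f := by omega
  have h2f : 2 * f ≤ 3 ^ f := two_mul_le_pow (by norm_num) (by omega)
  have hpw : (3 ^ f) ^ 3 = 3 ^ (3 * f) := by rw [← pow_mul, mul_comm]
  have hpd : PD (3 ^ f) f (fun c => c ∈ [1]) (fun c => c ∈ [3]) (ord * f) := by
    refine PD.mul (PD.of_dvd ?_ hord) (PD.le_f (by omega) le_rfl)
    repeat' with_reducible apply PD.mul
    · exact PD.base.pow _
    · have := PD.plus (r := 3 ^ f) (f := f) (Lp := fun c => c ∈ [1]) (Lm := fun c => c ∈ [3]) (c := 1)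
        (by decide)
      rwa [pow_one] at this
    · exact PD.minus (by decide)
  have hZ : Zd 3 (3 * f) (ord * f) := zd_of_pd (by norm_num) (by omega) (by norm_num) (by omega) hpd (by decide)
    (by decide)
  have h3f : 3 ^ f ≤ 3 ^ (3 * f) := Nat.pow_le_pow_right (by norm_num) (by omega)
  rw [hpw]
  refine nf3_of Nat.prime_three (by omega) ?_ ?_ ?_
  · intro h
    have : 3 ∣ 16 := by rw [← h]; exact dvd_pow_self 3 (by omega)
    omega
  · intro F hMF hF h3 _ _ h1
    have hFf : F = f := by omega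
    subst hFf
    exact pzd1 Nat.prime_three (by omega) (by omega) hZ (by omega) hMF (by omega) h1
  · exact nzd Nat.prime_three (by omega) (by omega) hZ (by omega) (by omega)

end Cfsg.Agent.H691.T3.Fam
end

-- part: H691/T3/Lie
section
/-!
# `NF3` for the simple groups of Lie type (helper691)

`Conc` : a simple group of Lie type in characteristic `p`, not `PSL₂`, `PSL₃`, `PSL₄(2)`, satisfies the negative
criterion for the order of its Sylow `p`-subgroups.
-/

set_option autoImplicit false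

namespace Cfsg.Agent.H691.T3.Lie

open Cfsg Cfsg.Agent.H934.OutB Matrix
open Cfsg.Agent.H691.Lie (card_sylow nd_mul nd_sub nd_add nd_prod nd_of_dvd exists_deg five_le two_le_pow exists_deg_pow
  finite_of_card)

universe u

/-- the conclusion -/
def Conc (p : ℕ) (S : Type u) [Group S] : Prop :=
  ∃ s out : ℕ, 5 ≤ s ∧ (∀ Q : Sylow p S, Nat.card Q = s) ∧ 0 < out ∧ Nat.card (Cfsg.Out S) ∣ out ∧ NF3 s (Nat.card S) out

theorem Conc.congr {p : ℕ} [Fact p.Prime] {X : Type u} {Y : Type*} [Group X] [Group Y] [Finite Y]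
    (h : Conc p X) (e : Y ≃* X) : Conc p Y := by
  obtain ⟨s, out, h0, h1, h2, h3, h4⟩ := h
  refine ⟨s, out, h0, fun Q => ?_, h2, ?_, ?_⟩
  · have hQ : Nat.card ((Q : Subgroup Y).map e.toMonoidHom) = Nat.card Q :=
      Subgroup.card_map_of_injective e.injective
    have h5 : ∀ Q' : Sylow p X, Nat.card Q' = s := h1
    have h6 := h5 (Q.mapSurjective (f := e.toMonoidHom) e.surjective)
    rw [← hQ]
    exact h6
  · rw [card_out_congr e]
    exact h3
  · rw [Nat.card_congr e.toEquiv]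
    exact h4

/-! ### the classical groups -/

section

variable {p : ℕ} {F : Type u} [Field F] [Fintype F] [CharP F p]

theorem psl {n : ℕ} (hn : 4 ≤ n) [IsSimpleGroup (ProjectiveSpecialLinearGroup (Fin n) F)]
    (hna : ¬ IsMulCommutative (ProjectiveSpecialLinearGroup (Fin n) F))
    (hx : ¬ (n = 4 ∧ Fintype.card F = 2)) : Conc p (ProjectiveSpecialLinearGroup (Fin n) F) := by
  obtain ⟨f, hp, hf, hF⟩ := exists_deg (F := F) (p := p)
  have := Fact.mk hp
  have := H934.OutCl.finite_psl (F := F) n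
  have h1 := Cfsg.Agent.S0813.result (F := F) p f hf hF n (by omega) (by omega)
  rw [if_neg (by omega), H934.OutCl.card_pgl (by omega), ← mul_assoc] at h1
  have h2 := card_out_of_aut hna h1
  have h3 := S0243.result (F := F) rfl n (by omega)
  rw [Fin.prod_univ_eq_prod_range (fun i => Fintype.card F ^ n - Fintype.card F ^ i) n, hF] at h3
  have hq0 : p ^ f ≠ 0 := pow_ne_zero _ hp.ne_zero
  have hpq : p ∣ p ^ f := dvd_pow_self p (by omega)
  have hd1 : ¬ p ∣ p ^ f - 1 := by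
    have := nd_sub (k := 1) hp hpq hq0 one_ne_zero
    rwa [pow_one] at this
  have hn3 : 3 ≤ n * (n - 1) / 2 := by
    have : n * 2 ≤ n * (n - 1) := Nat.mul_le_mul_left _ (by omega)
    omega
  refine ⟨(p ^ f) ^ (n * (n - 1) / 2), 2 * Nat.gcd n (p ^ f - 1) * f, five_le (two_le_pow hp hf) hn3, ?_, ?_, ?_, ?_⟩
  · have e1 : ∏ i ∈ Finset.range n, ((p ^ f) ^ n - (p ^ f) ^ i) =
        p ^ (f * (n * (n - 1) / 2)) * ∏ i ∈ Finset.range n, ((p ^ f) ^ (n - i) - 1) := by
      rw [← Finset.sum_range_id n, Finset.mul_sum, ← Finset.prod_pow_eq_pow_sum, ← Finset.prod_mul_distrib]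
      apply Finset.prod_congr rfl
      intro i hi
      rw [Finset.mem_range] at hi
      rw [pow_mul, Nat.mul_sub, ← pow_add, mul_one]
      congr 2
      omega
    rw [e1, ← mul_assoc] at h3
    intro Q
    rw [card_sylow hp h3 (nd_mul hp (nd_of_dvd hd1 (Nat.gcd_dvd_right _ _)) hd1) ?_ Q, pow_mul]
    apply nd_prod hp
    intro i hi
    rw [Finset.mem_range] at hi
    exact nd_sub hp hpq hq0 (by omega)
  · have : 0 < Nat.gcd n (p ^ f - 1) := Nat.gcd_pos_of_pos_left _ (by omega)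
    positivity
  · rw [h2, hF]
    exact dvd_of_eq (by ring)
  · refine Fam.psl_NF3 hp hf hn (by rwa [hF] at hx) ?_
    rw [← h3, ← mul_assoc]
    exact Dvd.intro_left _ rfl

theorem psp {m : ℕ} (hm : 2 ≤ m) (h3 : m = 2 → 3 ≤ Fintype.card F) [IsSimpleGroup (Cfsg.PSp m F)]
    (hna : ¬ IsMulCommutative (Cfsg.PSp m F)) : Conc p (Cfsg.PSp m F) := by
  obtain ⟨f, hp, hf, hF⟩ := exists_deg (F := F) (p := p)
  have := Fact.mk hp
  have : Finite (symplecticGroup (Fin m) F) := Subtype.finite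
  have : Finite (Cfsg.PSp m F) := inferInstance
  have h1 := Cfsg.Agent.S0814.result (F := F) p f hf hF m hm (by rwa [hF] at h3)
  have h2 := card_out_of_aut hna h1
  have hq0 : p ^ f ≠ 0 := pow_ne_zero _ hp.ne_zero
  have hpq : p ∣ p ^ f := dvd_pow_self p (by omega)
  have hd1 : ¬ p ∣ p ^ f - 1 := by
    have := nd_sub (k := 1) hp hpq hq0 one_ne_zero
    rwa [pow_one] at this
  have hc : Nat.gcd 2 (p ^ f - 1) * Nat.card (PSp m F) =
      (p ^ f) ^ (m ^ 2) * ∏ i ∈ Finset.range m, ((p ^ f) ^ (2 * (i + 1)) - 1) := by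
    have h1 := S0245.result (F := F) rfl m
    have h2 := S0246.result (F := F) rfl m (by omega)
    have h3 := Subgroup.card_eq_card_quotient_mul_card_subgroup
      (Subgroup.center (Matrix.symplecticGroup (Fin m) F))
    rw [h1, h2, hF] at h3
    rw [mul_comm]
    exact h3.symm
  refine ⟨(p ^ f) ^ (m ^ 2), 4 * f, five_le (two_le_pow hp hf) (by nlinarith only [hm]), ?_, by omega, ?_, ?_⟩
  · intro Q
    rw [← pow_mul] at hc ⊢
    refine card_sylow hp hc (nd_of_dvd hd1 (Nat.gcd_dvd_right _ _)) ?_ Q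
    exact nd_prod hp _ fun i _ => nd_sub hp hpq hq0 (by omega)
  · rw [h2]
    apply Nat.mul_dvd_mul_right
    have hg : Nat.gcd 2 (p ^ f - 1) ∣ 2 := Nat.gcd_dvd_left _ _
    have h5 : (if m = 2 ∧ p = 2 then 2 else 1) ∣ 2 := by split_ifs <;> norm_num
    exact (Nat.mul_dvd_mul h5 hg)
  · exact Fam.psp_NF3 hp hf hm (by rwa [hF] at h3) (by rw [← hc]; exact Dvd.intro_left _ rfl)

theorem psu {n q : ℕ} (hF : Fintype.card F = q ^ 2) (hn : 3 ≤ n) (h32 : ¬ (n = 3 ∧ q = 2))
    [IsSimpleGroup (Cfsg.PSU n F q)] (hna : ¬ IsMulCommutative (Cfsg.PSU n F q)) : Conc p (Cfsg.PSU n F q) := by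
  obtain ⟨f', hp, hf', hF'⟩ := exists_deg (F := F) (p := p)
  have := Fact.mk hp
  obtain ⟨f, -, hq⟩ : ∃ f ≤ f', q = p ^ f := (Nat.dvd_prime_pow hp).1 (by
    rw [← hF', hF]; exact dvd_pow_self q (by norm_num))
  have hf : 1 ≤ f := by
    by_contra h0
    have : f = 0 := by omega
    subst this
    rw [hq, pow_zero, one_pow] at hF
    have := Fintype.one_lt_card (α := F)
    omega
  have : Finite (Cfsg.PSU n F q) := inferInstance
  have h1 := Cfsg.Agent.S0815.result (F := F) p f hf hq hF n hn h32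
  have h2 := card_out_of_aut hna h1
  have hc := S0280.result hF n (by omega)
  rw [← mul_assoc] at hc
  have hpq : p ∣ q := by rw [hq]; exact dvd_pow_self p (by omega)
  have hq0 : q ≠ 0 := by rw [hq]; exact pow_ne_zero _ hp.ne_zero
  have hd1 : ¬ p ∣ q + 1 := by
    have := nd_add (k := 1) hp hpq one_ne_zero
    rwa [pow_one] at this
  have hn3 : 3 ≤ n * (n - 1) / 2 := by
    have : n * 2 ≤ n * (n - 1) := Nat.mul_le_mul_left _ (by omega)
    omega
  refine ⟨q ^ (n * (n - 1) / 2), 2 * Nat.gcd n (q + 1) * f, five_le (hq ▸ two_le_pow hp hf) hn3, ?_, ?_, ?_, ?_⟩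
  · intro Q
    have hc' := hc
    rw [hq, ← pow_mul, ← hq] at hc'
    rw [card_sylow hp hc' (nd_mul hp (nd_of_dvd hd1 (Nat.gcd_dvd_right _ _)) hd1) ?_ Q, hq, pow_mul]
    apply nd_prod hp
    intro i _
    split_ifs
    · exact nd_add hp hpq (by omega)
    · exact nd_sub hp hpq hq0 (by omega)
  · have : 0 < Nat.gcd n (q + 1) := Nat.gcd_pos_of_pos_left _ (by omega)
    positivity
  · rw [h2]
    exact dvd_of_eq (by ring)
  · rw [hq] at h32 hc ⊢
    rcases hn.eq_or_lt with rfl | hn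
    · exact Fam.psu3_NF3 hp hf (fun h => h32 ⟨rfl, h⟩) hc
    rcases (show 4 ≤ n by omega).eq_or_lt with rfl | hn
    · exact Fam.psu4_NF3 hp hf (by rw [← hc]; exact Dvd.intro_left _ rfl)
    · exact Fam.psu5_NF3 hp hf (by omega) (by rw [← hc]; exact Dvd.intro_left _ rfl)

theorem oodd {m : ℕ} (hm : 3 ≤ m) (ho : Odd (Fintype.card F)) [IsSimpleGroup (POmega F (quadFormOdd m F))]
    (hna : ¬ IsMulCommutative (POmega F (quadFormOdd m F))) : Conc p (POmega F (quadFormOdd m F)) := by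
  obtain ⟨f, hp, hf, hF⟩ := exists_deg (F := F) (p := p)
  have := Fact.mk hp
  have : Finite (Cfsg.isometryGroup F (Cfsg.quadFormOdd m F)) := inferInstance
  have : Finite (Cfsg.POmega F (Cfsg.quadFormOdd m F)) := inferInstance
  have hpo : Odd p := by
    have ho' := ho
    rw [hF] at ho'
    exact Nat.Odd.of_mul_left (n := p ^ (f - 1)) (by rwa [← pow_succ', Nat.sub_add_cancel hf])
  have h1 := Cfsg.Agent.S0816.result (F := F) p f hf hF hpo m hm
  have h2 := card_out_of_aut hna h1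
  have hq0 : p ^ f ≠ 0 := pow_ne_zero _ hp.ne_zero
  have hpq : p ∣ p ^ f := dvd_pow_self p (by omega)
  have hc := S0292.result (F := F) rfl ho m hm
  rw [hF] at hc
  have hp2 : ¬ p ∣ 2 := by
    intro h
    rw [(Nat.prime_dvd_prime_iff_eq hp Nat.prime_two).1 h] at hpo
    exact absurd hpo (by decide)
  refine ⟨(p ^ f) ^ (m ^ 2), 4 * f, five_le (two_le_pow hp hf) (by nlinarith only [hm]), ?_, by omega, ?_, ?_⟩
  · intro Q
    rw [← pow_mul] at hc ⊢
    refine card_sylow hp hc hp2 ?_ Q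
    exact nd_prod hp _ fun i _ => nd_sub hp hpq hq0 (by omega)
  · rw [h2]
    apply Nat.mul_dvd_mul_right
    norm_num
  · exact Fam.psp_NF3 hp hf (by omega) (by omega) (by rw [← hc]; exact Dvd.intro_left _ rfl)

theorem oplus {m : ℕ} (hm : 4 ≤ m) [IsSimpleGroup (POmega F (quadFormPlus m F))]
    (hna : ¬ IsMulCommutative (POmega F (quadFormPlus m F))) : Conc p (POmega F (quadFormPlus m F)) := by
  obtain ⟨f, hp, hf, hF⟩ := exists_deg (F := F) (p := p)
  have := Fact.mk hp
  have : Finite (Cfsg.isometryGroup F (Cfsg.quadFormPlus m F)) := inferInstance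
  have : Finite (Cfsg.POmega F (Cfsg.quadFormPlus m F)) := inferInstance
  have h1 := Cfsg.Agent.S0817.result (F := F) p f hf hF m hm
  have h2 := card_out_of_aut hna h1
  have hq0 : p ^ f ≠ 0 := pow_ne_zero _ hp.ne_zero
  have hpq : p ∣ p ^ f := dvd_pow_self p (by omega)
  have hc := S0293.result (F := F) rfl m hm
  rw [hF] at hc
  have hc2 : Nat.gcd 4 ((p ^ f) ^ m - 1) * Nat.card (POmega F (quadFormPlus m F)) =
      (p ^ f) ^ (m * (m - 1)) * (((p ^ f) ^ m - 1) * ∏ i ∈ Finset.range (m - 1), ((p ^ f) ^ (2 * (i + 1)) - 1)) := by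
    rw [← mul_assoc ((p ^ f) ^ (m * (m - 1)))]
    exact hc
  have hm3 : 3 ≤ m * (m - 1) := le_trans (by norm_num) (Nat.mul_le_mul hm (show 3 ≤ m - 1 by omega))
  refine ⟨(p ^ f) ^ (m * (m - 1)), Fam.oc p * f, five_le (two_le_pow hp hf) hm3, ?_,
    Nat.mul_pos (Fam.oc_pos _) (by omega), ?_, ?_⟩
  · intro Q
    rw [← pow_mul p f (m * (m - 1))] at hc2 ⊢
    refine card_sylow hp hc2 (nd_of_dvd (nd_sub hp hpq hq0 (k := m) (by omega)) (Nat.gcd_dvd_right _ _))
      (nd_mul hp (nd_sub hp hpq hq0 (by omega)) ?_) Q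
    exact nd_prod hp _ fun i _ => nd_sub hp hpq hq0 (by omega)
  · rw [h2]
    apply Nat.mul_dvd_mul_right
    unfold Fam.oc
    by_cases hp2 : p = 2
    · rw [if_pos hp2, if_pos hp2]
      split_ifs <;> norm_num
    · rw [if_neg hp2, if_neg hp2]
      split_ifs <;> norm_num
  · exact Fam.oplus_NF3 hp hf hm (by rw [← hc2]; exact Dvd.intro_left _ rfl)

theorem ominus {m : ℕ} (hm : 4 ≤ m) {a b : F}
    (hab : ∀ z₁ z₂ : F, z₁ ^ 2 + a * z₁ * z₂ + b * z₂ ^ 2 = 0 → z₁ = 0 ∧ z₂ = 0)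
    [IsSimpleGroup (POmega F (quadFormMinus (m - 1) F a b))]
    (hna : ¬ IsMulCommutative (POmega F (quadFormMinus (m - 1) F a b))) :
    Conc p (POmega F (quadFormMinus (m - 1) F a b)) := by
  obtain ⟨f, hp, hf, hF⟩ := exists_deg (F := F) (p := p)
  have := Fact.mk hp
  have : Finite (Cfsg.isometryGroup F (Cfsg.quadFormMinus (m - 1) F a b)) := inferInstance
  have : Finite (Cfsg.POmega F (Cfsg.quadFormMinus (m - 1) F a b)) := inferInstance
  have h1 := Cfsg.Agent.S0818.result (F := F) p f hf hF m hm a b hab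
  have h2 := card_out_of_aut hna h1
  have hq0 : p ^ f ≠ 0 := pow_ne_zero _ hp.ne_zero
  have hpq : p ∣ p ^ f := dvd_pow_self p (by omega)
  have hc := S0294.result (F := F) rfl m hm a b hab
  rw [hF] at hc
  have hc2 : Nat.gcd 4 ((p ^ f) ^ m + 1) * Nat.card (POmega F (quadFormMinus (m - 1) F a b)) =
      (p ^ f) ^ (m * (m - 1)) * (((p ^ f) ^ m + 1) * ∏ i ∈ Finset.range (m - 1), ((p ^ f) ^ (2 * (i + 1)) - 1)) := by
    rw [← mul_assoc ((p ^ f) ^ (m * (m - 1)))]
    exact hc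
  have hm3 : 3 ≤ m * (m - 1) := le_trans (by norm_num) (Nat.mul_le_mul hm (show 3 ≤ m - 1 by omega))
  refine ⟨(p ^ f) ^ (m * (m - 1)), Fam.oc p * f, five_le (two_le_pow hp hf) hm3, ?_,
    Nat.mul_pos (Fam.oc_pos _) (by omega), ?_, ?_⟩
  · intro Q
    rw [← pow_mul p f (m * (m - 1))] at hc2 ⊢
    refine card_sylow hp hc2 (nd_of_dvd (nd_add hp hpq (k := m) (by omega)) (Nat.gcd_dvd_right _ _))
      (nd_mul hp (nd_add hp hpq (by omega)) ?_) Q
    exact nd_prod hp _ fun i _ => nd_sub hp hpq hq0 (by omega)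
  · rw [h2]
    apply Nat.mul_dvd_mul_right
    unfold Fam.oc
    by_cases hp2 : p = 2
    · rw [if_pos hp2, if_pos hp2]
      norm_num
    · rw [if_neg hp2, if_neg hp2]
      split_ifs <;> norm_num
  · exact Fam.ominus_NF3 hp hf hm (by rw [← hc2]; exact Dvd.intro_left _ rfl)

end

/-! ### the exceptional groups -/

/-- the general form -/
theorem exc {p N A f d Y : ℕ} (hp : p.Prime) {X : Type u} [Group X] [Finite X] (hf : 1 ≤ f) (hA : 0 < A)
    (hc : d * Nat.card X = (p ^ f) ^ N * Y) (hd : ¬ p ∣ d) (hY : ¬ p ∣ Y) (ho : Nat.card (Cfsg.Out X) ∣ A * f)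
    (hNF : NF3 ((p ^ f) ^ N) (Nat.card X) (A * f)) (h5 : 5 ≤ (p ^ f) ^ N) : Conc p X := by
  refine ⟨(p ^ f) ^ N, A * f, h5, fun Q => ?_, by positivity, ho, hNF⟩
  rw [← pow_mul] at hc ⊢
  exact card_sylow hp hc hd hY Q

section

variable {p : ℕ} {F : Type} [Field F] [Fintype F] [CharP F p]

theorem g2 (h3 : 3 ≤ Fintype.card F) [Finite ↥(Lie.chevG2.group F)] : Conc p ↥(Lie.chevG2.group F) := by
  obtain ⟨f, hp, hf, hF⟩ := exists_deg (F := F) (p := p)
  have := Fact.mk hp
  have h2 := S2121.result p f hF (by rwa [← hF])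
  have hc := S1059.result (F := F) hF
  have hq0 : p ^ f ≠ 0 := pow_ne_zero _ hp.ne_zero
  have hpq : p ∣ p ^ f := dvd_pow_self p (by omega)
  refine exc (A := 6) (d := 1) (Y := ((p ^ f) ^ 2 - 1) * ((p ^ f) ^ 6 - 1)) hp hf (by norm_num) (by rw [hc]; ring)
    (by simpa using hp.ne_one) (nd_mul hp (nd_sub hp hpq hq0 (by norm_num)) (nd_sub hp hpq hq0 (by norm_num))) ?_
    (Fam.g2_NF3 hp hf (dvd_of_eq hc)) (five_le (two_le_pow hp hf) (by norm_num))
  rw [h2]
  split_ifs
  · exact Nat.mul_dvd_mul_right (by norm_num) _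
  · exact Dvd.intro_left _ rfl

theorem f4 [Finite ↥(Lie.chevF4.group F)] : Conc p ↥(Lie.chevF4.group F) := by
  obtain ⟨f, hp, hf, hF⟩ := exists_deg (F := F) (p := p)
  have := Fact.mk hp
  have h2 := S2122.result p f hF
  have hc := S1062.result (F := F) hF
  have hq0 : p ^ f ≠ 0 := pow_ne_zero _ hp.ne_zero
  have hpq : p ∣ p ^ f := dvd_pow_self p (by omega)
  have hn : ∀ k : ℕ, k ≠ 0 → ¬ p ∣ (p ^ f) ^ k - 1 := fun k hk => nd_sub hp hpq hq0 hk
  refine exc (A := 6) (N := 24) (d := 1) (Y := ((p ^ f) ^ 2 - 1) * ((p ^ f) ^ 6 - 1) * ((p ^ f) ^ 8 - 1) *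
    ((p ^ f) ^ 12 - 1)) hp hf (by norm_num) (by rw [hc]; ring)
    (by simpa using hp.ne_one) ?_ ?_ (Fam.f4_NF3 hp hf (dvd_of_eq hc)) (five_le (two_le_pow hp hf) (by norm_num))
  · exact nd_mul hp (nd_mul hp (nd_mul hp (hn _ (by norm_num)) (hn _ (by norm_num))) (hn _ (by norm_num)))
      (hn _ (by norm_num))
  · rw [h2]
    exact Nat.mul_dvd_mul_right ((Nat.gcd_dvd_left _ _).trans (by norm_num)) _

theorem e6 [Finite ↥(Lie.chevE6.group F)] : Conc p ↥(Lie.chevE6.group F) := by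
  obtain ⟨f, hp, hf, hF⟩ := exists_deg (F := F) (p := p)
  have := Fact.mk hp
  have h2 := S2123.result p f hF
  have hc := S1063.result (F := F) hF
  have hq0 : p ^ f ≠ 0 := pow_ne_zero _ hp.ne_zero
  have hpq : p ∣ p ^ f := dvd_pow_self p (by omega)
  have hn : ∀ k : ℕ, k ≠ 0 → ¬ p ∣ (p ^ f) ^ k - 1 := fun k hk => nd_sub hp hpq hq0 hk
  have hd1 := hn 1 one_ne_zero
  rw [pow_one] at hd1
  refine exc (A := 6) (N := 36) (d := Nat.gcd 3 (p ^ f - 1)) (Y := ((p ^ f) ^ 2 - 1) * ((p ^ f) ^ 5 - 1) *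
    ((p ^ f) ^ 6 - 1) * ((p ^ f) ^ 8 - 1) * ((p ^ f) ^ 9 - 1) * ((p ^ f) ^ 12 - 1)) hp hf (by norm_num)
    (by rw [hc]; ring) (nd_of_dvd hd1 (Nat.gcd_dvd_right _ _)) ?_ ?_
    (Fam.e6_NF3 hp hf (by rw [← hc]; exact Dvd.intro_left _ rfl))
    (five_le (two_le_pow hp hf) (by norm_num))
  · exact nd_mul hp (nd_mul hp (nd_mul hp (nd_mul hp (nd_mul hp (hn _ (by norm_num)) (hn _ (by norm_num)))
      (hn _ (by norm_num))) (hn _ (by norm_num))) (hn _ (by norm_num))) (hn _ (by norm_num))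
  · rw [h2]
    exact Nat.mul_dvd_mul_right (Nat.mul_dvd_mul_left 2 (Nat.gcd_dvd_left 3 _)) _

theorem e7 [Finite ↥(Lie.chevE7.group F)] : Conc p ↥(Lie.chevE7.group F) := by
  obtain ⟨f, hp, hf, hF⟩ := exists_deg (F := F) (p := p)
  have := Fact.mk hp
  have h2 := S2124.result p f hF
  have hc := S1064.result (F := F) hF
  have hq0 : p ^ f ≠ 0 := pow_ne_zero _ hp.ne_zero
  have hpq : p ∣ p ^ f := dvd_pow_self p (by omega)
  have hn : ∀ k : ℕ, k ≠ 0 → ¬ p ∣ (p ^ f) ^ k - 1 := fun k hk => nd_sub hp hpq hq0 hk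
  have hd1 := hn 1 one_ne_zero
  rw [pow_one] at hd1
  refine exc (A := 6) (N := 63) (d := Nat.gcd 2 (p ^ f - 1)) (Y := ((p ^ f) ^ 2 - 1) * ((p ^ f) ^ 6 - 1) *
    ((p ^ f) ^ 8 - 1) * ((p ^ f) ^ 10 - 1) * ((p ^ f) ^ 12 - 1) * ((p ^ f) ^ 14 - 1) * ((p ^ f) ^ 18 - 1))
    hp hf (by norm_num) (by rw [hc]; ring) (nd_of_dvd hd1 (Nat.gcd_dvd_right _ _)) ?_ ?_
    (Fam.e7_NF3 hp hf (by rw [← hc]; exact Dvd.intro_left _ rfl))
    (five_le (two_le_pow hp hf) (by norm_num))
  · exact nd_mul hp (nd_mul hp (nd_mul hp (nd_mul hp (nd_mul hp (nd_mul hp (hn _ (by norm_num)) (hn _ (by norm_num)))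
      (hn _ (by norm_num))) (hn _ (by norm_num))) (hn _ (by norm_num))) (hn _ (by norm_num))) (hn _ (by norm_num))
  · rw [h2]
    exact Nat.mul_dvd_mul_right ((Nat.gcd_dvd_left 2 _).trans (by norm_num)) _

theorem e8 [Finite ↥(Lie.chevE8.group F)] : Conc p ↥(Lie.chevE8.group F) := by
  obtain ⟨f, hp, hf, hF⟩ := exists_deg (F := F) (p := p)
  have := Fact.mk hp
  have h2 := S2125.result p f hF
  have hc := S1065.result (F := F) hF
  have hq0 : p ^ f ≠ 0 := pow_ne_zero _ hp.ne_zero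
  have hpq : p ∣ p ^ f := dvd_pow_self p (by omega)
  have hn : ∀ k : ℕ, k ≠ 0 → ¬ p ∣ (p ^ f) ^ k - 1 := fun k hk => nd_sub hp hpq hq0 hk
  refine exc (A := 6) (N := 120) (d := 1) (Y := ((p ^ f) ^ 2 - 1) * ((p ^ f) ^ 8 - 1) *
    ((p ^ f) ^ 12 - 1) * ((p ^ f) ^ 14 - 1) * ((p ^ f) ^ 18 - 1) * ((p ^ f) ^ 20 - 1) * ((p ^ f) ^ 24 - 1) *
    ((p ^ f) ^ 30 - 1)) hp hf (by norm_num) (by rw [hc]; ring) (by simpa using hp.ne_one) ?_ ?_
    (Fam.e8_NF3 hp hf (dvd_of_eq hc)) (five_le (two_le_pow hp hf) (by norm_num))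
  · exact nd_mul hp (nd_mul hp (nd_mul hp (nd_mul hp (nd_mul hp (nd_mul hp (nd_mul hp (hn _ (by norm_num))
      (hn _ (by norm_num))) (hn _ (by norm_num))) (hn _ (by norm_num))) (hn _ (by norm_num))) (hn _ (by norm_num)))
      (hn _ (by norm_num))) (hn _ (by norm_num))
  · rw [h2]
    exact Dvd.intro_left _ rfl

end

section

variable {p : ℕ} {K : Type} [Field K] [Fintype K] [CharP K p]

theorem te6 {q : ℕ} (hq : IsPrimePow q) (hK : Fintype.card K = q ^ 2) [Finite ↥(Lie.twistedE6 K q)] :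
    Conc p ↥(Lie.twistedE6 K q) := by
  obtain ⟨f, hp, hf, rfl, hF⟩ := exists_deg_pow (K := K) (p := p) hq (by norm_num) hK
  have := Fact.mk hp
  have h2 := S2130.result p f hF hf
  have hc := S1066.result hq hK
  have hq0 : p ^ f ≠ 0 := pow_ne_zero _ hp.ne_zero
  have hpq : p ∣ p ^ f := dvd_pow_self p (by omega)
  have hn : ∀ k : ℕ, k ≠ 0 → ¬ p ∣ (p ^ f) ^ k - 1 := fun k hk => nd_sub hp hpq hq0 hk
  have hn' : ∀ k : ℕ, k ≠ 0 → ¬ p ∣ (p ^ f) ^ k + 1 := fun k hk => nd_add hp hpq hk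
  have hd1 := hn' 1 one_ne_zero
  rw [pow_one] at hd1
  refine exc (A := 6) (N := 36) (d := Nat.gcd 3 (p ^ f + 1)) (Y := ((p ^ f) ^ 2 - 1) * ((p ^ f) ^ 5 + 1) *
    ((p ^ f) ^ 6 - 1) * ((p ^ f) ^ 8 - 1) * ((p ^ f) ^ 9 + 1) * ((p ^ f) ^ 12 - 1)) hp hf (by norm_num)
    (by rw [hc]; ring) (nd_of_dvd hd1 (Nat.gcd_dvd_right _ _)) ?_ ?_
    (Fam.te6_NF3 hp hf (by rw [← hc]; exact Dvd.intro_left _ rfl))
    (five_le (two_le_pow hp hf) (by norm_num))
  · exact nd_mul hp (nd_mul hp (nd_mul hp (nd_mul hp (nd_mul hp (hn _ (by norm_num)) (hn' _ (by norm_num)))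
      (hn _ (by norm_num))) (hn _ (by norm_num))) (hn' _ (by norm_num))) (hn _ (by norm_num))
  · rw [h2]
    exact Nat.mul_dvd_mul_right (Nat.mul_dvd_mul_left 2 (Nat.gcd_dvd_left 3 _)) _

theorem td4 {q : ℕ} (hq : IsPrimePow q) (hK : Fintype.card K = q ^ 3) [Finite ↥(Lie.twistedD4 K q)] :
    Conc p ↥(Lie.twistedD4 K q) := by
  obtain ⟨f, hp, hf, rfl, hF⟩ := exists_deg_pow (K := K) (p := p) hq (by norm_num) hK
  have := Fact.mk hp
  have h2 := S2129.result p f hF hf
  have hc := S1067.result hq hK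
  have hq0 : p ^ f ≠ 0 := pow_ne_zero _ hp.ne_zero
  have hpq : p ∣ p ^ f := dvd_pow_self p (by omega)
  have hn : ∀ k : ℕ, k ≠ 0 → ¬ p ∣ (p ^ f) ^ k - 1 := fun k hk => nd_sub hp hpq hq0 hk
  refine exc (A := 6) (N := 12) (d := 1) (Y := ((p ^ f) ^ 2 - 1) * ((p ^ f) ^ 6 - 1) *
    ((p ^ f) ^ 8 + (p ^ f) ^ 4 + 1)) hp hf (by norm_num) (by rw [hc]; ring) (by simpa using hp.ne_one) ?_ ?_
    (Fam.td4_NF3 hp hf (dvd_of_eq hc)) (five_le (two_le_pow hp hf) (by norm_num))
  · refine nd_mul hp (nd_mul hp (hn _ (by norm_num)) (hn _ (by norm_num))) ?_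
    intro h
    have h1 : p ∣ (p ^ f) ^ 8 + (p ^ f) ^ 4 := dvd_add (hpq.trans (dvd_pow_self _ (by norm_num)))
      (hpq.trans (dvd_pow_self _ (by norm_num)))
    exact hp.one_lt.ne' (Nat.dvd_one.1 ((Nat.dvd_add_right h1).1 h))
  · rw [h2]
    exact Nat.mul_dvd_mul_right (by norm_num) _

end

theorem sz {K : Type} [Field K] [Fintype K] {m : ℕ} (hm : 1 ≤ m) (hK : Fintype.card K = 2 ^ (2 * m + 1))
    [Finite ↥(Lie.Sz K (2 ^ (m + 1)))] : Conc 2 ↥(Lie.Sz K (2 ^ (m + 1))) := by
  have h2 := S2126.result hm hK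
  have hc := (S1163.result hm hK).1
  have hpq : 2 ∣ 2 ^ (2 * m + 1) := dvd_pow_self 2 (by omega)
  have hq0 : 2 ^ (2 * m + 1) ≠ 0 := pow_ne_zero _ (by norm_num)
  have hd1 : ¬ 2 ∣ 2 ^ (2 * m + 1) - 1 := by
    have := nd_sub (k := 1) Nat.prime_two hpq hq0 one_ne_zero
    rwa [pow_one] at this
  refine exc (A := 1) (N := 2) (d := 1) (Y := (2 ^ (2 * m + 1) - 1) * ((2 ^ (2 * m + 1)) ^ 2 + 1)) Nat.prime_two
    (f := 2 * m + 1) (by omega) (by norm_num) (by rw [hc]; ring) (by norm_num)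
    (nd_mul Nat.prime_two hd1 (nd_add Nat.prime_two hpq (by norm_num))) ?_ ?_ ?_
  · rw [h2, one_mul]
  · rw [one_mul]
    exact Fam.sz_NF3 hm hc
  · rw [← pow_mul]
    exact five_le le_rfl (by omega)

theorem ree {K : Type} [Field K] [Fintype K] {m : ℕ} (hm : 1 ≤ m) (hK : Fintype.card K = 3 ^ (2 * m + 1))
    [Finite ↥(Lie.twistedG2 K (3 ^ m))] : Conc 3 ↥(Lie.twistedG2 K (3 ^ m)) := by
  have h2 := S2127.result hm hK
  have hc := S1069.result hK
  have hpq : 3 ∣ 3 ^ (2 * m + 1) := dvd_pow_self 3 (by omega)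
  have hq0 : 3 ^ (2 * m + 1) ≠ 0 := pow_ne_zero _ (by norm_num)
  have hd1 : ¬ 3 ∣ 3 ^ (2 * m + 1) - 1 := by
    have := nd_sub (k := 1) Nat.prime_three hpq hq0 one_ne_zero
    rwa [pow_one] at this
  refine exc (A := 1) (N := 3) (d := 1) (Y := (3 ^ (2 * m + 1) - 1) * ((3 ^ (2 * m + 1)) ^ 3 + 1)) Nat.prime_three
    (f := 2 * m + 1) (by omega) (by norm_num) (by rw [hc]; ring) (by norm_num)
    (nd_mul Nat.prime_three hd1 (nd_add Nat.prime_three hpq (by norm_num))) ?_ ?_
    (five_le (two_le_pow Nat.prime_three (by omega)) le_rfl)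
  · rw [h2, one_mul]
  · rw [one_mul]
    exact Fam.ree_NF3 hm (dvd_of_eq hc)

theorem tf4 {K : Type} [Field K] [Fintype K] {m : ℕ} (hm : 1 ≤ m) (hK : Fintype.card K = 2 ^ (2 * m + 1))
    [Finite ↥(Lie.twistedF4 K (2 ^ m))] : Conc 2 ↥(Lie.twistedF4 K (2 ^ m)) := by
  have h2 := S2128.result hm hK
  have hc := S1068.result hK
  have hpq : 2 ∣ 2 ^ (2 * m + 1) := dvd_pow_self 2 (by omega)
  have hq0 : 2 ^ (2 * m + 1) ≠ 0 := pow_ne_zero _ (by norm_num)
  have hd1 : ¬ 2 ∣ 2 ^ (2 * m + 1) - 1 := by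
    have := nd_sub (k := 1) Nat.prime_two hpq hq0 one_ne_zero
    rwa [pow_one] at this
  refine exc (A := 6) (N := 12) (d := 1) (Y := (2 ^ (2 * m + 1) - 1) * ((2 ^ (2 * m + 1)) ^ 3 + 1) *
    ((2 ^ (2 * m + 1)) ^ 4 - 1) * ((2 ^ (2 * m + 1)) ^ 6 + 1)) Nat.prime_two
    (f := 2 * m + 1) (by omega) (by norm_num) (by rw [hc]; ring) (by norm_num)
    (nd_mul Nat.prime_two (nd_mul Nat.prime_two (nd_mul Nat.prime_two hd1 (nd_add Nat.prime_two hpq (by norm_num)))
      (nd_sub Nat.prime_two hpq hq0 (by norm_num))) (nd_add Nat.prime_two hpq (by norm_num))) ?_ ?_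
    (five_le (two_le_pow Nat.prime_two (by omega)) (by norm_num))
  · rw [h2]
    exact Dvd.intro_left _ rfl
  · exact Fam.tf4_NF3 Nat.prime_two (by omega) (dvd_of_eq hc)

end Cfsg.Agent.H691.T3.Lie
end

-- part: H691/T3/LieAll
section
/-!
# The groups of Lie type (helper691)

`lie3` : an almost simple group with socle `S` of Lie type, whose degrees are in `DT q`: the socle is `PSL₃(q)` (or
`A₈`).
-/

set_option autoImplicit false

namespace Cfsg.Agent.H691.T3.Lie

open Cfsg Cfsg.Agent.H934.OutB Matrix Cfsg.Agent.H691.Lie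

universe u

/-- `S` is a group `PSL₃(F)`, `|F| ≥ 3`. -/
def IsPSLThree (S : Type u) [Group S] : Prop :=
  ∃ (F : Type) (_ : Field F) (_ : Fintype F), 3 ≤ Fintype.card F ∧
    Nonempty (S ≃* ProjectiveSpecialLinearGroup (Fin 3) F)

theorem lie_conc3 {p : ℕ} (hp : p.Prime) {S : Type u} [Group S] [Finite S] [IsSimpleGroup S]
    (hna : ¬ IsMulCommutative S) (h : IsLieTypeChar p S) :
    IsPSLTwo S ∨ IsPSLThree S ∨ Nonempty (S ≃* alternatingGroup (Fin 8)) ∨ T3.Lie.Conc p S := by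
  have := Fact.mk hp
  rcases h with h | h | h | h | h | h | h | h | h | h | h
  · obtain ⟨F, _, _, _, n, hn, hn2, ⟨e⟩⟩ := h
    have := isSimple_congr e
    rcases hn.eq_or_lt with rfl | hn3
    · left
      rcases (hn2 rfl).eq_or_lt with h4 | h4
      · obtain ⟨e'⟩ := S0252.result h4.symm
        exact isPSLTwo_of_five (e.trans e')
      · exact ⟨F, inferInstance, inferInstance, h4, ⟨e⟩⟩
    · rcases (show 3 ≤ n from hn3).eq_or_lt with rfl | hn4
      · by_cases h2 : Fintype.card F = 2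
        · left
          have h1 := S0243.result (F := F) rfl 3 (by omega)
          have h168 : Nat.card S = 168 := by
            rw [Nat.card_congr e.toEquiv]
            rw [Fin.prod_univ_succ, Fin.prod_univ_succ, Fin.prod_univ_succ, h2] at h1
            norm_num only [_root_.one_mul, _root_.Fin.coe_ofNat_eq_mod, _root_.pow_zero, _root_.Nat.add_one_sub_one, _root_.Fin.succ_zero_eq_one, _root_.pow_one, _root_.Fin.succ_one_eq_two, _root_.mul_one] at h1
            exact h1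
          have h5 : Fact (Nat.Prime 7) := ⟨by norm_num⟩
          exact ⟨ZMod 7, inferInstance, inferInstance, by rw [ZMod.card]; norm_num,
            S0495.result h168 (by rw [ZMod.card])⟩
        · right; left
          have h1 : 1 < Fintype.card F := Fintype.one_lt_card
          exact ⟨F, inferInstance, inferInstance, by omega, ⟨e⟩⟩
      · by_cases h42 : n = 4 ∧ Fintype.card F = 2
        · obtain ⟨rfl, hF⟩ := h42
          obtain ⟨e'⟩ := S0256.result hF
          exact Or.inr (Or.inr (Or.inl ⟨e.trans e'⟩))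
        · exact Or.inr (Or.inr (Or.inr ((T3.Lie.psl hn4 (na_congr e hna) h42).congr e)))
  · obtain ⟨F, _, _, _, m, hm, hm2, ⟨e⟩⟩ := h
    have := isSimple_congr e
    exact Or.inr (Or.inr (Or.inr ((T3.Lie.psp hm hm2 (na_congr e hna)).congr e)))
  · obtain ⟨F, _, _, _, n, q, hF, hn, h32, ⟨e⟩⟩ := h
    have := isSimple_congr e
    exact Or.inr (Or.inr (Or.inr ((T3.Lie.psu hF hn h32 (na_congr e hna)).congr e)))
  · obtain ⟨F, _, _, _, m, hm, ho, ⟨e⟩⟩ := h
    have := isSimple_congr e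
    exact Or.inr (Or.inr (Or.inr ((T3.Lie.oodd hm ho (na_congr e hna)).congr e)))
  · obtain ⟨F, _, _, _, m, hm, ⟨e⟩⟩ := h
    have := isSimple_congr e
    exact Or.inr (Or.inr (Or.inr ((T3.Lie.oplus hm (na_congr e hna)).congr e)))
  · obtain ⟨F, _, _, _, m, a, b, hm, hab, ⟨e⟩⟩ := h
    have := isSimple_congr e
    exact Or.inr (Or.inr (Or.inr ((T3.Lie.ominus hm hab (na_congr e hna)).congr e)))
  · obtain ⟨F, _, _, _, h⟩ := h
    rcases h with ⟨hF, ⟨e⟩⟩ | ⟨⟨e⟩⟩ | ⟨⟨e⟩⟩ | ⟨⟨e⟩⟩ | ⟨⟨e⟩⟩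
    · have := Finite.of_equiv S e.toEquiv
      exact Or.inr (Or.inr (Or.inr ((T3.Lie.g2 hF).congr e)))
    · have := Finite.of_equiv S e.toEquiv
      exact Or.inr (Or.inr (Or.inr (T3.Lie.f4.congr e)))
    · have := Finite.of_equiv S e.toEquiv
      exact Or.inr (Or.inr (Or.inr (T3.Lie.e6.congr e)))
    · have := Finite.of_equiv S e.toEquiv
      exact Or.inr (Or.inr (Or.inr (T3.Lie.e7.congr e)))
    · have := Finite.of_equiv S e.toEquiv
      exact Or.inr (Or.inr (Or.inr (T3.Lie.e8.congr e)))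
  · obtain ⟨K, _, _, _, q, hq, h⟩ := h
    rcases h with ⟨hK, ⟨e⟩⟩ | ⟨hK, ⟨e⟩⟩
    · have := Finite.of_equiv S e.toEquiv
      exact Or.inr (Or.inr (Or.inr ((T3.Lie.te6 hq hK).congr e)))
    · have := Finite.of_equiv S e.toEquiv
      exact Or.inr (Or.inr (Or.inr ((T3.Lie.td4 hq hK).congr e)))
  · obtain ⟨rfl, K, _, _, m, hm, hK, ⟨e⟩⟩ := h
    have := Finite.of_equiv S e.toEquiv
    exact Or.inr (Or.inr (Or.inr ((T3.Lie.sz hm hK).congr e)))
  · obtain ⟨rfl, K, _, _, m, hm, hK, ⟨e⟩⟩ := h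
    have := Finite.of_equiv S e.toEquiv
    exact Or.inr (Or.inr (Or.inr ((T3.Lie.tf4 hm hK).congr e)))
  · obtain ⟨rfl, K, _, _, m, hm, hK, ⟨e⟩⟩ := h
    have := Finite.of_equiv S e.toEquiv
    exact Or.inr (Or.inr (Or.inr ((T3.Lie.ree hm hK).congr e)))

/-- The prime divisors of the elements of `DT q`. -/
theorem dt_prime {q l d : ℕ} (hq : 2 ≤ q) (hl : l.Prime) (hd : d ∈ DT q) (h : l ∣ d) :
    l ∣ 3 * (q * ((q ^ 2 - 1) * (q ^ 3 - 1))) := by
  have hc := cube_sub q (by omega)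
  have h3 : q ^ 3 - 1 = (q - 1) * (q ^ 2 + q + 1) := by omega
  have h2 : q ^ 2 - 1 = (q + 1) * (q - 1) := by
    have := Nat.sq_sub_sq q 1
    rwa [one_pow] at this
  have hn : q ^ 2 + q + 1 ∣ 3 * (q * ((q ^ 2 - 1) * (q ^ 3 - 1))) := by
    rw [h3]
    exact (((Dvd.intro_left (q - 1) rfl).mul_left _).mul_left _).mul_left _
  have hqq : q ∣ 3 * (q * ((q ^ 2 - 1) * (q ^ 3 - 1))) := (Dvd.intro _ rfl).mul_left _
  have hq1 : q - 1 ∣ 3 * (q * ((q ^ 2 - 1) * (q ^ 3 - 1))) := by
    rw [h2]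
    exact (((Dvd.intro_left (q + 1) rfl).mul_right _).mul_left _).mul_left _
  have hq2 : q + 1 ∣ 3 * (q * ((q ^ 2 - 1) * (q ^ 3 - 1))) := by
    rw [h2]
    exact (((Dvd.intro (q - 1) rfl).mul_right _).mul_left _).mul_left _
  have hsq : l ∣ (q - 1) ^ 2 * (q + 1) → l ∣ 3 * (q * ((q ^ 2 - 1) * (q ^ 3 - 1))) := by
    intro h
    rcases hl.dvd_mul.1 h with h | h
    · exact (hl.dvd_of_dvd_pow h).trans hq1
    · exact h.trans hq2
  rcases hd with hd | hd | hd | hd | hd | ⟨-, hd | hd⟩ | ⟨-, hd⟩ | ⟨-, hd | hd⟩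
  · rw [hd] at h
    exact absurd (Nat.dvd_one.1 h) hl.one_lt.ne'
  · rw [hd, show q ^ 2 + q = q * (q + 1) by ring] at h
    rcases hl.dvd_mul.1 h with h | h
    · exact h.trans hqq
    · exact h.trans hq2
  · rw [hd] at h
    exact (hl.dvd_of_dvd_pow h).trans hqq
  · have hd' : d = (q - 1) * (q ^ 2 + q + 1) := by omega
    rw [hd'] at h
    rcases hl.dvd_mul.1 h with h | h
    · exact h.trans hq1
    · exact h.trans hn
  · rw [hd] at h
    exact hsq h
  · rw [hd] at h
    exact h.trans hn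
  · rw [hd] at h
    rcases hl.dvd_mul.1 h with h | h
    · exact h.trans hqq
    · exact h.trans hn
  · rw [hd] at h
    rcases hl.dvd_mul.1 h with h | h
    · exact h.trans hq2
    · exact h.trans hn
  · have h' : l ∣ (q + 1) * (q ^ 2 + q + 1) := by
      rw [← hd]
      exact h.mul_left 3
    rcases hl.dvd_mul.1 h' with h | h
    · exact h.trans hq2
    · exact h.trans hn
  · apply hsq
    rw [← hd]
    exact h.mul_left 3

/-- Itô-Michler for `S` -/
def IMS (S : Type u) [Group S] : Prop := ∀ l : ℕ, l.Prime → l ∣ Nat.card S → ∃ d ∈ charDegrees S, l ∣ d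

theorem types3' {A : Type u} [Group A] [Finite A] {S : Subgroup A} (h : AS A S) {p F : ℕ} (hp : p.Prime)
    (h3 : 3 ≤ p ^ F) (hpS : p ∣ Nat.card S) (hD : charDegrees A ⊆ DT (p ^ F)) :
    (p ^ F + 1 ∣ Nat.card A ∨ (p ^ F) ^ 2 + p ^ F + 1 ∣ S.index) ∧
      ((p ^ F) ^ 2 + p ^ F + 1 ∣ 3 * Nat.card A ∨ p ^ F + 1 ∣ S.index) := by
  constructor
  · by_contra hcon
    rw [not_or] at hcon
    apply hcon.2
    apply dvd_index h hp hpS
    intro d hd
    have hdA := H681.DegBasic.dvd_card hd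
    rcases dt_cases (by omega) (hD hd) with h2 | h2 | h2 | h2 | h2
    · exact Or.inl h2
    · exact Or.inr (Or.inl ⟨F * 3, by rw [h2, pow_mul]⟩)
    · exact absurd (h2.1.trans hdA) hcon.1
    · exact absurd (h2.1.trans hdA) hcon.1
    · exact Or.inr (Or.inr h2.1)
  · by_contra hcon
    rw [not_or] at hcon
    apply hcon.2
    apply dvd_index h hp hpS
    intro d hd
    have hdA := H681.DegBasic.dvd_card hd
    rcases dt_cases (by omega) (hD hd) with h2 | h2 | h2 | h2 | h2
    · exact Or.inl h2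
    · exact Or.inr (Or.inl ⟨F * 3, by rw [h2, pow_mul]⟩)
    · exact Or.inr (Or.inr h2.1)
    · exact Or.inr (Or.inr h2.1)
    · exact absurd ((h2.1.trans hdA).mul_left 3) hcon.1

/-- **The arithmetic exit.** -/
theorem false_of_NF3 {A : Type u} [Group A] [Finite A] {S : Subgroup A} (h : AS A S) {p F : ℕ} (hp : p.Prime)
    (hF : F ≠ 0) (h3 : 3 ≤ p ^ F) (hpS : p ∣ Nat.card S) (hD : charDegrees A ⊆ DT (p ^ F)) (hIM : IMS S) {s out : ℕ}
    (hs : s ∈ charDegrees A) (hout : Nat.card (Out S) ∣ out) (hNF : NF3 s (Nat.card S) out) : False := by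
  have := h.normal
  have h1 : S.index ∣ out := h.index_dvd_out.trans hout
  have h8 : Nat.card A ∣ Nat.card S * out := by
    rw [← S.card_mul_index]
    exact Nat.mul_dvd_mul_left _ h1
  obtain ⟨h6, h7⟩ := types3' h hp h3 hpS hD
  refine hNF p F hp hF h3 (hD hs) hpS ?_ ?_ ?_
  · intro l hl hlS
    obtain ⟨d, hd, hld⟩ := hIM l hl hlS
    obtain ⟨x, hx, hdx, -⟩ := exists_mult (A := A) hd
    exact dt_prime (by omega) hl (hD hx) (hld.trans hdx)
  · rcases h6 with h6 | h6
    · exact Or.inl (h6.trans h8)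
    · exact Or.inr (h6.trans h1)
  · rcases h7 with h7 | h7
    · exact Or.inl (h7.trans (Nat.mul_dvd_mul_left 3 h8))
    · exact Or.inr (h7.trans h1)

/-- The degree of the Steinberg character. -/
theorem st_mem {A : Type u} [Group A] [Finite A] {S : Subgroup A} (h : AS A S) {r s : ℕ} (hr : r.Prime)
    (hL : IsLieTypeChar r S) (hs : ∀ Q : Sylow r S, Nat.card Q = s) : s ∈ charDegrees A := by
  have := h.normal
  have := h.simple
  have := Fact.mk hr
  obtain ⟨χ, hχ, -, hχ1⟩ := StExt.exists_ext S (H996.AllSplit.hasSplit_of_lie hr hL)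
  obtain ⟨Q⟩ := (inferInstance : Nonempty (Sylow r S))
  rw [H681.DegBasic.mem_charDegrees]
  exact ⟨χ, hχ, by rw [hχ1 Q, hs Q]⟩

/-! ### `PSL₂` -/

theorem cube_add_false {q x : ℕ} (hq : 3 ≤ q) (hx : x ∈ DT q) (h : q ^ 3 + 1 ∣ x) : False := by
  have hle := dt_le (by omega) hx
  have hx0 : 0 < x := by
    rcases Nat.eq_zero_or_pos x with h0 | h0
    · exfalso
      subst h0
      have hc := cube_sub q (by omega)
      have h1 : 0 < (q - 1) ^ 2 * (q + 1) := Nat.mul_pos (Nat.pow_pos (by omega)) (by omega)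
      have h2 : 0 < q ^ 3 := Nat.pow_pos (by omega)
      rcases hx with hd | hd | hd | hd | hd | ⟨-, hd | hd⟩ | ⟨-, hd⟩ | ⟨-, hd | hd⟩ <;> nlinarith only [hd, hq, h2, h1, _root_.sq_nonneg (↑q : ℤ)]
    · exact h0
  obtain ⟨k, hk⟩ := h
  have hk1 : k = 1 := by
    rcases k with _ | _ | k
    · omega
    · rfl
    · exfalso
      have h1 : (q ^ 3 + 1) * 2 ≤ (q ^ 3 + 1) * (k + 1 + 1) := Nat.mul_le_mul_left _ (by omega)
      have h2 : q * q * 3 ≤ q * q * q := Nat.mul_le_mul_left _ hq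
      have h3 : 3 * q ≤ q * q := Nat.mul_le_mul_right _ hq
      linarith only [hle, hk, h1, h2, h3]
  rw [hk1, mul_one] at hk
  subst hk
  have hc := cube_sub q (by omega)
  have h3 : 3 * q ≤ q * q := Nat.mul_le_mul_right _ hq
  have h4 : (q - 1) ^ 2 * (q + 1) ≤ q ^ 3 := by
    have h1 : (q - 1) ^ 2 * (q + 1) ≤ (q - 1) * (q ^ 2 + q + 1) := by
      rw [pow_two, mul_assoc]
      apply Nat.mul_le_mul_left
      have : (q - 1) * (q + 1) ≤ q * (q + 1) := Nat.mul_le_mul_right _ (by omega)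
      linarith only [this]
    omega
  have h5 : 3 * (q * q) ≤ q ^ 3 := by
    have : q ^ 3 = q * (q * q) := by ring
    rw [this]
    exact Nat.mul_le_mul_right _ hq
  rcases hx with hd | hd | hd | hd | hd | ⟨-, hd | hd⟩ | ⟨-, hd⟩ | ⟨-, hd | hd⟩
  · omega
  · linarith only [h3, h5, hd]
  · omega
  · omega
  · omega
  · linarith only [hq, h3, h5, hd]
  · linarith only [hq, h3, hd]
  · linarith only [hq, h3, hd]
  · linarith only [h3, h5, hd]
  · omega

theorem n_add_false {q x : ℕ} (hq : 3 ≤ q) (hx : x ∈ DT q) (h : q ^ 2 + q + 2 ∣ x) : q = 5 ∧ x = 96 := by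
  have hc := cube_sub q (by omega)
  obtain ⟨t, rfl⟩ : ∃ t, q = t + 3 := ⟨q - 3, by omega⟩
  have key : ∀ a b c : ℕ, (t + 3) ^ 2 + (t + 3) + 2 ∣ a → b = ((t + 3) ^ 2 + (t + 3) + 2) * c → a + 0 = b + 0 → True :=
    fun _ _ _ _ _ _ => trivial
  clear key
  -- `q³ + q - 2 = (q - 1) (n + 1)`
  have hq3 : (t + 3) ^ 3 + (t + 1) = (t + 2) * ((t + 3) ^ 2 + (t + 3) + 2) := by ring
  have no : ∀ a : ℕ, 0 < a → a < (t + 3) ^ 2 + (t + 3) + 2 → ¬ (t + 3) ^ 2 + (t + 3) + 2 ∣ a := fun a h1 h2 h3 => by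
    have := Nat.le_of_dvd h1 h3
    omega
  have hsq : ∀ y : ℕ, (t + 3) ^ 2 + (t + 3) + 2 ∣ y → y = (t + 3 - 1) ^ 2 * (t + 3 + 1) → t = 2 := by
    intro y hy hy'
    -- `y = (q - 2) (n + 1) - (q - 5)`
    have e1 : y + t = (t + 1) * ((t + 3) ^ 2 + (t + 3) + 2) + 2 := by
      rw [hy', show t + 3 - 1 = t + 2 by omega]
      ring
    rcases Nat.lt_trichotomy t 2 with h2 | h2 | h2
    · exfalso
      -- `y = (t + 1) (n + 1) + (2 - t)`
      have e2 : y = (t + 1) * ((t + 3) ^ 2 + (t + 3) + 2) + (2 - t) := by omega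
      rw [e2] at hy
      exact no (2 - t) (by omega) (by linarith only [e1, e2, _root_.sq_nonneg (↑t + 3 : ℤ), _root_.Nat.cast_nonneg (α := ℤ) (t)]) ((Nat.dvd_add_right (Dvd.intro_left _ rfl)).1 hy)
    · exact h2
    · exfalso
      have e2 : y + (t - 2) = (t + 1) * ((t + 3) ^ 2 + (t + 3) + 2) := by omega
      have h3 : (t + 3) ^ 2 + (t + 3) + 2 ∣ y + (t - 2) := by rw [e2]; exact Dvd.intro_left _ rfl
      exact no (t - 2) (by omega) (by linarith only [e1, e2, _root_.sq_nonneg (↑t + 3 : ℤ)]) ((Nat.dvd_add_right hy).1 h3)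
  rcases hx with hd | hd | hd | hd | hd | ⟨-, hd | hd⟩ | ⟨-, hd⟩ | ⟨h31, hd | hd⟩
  · exact absurd h (no _ (by omega) (by linarith only [hd, _root_.sq_nonneg (↑t + 3 : ℤ)]))
  · exact absurd h (no _ (by linarith only [hd, _root_.sq_nonneg (↑t + 3 : ℤ), _root_.Nat.cast_nonneg (α := ℤ) (t)]) (by linarith only [hd]))
  · exfalso
    rw [hd] at h
    have h3 : (t + 3) ^ 2 + (t + 3) + 2 ∣ (t + 3) ^ 3 + (t + 1) := by rw [hq3]; exact Dvd.intro_left _ rfl
    exact no (t + 1) (by omega) (by linarith only [_root_.sq_nonneg (↑t + 3 : ℤ)]) ((Nat.dvd_add_right h).1 h3)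
  · exfalso
    have h3 : (t + 3) ^ 2 + (t + 3) + 2 ∣ x + (t + 2) := by
      rw [show x + (t + 2) = (t + 3) ^ 3 + (t + 1) by omega, hq3]
      exact Dvd.intro_left _ rfl
    exact no (t + 2) (by omega) (by linarith only [_root_.sq_nonneg (↑t + 3 : ℤ)]) ((Nat.dvd_add_right h).1 h3)
  · have ht := hsq x h hd
    subst ht
    exact ⟨rfl, by rw [hd]; norm_num⟩
  · exact absurd h (no _ (by linarith only [hd, _root_.sq_nonneg (↑t + 3 : ℤ), _root_.Nat.cast_nonneg (α := ℤ) (t)]) (by linarith only [hd]))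
  · exfalso
    have h3 : (t + 3) ^ 2 + (t + 3) + 2 ∣ x + (t + 3) := by
      rw [hd]
      exact ⟨t + 3, by ring⟩
    exact no (t + 3) (by omega) (by linarith only [_root_.sq_nonneg (↑t + 3 : ℤ)]) ((Nat.dvd_add_right h).1 h3)
  · exfalso
    have h3 : (t + 3) ^ 2 + (t + 3) + 2 ∣ x + (t + 4) := by
      rw [hd]
      exact ⟨t + 4, by ring⟩
    exact no (t + 4) (by omega) (by linarith only [_root_.sq_nonneg (↑t + 3 : ℤ)]) ((Nat.dvd_add_right h).1 h3)
  · exfalso
    have h3 : (t + 3) ^ 2 + (t + 3) + 2 ∣ 3 * x + (t + 4) := by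
      rw [hd]
      exact ⟨t + 4, by ring⟩
    exact no (t + 4) (by omega) (by linarith only [_root_.sq_nonneg (↑t + 3 : ℤ)]) ((Nat.dvd_add_right (h.mul_left 3)).1 h3)
  · exfalso
    have ht := hsq _ (h.mul_left 3) hd
    omega

theorem psl_two_false {A : Type u} [Group A] [Finite A] {S : Subgroup A} (h : AS A S) {p F : ℕ} (hp : p.Prime)
    (hF : F ≠ 0) (h3 : 3 ≤ p ^ F) (hD : charDegrees A ⊆ DT (p ^ F)) (hS : IsPSLTwo S) : False := by
  have := h.normal
  have := h.simple
  obtain ⟨K, i1, i2, h5K, ⟨e⟩⟩ := hS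
  obtain ⟨r, hr, hLie, hQ⟩ := psl_two_sylow h5K e
  have hSt := hD (st_mem h hr hLie hQ)
  have hc : CharP K (ringChar K) := ringChar.charP K
  obtain ⟨f, hr', hf, hK⟩ := exists_deg (F := K) (p := ringChar K)
  rw [hK] at hSt
  have htr : ∀ d, d ∈ charDegrees (ProjectiveSpecialLinearGroup (Fin 2) K) → d ∈ charDegrees S := fun d hd =>
    H681.DegBasic.charDegrees_comp e.toMonoidHom e.surjective hd
  have h7 : ∀ s, s = Fintype.card K → 7 ≤ s → ∃ x ∈ charDegrees A, s + 1 ∣ x ∧ x / (s + 1) ∣ S.index := by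
    rintro s rfl hs
    exact exists_mult (A := A) (htr _ (H464.PslDeg.psl_degrees (F := K) hs).1)
  rcases dt_prime_pow hr' (by omega) hp hF h3 hSt with ⟨h1, h2⟩ | h1 | ⟨h1, h2⟩
  · -- `q' = q³`
    have hs : Fintype.card K = (p ^ F) ^ 3 := by rw [hK, h1, h2, mul_comm, pow_mul]
    have h27 : 3 ^ 3 ≤ (p ^ F) ^ 3 := Nat.pow_le_pow_left h3 3
    obtain ⟨x, hx, hx', -⟩ := h7 _ rfl (by rw [hs]; omega)
    rw [hs] at hx'
    exact cube_add_false h3 (hD hx) hx'
  · -- `q' = n`
    have hs : Fintype.card K = (p ^ F) ^ 2 + p ^ F + 1 := by rw [hK, h1]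
    have h9 : 3 ^ 2 ≤ (p ^ F) ^ 2 := Nat.pow_le_pow_left h3 2
    obtain ⟨x, hx, hx', hx3⟩ := h7 _ rfl (by rw [hs]; omega)
    rw [hs] at hx' hx3
    obtain ⟨h10, h11⟩ := n_add_false h3 (hD hx) hx'
    rw [h10, h11] at hx3
    norm_num at hx3
    -- the outer automorphism group of `PSL₂(31)` has order two
    have hK31 : Fintype.card K = 31 := by rw [hs, h10]; norm_num
    have h31 : Fact (Nat.Prime 31) := ⟨by norm_num⟩
    have hf1 := S0813.result (F := K) 31 1 le_rfl (by rw [hK31, pow_one]) 2 le_rfl (fun _ => by norm_num)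
    have := isSimple_congr e
    have := H934.OutCl.finite_psl (F := K) 2
    rw [if_pos rfl, H934.OutCl.card_pgl (by omega), hK31, ← mul_assoc] at hf1
    have h12 := card_out_of_aut (na_congr e h.nonab) hf1
    have h13 := hx3.trans h.index_dvd_out
    rw [card_out_congr e, h12] at h13
    revert h13
    decide
  · -- `q = 3`, `q' = 16`
    have hs : Fintype.card K = 16 := by rw [hK, h2]
    obtain ⟨x, hx, hx', -⟩ := h7 _ rfl (by rw [hs]; norm_num)
    rw [hs] at hx'
    have hx2 := hD hx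
    rw [h1] at hx2
    obtain ⟨k, hk⟩ := hx'
    rcases hx2 with hd | hd | hd | hd | hd | ⟨-, hd | hd⟩ | ⟨-, hd⟩ | ⟨-, hd | hd⟩ <;> (clear * - hk hd; omega)

/-! ### `PSL₃` -/

/-- the elements of `DT q` divisible by a prime divisor `≠ 3` of `n` -/
theorem n_dvd_of_prime {q l x : ℕ} (hq : 2 ≤ q) (hl : l.Prime) (hl3 : l ≠ 3) (hln : l ∣ q ^ 2 + q + 1)
    (hx : x ∈ DT q) (hlx : l ∣ x) : q ^ 2 + q + 1 ∣ 3 * x := by
  have hone : ¬ l ∣ 1 := fun h => hl.one_lt.ne' (Nat.dvd_one.1 h)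
  have h1 : ¬ l ∣ q := fun h => hone (dvd_one_of_self hln h)
  have h2 : ¬ l ∣ q + 1 := fun h => hone (dvd_one_of_add hln h)
  have h3 : ¬ l ∣ q - 1 := fun h =>
    hl3 ((Nat.prime_dvd_prime_iff_eq hl Nat.prime_three).1 (dvd_three (by omega) hln h))
  have hsq : ¬ l ∣ (q - 1) ^ 2 * (q + 1) := by
    intro h
    rcases hl.dvd_mul.1 h with h | h
    · exact h3 (hl.dvd_of_dvd_pow h)
    · exact h2 h
  have hc := cube_sub q (by omega)
  rcases hx with hd | hd | hd | hd | hd | ⟨-, hd | hd⟩ | ⟨-, hd⟩ | ⟨-, hd | hd⟩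
  · exact absurd (hd ▸ hlx) hone
  · exfalso
    rw [hd, show q ^ 2 + q = q * (q + 1) by ring] at hlx
    rcases hl.dvd_mul.1 hlx with h | h
    · exact h1 h
    · exact h2 h
  · exact absurd (hl.dvd_of_dvd_pow (hd ▸ hlx)) h1
  · refine Dvd.dvd.mul_left ⟨q - 1, ?_⟩ 3
    rw [mul_comm]
    omega
  · exact absurd (hd ▸ hlx) hsq
  · rw [hd]
    exact Dvd.intro_left _ rfl
  · rw [hd]
    exact (Dvd.intro_left _ rfl).mul_left 3
  · rw [hd]
    exact (Dvd.intro_left _ rfl).mul_left 3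
  · rw [hd]
    exact Dvd.intro_left _ rfl
  · exact absurd (hd ▸ hlx.mul_left 3) hsq

/-- the Sylow subgroups of `PSL₃` in the defining characteristic, and the outer automorphism group -/
theorem psl_three_data {S : Type u} [Group S] [Finite S] [IsSimpleGroup S] (hna : ¬ IsMulCommutative S) {K : Type}
    [Field K] [Fintype K] (e : S ≃* ProjectiveSpecialLinearGroup (Fin 3) K) :
    ∃ r f : ℕ, r.Prime ∧ 1 ≤ f ∧ Fintype.card K = r ^ f ∧ IsLieTypeChar r S ∧
      (∀ Q : Sylow r S, Nat.card Q = Fintype.card K ^ 3) ∧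
      Nat.card (Cfsg.Out S) = 2 * f * Nat.gcd 3 (r ^ f - 1) := by
  have hc : CharP K (ringChar K) := ringChar.charP K
  obtain ⟨f, hr, hf, hK⟩ := exists_deg (F := K) (p := ringChar K)
  have := Fact.mk hr
  have := isSimple_congr e
  have := H934.OutCl.finite_psl (F := K) 3
  refine ⟨ringChar K, f, hr, hf, hK, Or.inl ⟨K, inferInstance, inferInstance, hc, 3, by norm_num, fun h => by omega,
    ⟨e⟩⟩, ?_, ?_⟩
  · have h3 := S0243.result (F := K) rfl 3 (by omega)
    rw [Fin.prod_univ_eq_prod_range (fun i => Fintype.card K ^ 3 - Fintype.card K ^ i) 3, hK] at h3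
    set p := ringChar K
    have hq0 : p ^ f ≠ 0 := pow_ne_zero _ hr.ne_zero
    have hpq : p ∣ p ^ f := dvd_pow_self p (by omega)
    have hd1 : ¬ p ∣ p ^ f - 1 := by
      have := nd_sub (k := 1) hr hpq hq0 one_ne_zero
      rwa [pow_one] at this
    have e1 : ∏ i ∈ Finset.range 3, ((p ^ f) ^ 3 - (p ^ f) ^ i) =
        p ^ (f * 3) * ∏ i ∈ Finset.range 3, ((p ^ f) ^ (3 - i) - 1) := by
      rw [show f * 3 = f * ∑ i ∈ Finset.range 3, i by rw [Finset.sum_range_id], Finset.mul_sum,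
        ← Finset.prod_pow_eq_pow_sum, ← Finset.prod_mul_distrib]
      apply Finset.prod_congr rfl
      intro i hi
      rw [Finset.mem_range] at hi
      rw [pow_mul, Nat.mul_sub, ← pow_add, mul_one]
      congr 2
      omega
    rw [e1, ← mul_assoc, ← Nat.card_congr e.toEquiv] at h3
    intro Q
    rw [card_sylow hr h3 (nd_mul hr (nd_of_dvd hd1 (Nat.gcd_dvd_right _ _)) hd1) ?_ Q, hK, pow_mul]
    apply nd_prod hr
    intro i hi
    rw [Finset.mem_range] at hi
    exact nd_sub hr hpq hq0 (by omega)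
  · have h1 := S0813.result (F := K) (ringChar K) f hf hK 3 (by omega) (by omega)
    rw [if_neg (by omega), H934.OutCl.card_pgl (by omega), ← mul_assoc] at h1
    have h2 := card_out_of_aut (na_congr e hna) h1
    rw [card_out_congr e, h2, hK]

theorem psl_three {A : Type u} [Group A] [Finite A] {S : Subgroup A} (h : AS A S) {p F : ℕ} (hp : p.Prime)
    (hF : F ≠ 0) (h3 : 3 ≤ p ^ F) (hD : charDegrees A ⊆ DT (p ^ F)) (hS : IsPSLThree S)
    (htwo : ∀ (K : Type) [Field K] [Fintype K], Fintype.card K ^ 2 + Fintype.card K ∈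
      charDegrees (ProjectiveSpecialLinearGroup (Fin 3) K)) :
    ∃ (K : Type) (_ : Field K) (_ : Fintype K), Fintype.card K = p ^ F ∧
      Nonempty (S ≃* ProjectiveSpecialLinearGroup (Fin 3) K) := by
  have := h.normal
  have := h.simple
  obtain ⟨K, i1, i2, h3K, ⟨e⟩⟩ := hS
  obtain ⟨r, f, hr, hf, hK, hLie, hQ, hO⟩ := psl_three_data h.nonab e
  have hSt := hD (st_mem h hr hLie hQ)
  have htr : ∀ d, d ∈ charDegrees (ProjectiveSpecialLinearGroup (Fin 3) K) → d ∈ charDegrees S := fun d hd =>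
    H681.DegBasic.charDegrees_comp e.toMonoidHom e.surjective hd
  have hs : Fintype.card K ^ 3 = r ^ (f * 3) := by rw [hK, pow_mul]
  rw [hs] at hSt
  rcases dt_prime_pow hr (by omega) hp hF h3 hSt with ⟨h1, h2⟩ | h1 | ⟨h1, h2⟩
  · refine ⟨K, i1, i2, ?_, ⟨e⟩⟩
    rw [hK, h1]
    congr 1
    omega
  · exfalso
    -- `q'³ = n`
    rw [← hs] at h1
    obtain ⟨x, hx, hx', hxi⟩ := exists_mult (A := A) (htr _ (htwo K))
    set s := Fintype.card K with hsd
    have hrs : r ∣ s := by rw [hK]; exact dvd_pow_self r (by omega)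
    have hrn : r ∣ (p ^ F) ^ 2 + p ^ F + 1 := by rw [← h1]; exact hrs.trans (dvd_pow_self s (by norm_num))
    have hr3 : r ≠ 3 := by
      rintro rfl
      apply not_nine (q := p ^ F)
      rw [← h1]
      have h9 : 3 ^ 3 ∣ s ^ 3 := pow_dvd_pow_of_dvd hrs 3
      exact (show 9 ∣ 3 ^ 3 by norm_num).trans h9
    have hsx : s ^ 2 + s = s * (s + 1) := by ring
    have hrx : r ∣ x := (hrs.mul_right (s + 1)).trans (by rw [← hsx]; exact hx')
    have hnx := n_dvd_of_prime (by omega) hr hr3 hrn (hD hx) hrx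
    rw [← h1] at hnx
    obtain ⟨k, hk⟩ := hx'
    have hs0 : 0 < s ^ 2 + s := by positivity
    rw [hk, Nat.mul_div_cancel_left _ hs0] at hxi
    -- `s² ∣ 3 (s + 1) k`
    have h4 : s ^ 2 ∣ 3 * ((s + 1) * k) := by
      have h5 : s * s ^ 2 ∣ s * (3 * ((s + 1) * k)) := by
        have e1 : s * s ^ 2 = s ^ 3 := by ring
        have e2 : s * (3 * ((s + 1) * k)) = 3 * x := by rw [hk]; ring
        rw [e1, e2]
        exact hnx
      exact Nat.dvd_of_mul_dvd_mul_left (by omega) h5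
    have hcop : Nat.Coprime (s ^ 2) (3 * (s + 1)) := by
      apply Nat.Coprime.pow_left
      rw [Nat.coprime_mul_iff_right]
      constructor
      · rw [hK]
        apply Nat.Coprime.pow_left
        rw [Nat.coprime_primes hr Nat.prime_three]
        exact hr3
      · exact (Nat.coprime_self_add_right (m := s) (n := 1)).2 (Nat.coprime_one_right s)
    have h5 : s ^ 2 ∣ k := by
      rw [← mul_assoc] at h4
      exact hcop.dvd_of_dvd_mul_left h4
    have h6 : s ^ 2 ∣ 2 * f * Nat.gcd 3 (r ^ f - 1) := by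
      rw [← hO]
      exact (h5.trans hxi).trans h.index_dvd_out
    have h7 : Nat.gcd 3 (r ^ f - 1) ≤ 3 := Nat.gcd_le_left _ (by norm_num)
    have h8 : 0 < Nat.gcd 3 (r ^ f - 1) := Nat.gcd_pos_of_pos_left _ (by norm_num)
    have h9 := Nat.le_of_dvd (by positivity) h6
    have h2f : 2 * f ≤ s := by rw [hK]; exact H691.Fam.two_mul_le_pow hr.two_le hf
    have h10 : 2 * f * Nat.gcd 3 (r ^ f - 1) ≤ s * 3 := Nat.mul_le_mul h2f h7
    have h11 : s ≤ 3 := by nlinarith only [h7, h9, h2f]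
    have h12 : s = 3 := by omega
    apply hr3
    rw [h12] at hK
    exact (Nat.prime_dvd_prime_iff_eq hr Nat.prime_three).1 (h12 ▸ hrs)
  · exfalso
    have : 27 ≤ Fintype.card K ^ 3 := Nat.pow_le_pow_left h3K 3
    omega

/-- **Lie type**: the socle is `PSL₃(q)`. -/
theorem lie3 {A : Type u} [Group A] [Finite A] {S : Subgroup A} (h : AS A S) {p F : ℕ} (hp : p.Prime)
    (hF : F ≠ 0) (h3 : 3 ≤ p ^ F) (hpS : p ∣ Nat.card S) (hD : charDegrees A ⊆ DT (p ^ F)) (hIM : IMS S)
    (h8 : ¬ Nonempty (S ≃* alternatingGroup (Fin 8))) {r : ℕ} (hr : r.Prime) (hL : IsLieTypeChar r S)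
    (htwo : ∀ (K : Type) [Field K] [Fintype K], Fintype.card K ^ 2 + Fintype.card K ∈
      charDegrees (ProjectiveSpecialLinearGroup (Fin 3) K)) :
    ∃ (K : Type) (_ : Field K) (_ : Fintype K), Fintype.card K = p ^ F ∧
      Nonempty (S ≃* ProjectiveSpecialLinearGroup (Fin 3) K) := by
  have := h.simple
  rcases lie_conc3 hr h.nonab hL with h1 | h1 | h1 | h1
  · exact (psl_two_false h hp hF h3 hD h1).elim
  · exact psl_three h hp hF h3 hD h1 htwo
  · exact absurd h1 h8
  · obtain ⟨s, out, -, h2, -, h4, h5'⟩ := h1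
    exact (false_of_NF3 h hp hF h3 hpS hD hIM (st_mem h hr hL h2) h4 h5').elim

end Cfsg.Agent.H691.T3.Lie
end

-- part: H691/T3/KOne
section
/-!
# The simple factor is normalised (helper691)

`kone3` : if the degrees of `G` are in `DT q`, `q ≥ 3`, `R₀ ⊲ N` with `N / R₀` nonabelian simple, and every almost
simple group with socle `N / R₀` (and abelian top) has an extendible character, then `R₀` is normalised by `G`.
-/

set_option autoImplicit false

open scoped commutatorElement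

namespace Cfsg.Agent.H691.T3.KOne

open Cfsg Cfsg.Agent.Characters Cfsg.Agent.Characters.Core Cfsg.Agent.H681.DegBasic Cfsg.Agent.H686.CharKit
open Cfsg.Agent.H691.KOne Cfsg.Agent.H691.ExtChar

universe u

/-- There is an irreducible character of `A` of degree at least three which is irreducible on `S`. -/
def HasExt3 (A : Type u) [Group A] (S : Subgroup A) : Prop :=
  ∃ χ : A → ℂ, IsIrrCharacter A χ ∧ IsIrrCharacter S (fun s : S => χ s) ∧ ∃ n : ℕ, χ 1 = n ∧ 3 ≤ n

/-- Another form. -/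
def HasExtC (A : Type u) [Group A] (S : Subgroup A) [Finite S] : Prop :=
  ∃ (χ : A → ℂ) (α : S → ℂ), IsIrrCharacter A χ ∧ IsIrrCharacter S α ∧ H672.Over S.subtype χ α ∧
    charDegree χ ≤ charDegree α ∧ 3 ≤ charDegree α

theorem hasExtC_of_ext {A : Type u} [Group A] [Finite A] {S : Subgroup A} (h : HasExt3 A S) : HasExtC A S := by
  classical
  obtain ⟨χ, hχ, hχS, n, h1, h3⟩ := h
  have := Fintype.ofFinite S
  have h2 : charDegree (fun s : S => χ s) = n := H672.charDegree_of_eq h1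
  have h4 : charDegree χ = n := H672.charDegree_of_eq h1
  refine ⟨χ, fun s : S => χ s, hχ, hχS, ?_, ?_, ?_⟩
  · rw [H672.over_subtype_iff, Cfsg.Agent.Characters.Core.classInner_irr_self hχS]
    exact one_ne_zero
  · rw [h2, h4]
  · rw [h2]
    exact h3

section

variable {K : Type u} [Group K]

/-- A maximal normal subgroup with nonabelian quotient is prime. -/
theorem MN.prime {M L₁ L₂ : Subgroup K} (h : MN M) (h₁ : L₁.Normal) (h₂ : L₂.Normal) (hle : L₁ ⊓ L₂ ≤ M) :
    L₁ ≤ M ∨ L₂ ≤ M := by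
  by_contra hcon
  push Not at hcon
  have hn := h.normal
  have e : ∀ L : Subgroup K, L.Normal → ¬ L ≤ M → M ⊔ L = ⊤ := by
    intro L hL hLM
    have := h.normal
    rcases h.max (M ⊔ L) inferInstance le_sup_left with h2 | h2
    · exact absurd (le_sup_right.trans (le_of_eq h2)) hLM
    · exact h2
  have e₁ := e L₁ h₁ hcon.1
  have e₂ := e L₂ h₂ hcon.2
  obtain ⟨a, b, hab⟩ := h.na
  apply hab
  have ha : a ∈ M ⊔ L₁ := by rw [e₁]; exact Subgroup.mem_top _
  have hb : b ∈ M ⊔ L₂ := by rw [e₂]; exact Subgroup.mem_top _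
  rw [Subgroup.mem_sup_of_normal_left] at ha hb
  obtain ⟨m, hm, a₁, ha₁, rfl⟩ := ha
  obtain ⟨m', hm', b₂, hb₂, rfl⟩ := hb
  have h5 : a₁ * b₂ * a₁⁻¹ * b₂⁻¹ ∈ M := by
    apply hle
    refine ⟨?_, ?_⟩
    · have h6 : a₁ * b₂ * a₁⁻¹ * b₂⁻¹ = a₁ * (b₂ * a₁⁻¹ * b₂⁻¹) := by group
      rw [h6]
      exact L₁.mul_mem ha₁ (h₁.conj_mem _ (L₁.inv_mem ha₁) b₂)
    · exact L₂.mul_mem (h₂.conj_mem _ hb₂ a₁) (L₂.inv_mem hb₂)
  rw [← QuotientGroup.eq_one_iff] at h5 ⊢
  have hm1 : (QuotientGroup.mk m : K ⧸ M) = 1 := (QuotientGroup.eq_one_iff m).2 hm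
  have hm2 : (QuotientGroup.mk m' : K ⧸ M) = 1 := (QuotientGroup.eq_one_iff m').2 hm'
  simp only [QuotientGroup.mk_mul, QuotientGroup.mk_inv, hm1, hm2, one_mul] at h5 ⊢
  exact h5

/-- Products of characters with different maximal normal kernels are irreducible. -/
theorem irr_prod [Finite K] {ι : Type*} (α : ι → IrrCharacter K) (hMN : ∀ i, MN (chKer (α i)))
    (hne : ∀ i j, i ≠ j → chKer (α i) ≠ chKer (α j)) (s : Finset ι) :
    IsIrrCharacter K (∏ i ∈ s, (α i : K → ℂ)) ∧ ∃ L : Subgroup K, L.Normal ∧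
      (∀ l ∈ L, (∏ i ∈ s, (α i : K → ℂ)) l = (∏ i ∈ s, (α i : K → ℂ)) 1) ∧
      ∀ M : Subgroup K, MN M → L ≤ M → ∃ i ∈ s, chKer (α i) ≤ M := by
  classical
  induction s using Finset.induction_on with
  | empty =>
    refine ⟨?_, ⊤, inferInstance, fun l _ => by simp only [_root_.Finset.prod_apply, _root_.Finset.prod_empty], fun M hM h => ?_⟩
    · rw [Finset.prod_empty]
      exact isIrr_one
    · exact absurd (top_le_iff.1 h) hM.ne_top
  | insert a s ha ih =>
    obtain ⟨h1, L, hL, h2, h3⟩ := ih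
    have hsup : L ⊔ chKer (α a) = ⊤ := by
      have hn := (hMN a).normal
      rcases (hMN a).max (L ⊔ chKer (α a)) inferInstance le_sup_right with h4 | h4
      · exfalso
        obtain ⟨i, hi, h5⟩ := h3 _ (hMN a) (le_sup_left.trans (le_of_eq h4))
        rcases (hMN i).max _ hn h5 with h6 | h6
        · exact hne i a (fun h => ha (h ▸ hi)) h6.symm
        · exact (hMN a).ne_top h6
      · exact h4
    have h4 : IsIrrCharacter L ((α a : K → ℂ) ∘ L.subtype) := by
      have hn := (hMN a).normal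
      exact isIrr_restrict_of_ker L (chKer (α a)) hsup (α a).2 (fun z hz => hz)
    have h5 := irr_mul L (α a).2 h4 h1 h2
    rw [Finset.prod_insert ha, mul_comm]
    refine ⟨h5, L ⊓ chKer (α a), ?_, ?_, ?_⟩
    · have hn := (hMN a).normal
      infer_instance
    · rintro l ⟨hl1, hl2⟩
      rw [Pi.mul_apply, Pi.mul_apply, h2 l hl1]
      have h6 : (α a : K → ℂ) l = (α a : K → ℂ) 1 := hl2
      rw [h6]
    · intro M hM h6
      rcases MN.prime hM hL (hMN a).normal h6 with h7 | h7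
      · obtain ⟨i, hi, h8⟩ := h3 M hM h7
        exact ⟨i, Finset.mem_insert_of_mem hi, h8⟩
      · exact ⟨a, Finset.mem_insert_self _ _, h7⟩

end

/-! ### numbers -/

theorem sq_le {k b : ℕ} (hk : 2 ≤ k) (hb : 3 ≤ b) : (k * b) ^ 2 ≤ 4 * b ^ k := by
  obtain ⟨j, rfl⟩ : ∃ j, k = j + 2 := ⟨k - 2, by omega⟩
  have h1 : (j + 2) ^ 2 ≤ 4 * b ^ j := by
    clear hk
    induction j with
    | zero => norm_num
    | succ j ih =>
      have h2 : 3 * (4 * b ^ j) ≤ 4 * b ^ (j + 1) := by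
        rw [pow_succ]
        nlinarith [Nat.zero_le (b ^ j)]
      have h3 : (j + 1 + 2) ^ 2 ≤ 3 * (j + 2) ^ 2 := by linarith only [_root_.sq_nonneg (↑j : ℤ), _root_.Nat.cast_nonneg (α := ℤ) (j)]
      linarith
  calc ((j + 2) * b) ^ 2 = (j + 2) ^ 2 * b ^ 2 := by ring
    _ ≤ 4 * b ^ j * b ^ 2 := Nat.mul_le_mul_right _ h1
    _ = 4 * b ^ (j + 2) := by ring

theorem dt_three {d : ℕ} (h : d ∈ DT 3) : d = 1 ∨ d = 12 ∨ d = 27 ∨ d = 26 ∨ d = 16 ∨ d = 13 ∨ d = 39 := by
  rcases h with h | h | h | h | h | ⟨-, h | h⟩ | ⟨h5, h⟩ | ⟨h3, h | h⟩ <;> omega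

theorem dt_four {d : ℕ} (h : d ∈ DT 4) :
    d = 1 ∨ d = 20 ∨ d = 64 ∨ d = 63 ∨ d = 45 ∨ d = 21 ∨ d = 84 ∨ d = 35 ∨ d = 15 := by
  rcases h with h | h | h | h | h | ⟨-, h | h⟩ | ⟨h5, h⟩ | ⟨h3, h | h⟩ <;> omega

theorem dt_ge {q d : ℕ} (hq : 5 ≤ q) (h : d ∈ DT q) (h1 : d ≠ 1) : q ^ 2 + q ≤ d := by
  have hc := cube_sub q (by omega)
  obtain ⟨t, rfl⟩ : ∃ t, q = t + 5 := ⟨q - 5, by omega⟩
  rw [show t + 5 - 1 = t + 4 by omega] at hc
  have h3 : (t + 5) ^ 2 + (t + 5) ≤ (t + 5) ^ 3 := by linarith only [Nat.zero_le (t ^ 3), _root_.sq_nonneg (↑t : ℤ), _root_.Nat.cast_nonneg (α := ℤ) (t)]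
  rcases h with h | h | h | h | h | ⟨-, h | h⟩ | ⟨-, h⟩ | ⟨h31, h | h⟩
  · exact absurd h h1
  · omega
  · omega
  · nlinarith only [h]
  · rw [h, show t + 5 - 1 = t + 4 by omega]
    linarith only [Nat.zero_le (t ^ 3), _root_.sq_nonneg (↑t : ℤ), _root_.Nat.cast_nonneg (α := ℤ) (t)]
  · omega
  · rw [h]
    linarith only [h3, _root_.sq_nonneg (↑t + 5 : ℤ), _root_.Nat.cast_nonneg (α := ℤ) (t)]
  · rw [h]
    linarith only [h3, _root_.sq_nonneg (↑t + 5 : ℤ), _root_.Nat.cast_nonneg (α := ℤ) (t)]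
  · linarith only [h3, h]
  · -- `3 ∣ q - 1` so `q ≥ 7`
    rw [show t + 5 - 1 = t + 4 by omega] at h h31
    obtain ⟨u, rfl⟩ : ∃ u, t = u + 2 := ⟨t - 2, by omega⟩
    linarith only [h, Nat.zero_le (u ^ 3), _root_.sq_nonneg (↑u : ℤ), _root_.Nat.cast_nonneg (α := ℤ) (u)]

theorem not_pow {b k n : ℕ} (hk : 2 ≤ k) (hb : 3 ≤ b) (h : b ^ k = n) (hn : n < 100)
    (h2 : ∀ b < 10, ∀ k < 7, 2 ≤ k → 3 ≤ b → b ^ k ≠ n) : False := by
  have hk7 : k < 7 := by
    by_contra hcon
    have h1 : 3 ^ 7 ≤ b ^ k := (Nat.pow_le_pow_left hb 7).trans (Nat.pow_le_pow_right (by omega) (by omega))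
    norm_num at h1
    omega
  have hb10 : b < 10 := by
    by_contra hcon
    have h1 : 10 ^ 2 ≤ b ^ k := (Nat.pow_le_pow_left (by omega) 2).trans (Nat.pow_le_pow_right (by omega) hk)
    norm_num at h1
    omega
  exact h2 b hb10 k hk7 hk hb h

theorem numeric3 {q k b x d : ℕ} (hq : 3 ≤ q) (hk : 2 ≤ k) (hb : 3 ≤ b) (hx : x ∈ DT q) (hx1 : x ≠ 1)
    (hxk : x ≤ k * b) (hbx : b ∣ x) (hd : d ∈ DT q) (hd0 : d ≠ 0) (hbd : b ^ k ∣ d) : False := by
  have h1 : x ^ 2 ≤ 4 * b ^ k := (Nat.pow_le_pow_left hxk 2).trans (sq_le hk hb)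
  have h2 := Nat.le_of_dvd (Nat.pos_of_ne_zero hd0) hbd
  rcases Nat.lt_or_ge q 5 with h5 | h5
  · have h34 : q = 3 ∨ q = 4 := by omega
    rcases h34 with rfl | rfl
    · have hx' := dt_three hx
      have hx12 : 12 ≤ x := by omega
      have h3 : 36 ≤ b ^ k := by nlinarith only [h1, hx12]
      have hd' : d = 39 := by
        rcases dt_three hd with h | h | h | h | h | h | h <;> omega
      subst hd'
      have h4 : b ^ k = 39 := by
        obtain ⟨c, hc⟩ := hbd
        rcases c with _ | _ | c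
        · omega
        · omega
        · exfalso
          have : b ^ k * 2 ≤ b ^ k * (c + 1 + 1) := Nat.mul_le_mul_left _ (by omega)
          omega
      exact not_pow hk hb h4 (by norm_num) (by decide)
    · have hx' := dt_four hx
      have hx15 : 15 ≤ x := by omega
      have h3 : 57 ≤ b ^ k := by nlinarith only [h1, hx15]
      have hbk : b ^ k = d := by
        obtain ⟨c, hc⟩ := hbd
        have h84 : d ≤ 84 := by rcases dt_four hd with h | h | h | h | h | h | h | h | h <;> omega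
        rcases c with _ | _ | c
        · omega
        · omega
        · exfalso
          have : b ^ k * 2 ≤ b ^ k * (c + 1 + 1) := Nat.mul_le_mul_left _ (by omega)
          omega
      rcases dt_four hd with h | h | h | h | h | h | h | h | h
      · omega
      · omega
      · -- `64`
        rw [h] at hbk
        have hk7 : k < 7 := by
          by_contra hcon
          have h1 : 3 ^ 7 ≤ b ^ k := (Nat.pow_le_pow_left hb 7).trans (Nat.pow_le_pow_right (by omega) (by omega))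
          norm_num at h1
          omega
        have hb10 : b < 10 := by
          by_contra hcon
          have h1 : 10 ^ 2 ≤ b ^ k := (Nat.pow_le_pow_left (by omega) 2).trans (Nat.pow_le_pow_right (by omega) hk)
          norm_num at h1
          omega
        have h8 : (b = 8 ∧ k = 2) ∨ (b = 4 ∧ k = 3) := by
          revert hbk
          interval_cases b <;> interval_cases k <;> simp
        rcases h8 with ⟨rfl, rfl⟩ | ⟨rfl, rfl⟩
        · have : x = 15 ∨ x = 16 := by omega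
          omega
        · omega
      · exact not_pow hk hb (hbk.trans h) (by norm_num) (by decide)
      · omega
      · omega
      · exact not_pow hk hb (hbk.trans h) (by norm_num) (by decide)
      · omega
      · omega
  · have h3 := dt_ge h5 hx hx1
    have h4 := dt_le (by omega) hd
    have h6 : (q ^ 2 + q) ^ 2 ≤ 4 * ((q + 1) * (q ^ 2 + q + 1)) := by
      have := Nat.pow_le_pow_left h3 2
      omega
    obtain ⟨t, rfl⟩ : ∃ t, q = t + 5 := ⟨q - 5, by omega⟩
    linarith only [h6, Nat.zero_le (t ^ 3), Nat.zero_le (t ^ 4), _root_.sq_nonneg (↑t : ℤ), _root_.Nat.cast_nonneg (α := ℤ) (t)]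

section

variable {G : Type u} [Group G] [Finite G] (N : Subgroup G) [hN : N.Normal]

/-- **The simple factor is unique.** -/
theorem top_of_ext3 {q : ℕ} (hq : 3 ≤ q) (hD : charDegrees G ⊆ DT q) (α : IrrCharacter N)
    (hs : IsSimpleGroup (N ⧸ chKer α)) (hna : ¬ IsMulCommutative (N ⧸ chKer α))
    {χT : TT N α → ℂ} (hχT : IsIrrCharacter (TT N α) χT)
    (hov : H672.Over (Subgroup.inclusion (le_TT N α)) χT α)
    (hc : charDegree χT ≤ charDegree (α : N → ℂ)) (hb : 3 ≤ charDegree (α : N → ℂ)) : TT N α = ⊤ := by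
  classical
  have := Fintype.ofFinite G
  have := Fintype.ofFinite N
  by_contra hne
  set b := charDegree (α : N → ℂ) with hbdef
  have hα1 : (α : N → ℂ) 1 = b := (charDegree_irr α).symm
  -- a character of `G` over `χT`
  obtain ⟨χ, hχ, hoχ⟩ := H672.exists_over_subtype (TT N α) hχT
  have hle : charDegree χ ≤ (TT N α).index * charDegree χT := by
    have := Fintype.ofFinite (TT N α)
    exact H621.SymDeg.degree_le_index_mul (TT N α) hχ hχT ((H672.over_subtype_iff _ χ χT).1 hoχ)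
      (H672.coe_charDegree hχ).symm (H672.coe_charDegree hχT).symm
  have hαχ : H672.Over N.subtype χ (α : N → ℂ) := by
    have h1 : H672.Over ((TT N α).subtype.comp (Subgroup.inclusion (le_TT N α))) χ (α : N → ℂ) :=
      (H672.over_comp_iff _ _ (isIrr_isCharacter hχ) α.2).2 ⟨χT, hχT, hoχ, hov⟩
    exact h1
  have hbχ : b ∣ charDegree χ := (H672.charDegree_dvd_of_over N hχ α.2 hαχ).1
  have hχpos := H672.charDegree_pos hχ
  have hbχ' := Nat.le_of_dvd hχpos hbχ
  -- the conjugates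
  let ι := G ⧸ TT N α
  have : Fintype ι := Fintype.ofFinite _
  let a : ι → IrrCharacter N := fun i => cj N (Quotient.out i : G)⁻¹ α
  have hR : MN (chKer α) := MN.of_simple _ hs hna
  have hMN : ∀ i, MN (chKer (a i)) := by
    intro i
    rw [ker_cj]
    exact hR.comap _
  have hneq : ∀ i j, i ≠ j → chKer (a i) ≠ chKer (a j) := by
    intro i j hij h
    apply hij
    rw [← Quotient.out_eq i, ← Quotient.out_eq j]
    change (QuotientGroup.mk (Quotient.out i : G) : ι) = QuotientGroup.mk (Quotient.out j : G)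
    rw [QuotientGroup.eq]
    intro n
    have h1 : ∀ m : N, (MulAut.conjNormal (Quotient.out i : G)⁻¹ : MulAut N) m ∈ chKer α ↔
        (MulAut.conjNormal (Quotient.out j : G)⁻¹ : MulAut N) m ∈ chKer α := by
      intro m
      rw [← mem_ker_cj, ← mem_ker_cj]
      change m ∈ chKer (a i) ↔ m ∈ chKer (a j)
      rw [h]
    have h2 := h1 ((MulAut.conjNormal (Quotient.out j : G) : MulAut N) n)
    rw [← MulAut.mul_apply, ← map_mul, ← MulAut.mul_apply, ← map_mul, inv_mul_cancel, map_one] at h2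
    exact h2
  obtain ⟨hirr, -⟩ := irr_prod a hMN hneq Finset.univ
  have hdeg : charDegree (∏ i : ι, (a i : N → ℂ)) = b ^ (TT N α).index := by
    apply H672.charDegree_of_eq
    have h1 : ∀ i : ι, (a i : N → ℂ) 1 = b := by
      intro i
      change (cj N _ α : N → ℂ) 1 = b
      rw [cj_apply, map_one, hα1]
    rw [Finset.prod_apply, Finset.prod_congr rfl fun i _ => h1 i, Finset.prod_const, Finset.card_univ,
      ← Nat.card_eq_fintype_card, ← Subgroup.index_eq_card]
    push_cast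
    rfl
  obtain ⟨χ', hχ', ho'⟩ := H672.exists_over_subtype N hirr
  have h3 := (H672.charDegree_dvd_of_over N hχ' hirr ho').1
  rw [hdeg] at h3
  have h7 : 2 ≤ (TT N α).index := by
    have h8 : (TT N α).index ≠ 0 := Subgroup.index_ne_zero_of_finite
    have h9 : (TT N α).index ≠ 1 := fun h => hne (Subgroup.index_eq_one.1 h)
    omega
  exact numeric3 hq h7 hb (hD ⟨⟨χ, hχ⟩, rfl⟩) (by change charDegree χ ≠ 1; omega)
    (hle.trans (Nat.mul_le_mul_left _ hc)) hbχ (hD ⟨⟨χ', hχ'⟩, rfl⟩) (H672.charDegree_pos hχ').ne' h3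

end

section

variable {G : Type u} [Group G] (N : Subgroup G) [hN : N.Normal]

theorem exists_char3 [Finite G] (hcomm : commutator G ≤ N) (R : Subgroup N) [hR : R.Normal]
    (hs : IsSimpleGroup (N ⧸ R)) (hna : ¬ IsMulCommutative (N ⧸ R))
    (hE : ∀ (A : Type u) [Group A] [Finite A] (S : Subgroup A), AS A S → HasExt3 A S) :
    ∃ (α : IrrCharacter N) (χ : TR N R → ℂ), chKer α = R ∧ IsIrrCharacter (TR N R) χ ∧
      H672.Over (Subgroup.inclusion (le_TR N R)) χ (α : N → ℂ) ∧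
      charDegree χ ≤ charDegree (α : N → ℂ) ∧ 3 ≤ charDegree (α : N → ℂ) := by
  classical
  set Y := TR N R with hY
  set N' : Subgroup Y := N.subgroupOf Y with hN'
  set R' : Subgroup Y := (R.map N.subtype).subgroupOf Y with hR'
  have i1 : N'.Normal := inferInstance
  have hmem : ∀ (n : N), (n : G) ∈ R.map N.subtype ↔ n ∈ R := by
    intro n
    constructor
    · rintro ⟨m, hm, h⟩
      have : m = n := Subtype.ext h
      rwa [← this]
    · exact fun h => ⟨n, h, rfl⟩
  have i2 : R'.Normal := by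
    refine ⟨fun r hr y => ?_⟩
    rw [hR', Subgroup.mem_subgroupOf] at hr ⊢
    obtain ⟨n, hn, hnr⟩ := hr
    have h1 := (y.2 n).2 hn
    refine ⟨_, h1, ?_⟩
    rw [Subgroup.coe_subtype, MulAut.conjNormal_apply]
    have hnr' : (n : G) = (r : G) := hnr
    rw [hnr']
    rfl
  have hRN : R' ≤ N' := by
    intro y hy
    rw [hR', Subgroup.mem_subgroupOf] at hy
    rw [hN', Subgroup.mem_subgroupOf]
    obtain ⟨n, -, h⟩ := hy
    rw [← h]
    exact n.2
  let eN : N' ≃* N := Subgroup.subgroupOfEquivOfLe (le_TR N R)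
  have heN : ∀ x : N', ((eN x : N) : G) = ((x : Y) : G) := fun x => rfl
  have hmap : (R'.subgroupOf N').map eN.toMonoidHom = R := by
    ext n
    constructor
    · rintro ⟨x, hx, rfl⟩
      have h1 : ((x : Y) : G) ∈ R.map N.subtype := hx
      rw [← heN] at h1
      exact (hmem _).1 h1
    · intro hn
      refine ⟨eN.symm n, ?_, by simp⟩
      change (((eN.symm n : N') : Y) : G) ∈ R.map N.subtype
      rw [← heN, eN.apply_symm_apply]
      exact (hmem _).2 hn
  let eQ : (N' ⧸ R'.subgroupOf N') ≃* (N ⧸ R) := QuotientGroup.congr _ _ eN hmap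
  have hs' : IsSimpleGroup (N' ⧸ R'.subgroupOf N') := eQ.isSimpleGroup
  have hna' : ¬ IsMulCommutative (N' ⧸ R'.subgroupOf N') := fun hc =>
    hna ⟨⟨fun a b => eQ.symm.injective (by rw [map_mul, map_mul]; exact hc.is_comm.comm _ _)⟩⟩
  have hcomm' : commutator Y ≤ N' := by
    rw [commutator_def, Subgroup.commutator_le]
    intro a _ b _
    rw [hN', Subgroup.mem_subgroupOf]
    apply hcomm
    exact Subgroup.commutator_mem_commutator (Subgroup.mem_top (a : G)) (Subgroup.mem_top (b : G))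
  let K := AExt.KK N' R'
  let π : Y →* Y ⧸ K := QuotientGroup.mk' K
  let S : Subgroup (Y ⧸ K) := N'.map π
  obtain ⟨hAS, e, he⟩ : AS (Y ⧸ K) S ∧ ∃ e : (N' ⧸ R'.subgroupOf N') ≃* S,
      ∀ n : N', ((e (QuotientGroup.mk n) : S) : Y ⧸ K) = π n := AExt.exists_AS hRN hs' hna' hcomm'
  obtain ⟨χ, θ, hχ, hθ, ho, hc, hb⟩ := hasExtC_of_ext (hE _ S hAS)
  -- the projection of `N` onto `S`
  let g : N →* S := (e.toMonoidHom.comp (QuotientGroup.mk' (R'.subgroupOf N'))).comp eN.symm.toMonoidHom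
  have hg : Function.Surjective g :=
    (e.surjective.comp (QuotientGroup.mk'_surjective _)).comp eN.symm.surjective
  have hgval : ∀ n : N, ((g n : S) : Y ⧸ K) = π (Subgroup.inclusion (le_TR N R) n) := by
    intro n
    have h1 := he (eN.symm n)
    exact h1
  have hgker : ∀ n : N, g n = 1 ↔ n ∈ R := by
    intro n
    have h1 : g n = e (QuotientGroup.mk (eN.symm n)) := rfl
    rw [h1, EmbeddingLike.map_eq_one_iff, QuotientGroup.eq_one_iff, Subgroup.mem_subgroupOf]
    exact hmem n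
  have hirr : IsIrrCharacter N (θ ∘ g) := isIrr_comp g hg hθ
  have hnaS : ¬ ∀ a b : S, a * b = b * a := fun h => hAS.nonab ⟨⟨h⟩⟩
  have hsS := hAS.simple
  have hdeg : charDegree (θ ∘ g) = charDegree θ := by
    apply H672.charDegree_of_eq
    rw [Function.comp, map_one, H672.coe_charDegree hθ]
  have hθ1 : θ 1 ≠ 1 := by
    intro h
    have h1 : charDegree θ = 1 := H672.charDegree_of_eq (by rw [h]; simp)
    omega
  refine ⟨⟨θ ∘ g, hirr⟩, χ ∘ π, ?_, isIrr_comp π (QuotientGroup.mk'_surjective _) hχ, ?_, ?_, ?_⟩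
  · ext n
    rw [mem_chKer, ← hgker n]
    constructor
    · intro h
      have h1 : θ (g n) = θ (g 1) := h
      rw [map_one] at h1
      exact H681.SimpleChar.eq_one_of_norm_eq hnaS hθ hθ1 (by rw [h1])
    · intro h
      change θ (g n) = θ (g 1)
      rw [h, map_one]
  · have h1 : H672.Over (S.subtype.comp g) χ (θ ∘ g) := by
      refine (H672.over_comp_iff _ _ (isIrr_isCharacter hχ) hirr).2 ⟨θ, hθ, ho, ?_⟩
      have := Fintype.ofFinite N
      rw [H672.over_iff, classInner_irr_self hirr]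
      exact one_ne_zero
    have := Fintype.ofFinite N
    rw [H672.over_iff] at h1 ⊢
    have h2 : (χ ∘ π) ∘ (Subgroup.inclusion (le_TR N R)) = χ ∘ (S.subtype.comp g) := by
      funext n
      change χ (π (Subgroup.inclusion (le_TR N R) n)) = χ ((g n : S) : Y ⧸ K)
      rw [hgval]
    rw [h2]
    exact h1
  · have h1 : charDegree (χ ∘ π) = charDegree χ := by
      apply H672.charDegree_of_eq
      rw [Function.comp, map_one, H672.coe_charDegree hχ]
    change charDegree (χ ∘ π) ≤ charDegree (θ ∘ g)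
    rw [h1, hdeg]
    exact hc
  · change 3 ≤ charDegree (θ ∘ g)
    rw [hdeg]
    exact hb

/-- **The simple factor is normalised.** -/
theorem kone3 [Finite G] (hcomm : commutator G ≤ N) (R : Subgroup N) [hR : R.Normal]
    (hs : IsSimpleGroup (N ⧸ R)) (hna : ¬ IsMulCommutative (N ⧸ R))
    (hE : ∀ (A : Type u) [Group A] [Finite A] (S : Subgroup A), AS A S → HasExt3 A S)
    {q : ℕ} (hq : 3 ≤ q) (hD : charDegrees G ⊆ DT q) : (R.map N.subtype).Normal := by
  obtain ⟨α, χ, hαR, hχ, ho, hc, hb⟩ := exists_char3 N hcomm R hs hna hE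
  subst hαR
  have h1 : TT N α = ⊤ := top_of_ext3 N hq hD α hs hna (χT := χ) hχ ho hc hb
  refine ⟨fun x hx g => ?_⟩
  obtain ⟨n, hn, rfl⟩ := hx
  have hg : g ∈ TT N α := by rw [h1]; exact Subgroup.mem_top g
  refine ⟨_, (hg n).2 hn, ?_⟩
  rw [Subgroup.coe_subtype, MulAut.conjNormal_apply]

end

end Cfsg.Agent.H691.T3.KOne
end

-- part: H973/SLThree
section
/-!
# S4855: the degrees of `SL₃(F)` from those of `GL₃(F)` (helper973, for helper691)

`clifford_three` : Clifford theory for the kernel `N` of a surjection `f : G → C` onto a cyclic group, the elements `g` with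
`f g` a cube fixing `θ ∈ Irr N`;
`sl3_sub`.
-/

set_option autoImplicit false

open scoped ComplexConjugate

namespace Cfsg.Agent.H973.SLThree

open Cfsg Matrix
open Cfsg.Agent.Characters.Core Cfsg.Agent.CharactersDeep Cfsg.Agent.H691.T3

section Abs

variable {G C : Type*} [Group G] [Fintype G] [CommGroup C] (f : G →* C)

/-- the stabiliser of a function on a normal subgroup -/
def inertia (N : Subgroup G) [hN : N.Normal] (θ : N → ℂ) : Subgroup G where
  carrier := {g | ∀ n : N, θ ⟨g * n * g⁻¹, hN.conj_mem (n : G) n.2 g⟩ = θ n}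
  one_mem' := fun n => by
    congr 1
    apply Subtype.ext
    simp
  mul_mem' := by
    intro a b ha hb n
    have h1 := ha ⟨b * n * b⁻¹, hN.conj_mem (n : G) n.2 b⟩
    rw [hb n] at h1
    rw [← h1]
    congr 1
    apply Subtype.ext
    show a * b * n * (a * b)⁻¹ = a * (b * n * b⁻¹) * a⁻¹
    group
  inv_mem' := by
    intro a ha n
    have h1 := ha ⟨a⁻¹ * n * a⁻¹⁻¹, hN.conj_mem (n : G) n.2 a⁻¹⟩
    rw [← h1]
    congr 1
    apply Subtype.ext
    show a * (a⁻¹ * n * a⁻¹⁻¹) * a⁻¹ = n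
    group

end Abs

/-! ### `GL₃` -/

theorem charDegree_eq {G : Type*} [Group G] {χ : G → ℂ} {n : ℕ} (h : χ 1 = n) : charDegree χ = n := by
  unfold charDegree
  rw [h, Complex.natCast_re, Nat.floor_natCast]

end Cfsg.Agent.H973.SLThree
end

-- part: H612/Deg3/Restr
section
/-!
# The restriction of the characters of `GL_3(q)` to `SL_3(q)` (helper612)

`clifford_over` : (after helper973) Clifford theory for a cyclic quotient, with the character lying over;
`cusp_sl` : the degree of a character of `SL_3(q)` without fixed vectors of the unipotent radical.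
-/

set_option autoImplicit false
set_option linter.unusedSectionVars false
set_option linter.unusedSimpArgs false

open scoped ComplexConjugate
open Cfsg Matrix

namespace Cfsg.Agent.H612.Deg3

open Cfsg.Agent.Characters.Core Cfsg.Agent.CharactersDeep Cfsg.Agent.H973.SLThree

universe u v

section Abs

variable {G C : Type*} [Group G] [Fintype G] [CommGroup C] (f : G →* C)

/-- **Clifford theory** for a cyclic quotient and a character fixed by the elements which are cubes in the quotient. -/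
theorem clifford_over [Finite C] [IsCyclic C] (hf : Function.Surjective f) (N : Subgroup G) [hNn : N.Normal]
    [Fintype N] (hN : N = f.ker) {θ : N → ℂ} (hθ : IsIrrCharacter N θ)
    (hcube : ∀ g : G, (∃ c, f g = c ^ 3) → ∀ n : N, θ ⟨g * n * g⁻¹, hNn.conj_mem (n : G) n.2 g⟩ = θ n) :
    ∃ χ : G → ℂ, IsIrrCharacter G χ ∧ classInner (fun n : N => χ n) θ ≠ 0 ∧
      (χ 1 = θ 1 ∨ (3 ∣ Nat.card C ∧ χ 1 = 3 * θ 1)) := by
  classical
  set T := inertia N θ with hT
  by_cases hTt : T = ⊤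
  · have hinv : ∀ (g : G) (n : N), θ ⟨g * n * g⁻¹, hNn.conj_mem (n : G) n.2 g⟩ = θ n := by
      intro g
      have : g ∈ T := by rw [hTt]; trivial
      exact this
    have hcyc : IsCyclic (G ⧸ N) := by
      subst hN
      exact isCyclic_of_surjective (QuotientGroup.quotientKerEquivOfSurjective f hf).symm
        (QuotientGroup.quotientKerEquivOfSurjective f hf).symm.surjective
    obtain ⟨χ, hχ, hχθ⟩ := Cfsg.Agent.S0886.result N hcyc θ hθ hinv
    refine ⟨χ, hχ, ?_, Or.inl (hχθ 1)⟩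
    have : (fun n : N => χ n) = θ := funext hχθ
    rw [this, classInner_irr_self hθ]
    exact one_ne_zero
  · -- the index of `T`
    have hNT : N ≤ T := by
      intro g hg
      rw [hN] at hg
      have h1 : f g = (1 : C) ^ 3 := by rw [MonoidHom.mem_ker.1 hg, one_pow]
      exact hcube g ⟨1, h1⟩
    have hMT : ((powMonoidHom 3 : C →* C).range).comap f ≤ T := by
      rintro g ⟨c, hc⟩
      exact hcube g ⟨c, hc.symm⟩
    have hidx : T.index = 3 ∧ 3 ∣ Nat.card C := by
      have h1 : T.index ∣ (Nat.card C).gcd 3 := by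
        rw [← IsCyclic.index_powMonoidHom_range, ← Subgroup.index_comap_of_surjective _ hf]
        exact Subgroup.index_dvd_of_le hMT
      have h2 : T.index ≠ 1 := fun h => hTt (Subgroup.index_eq_one.1 h)
      have h3 : T.index ∣ 3 := h1.trans (Nat.gcd_dvd_right _ _)
      have h4 : T.index = 3 := by
        rcases (Nat.dvd_prime Nat.prime_three).1 h3 with h5 | h5
        · exact absurd h5 h2
        · exact h5
      rw [h4] at h1
      exact ⟨h4, h1.trans (Nat.gcd_dvd_left _ _)⟩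
    have hTn : T.Normal := by
      refine ⟨fun t ht g => ?_⟩
      have h1 : g * t * g⁻¹ * t⁻¹ ∈ N := by
        rw [hN, MonoidHom.mem_ker, map_mul, map_mul, map_mul, map_inv, map_inv, mul_comm (f g) (f t),
          mul_inv_cancel_right, mul_inv_cancel]
      have h2 := T.mul_mem (hNT h1) ht
      rwa [inv_mul_cancel_right] at h2
    -- the extension to `T`
    have hcycT : IsCyclic (T ⧸ (N.subgroupOf T)) := by
      have h1 : IsCyclic (T ⧸ (f.comp T.subtype).ker) := by
        have h2 : IsCyclic (f.comp T.subtype).range := inferInstance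
        exact isCyclic_of_surjective (QuotientGroup.quotientKerEquivRange (f.comp T.subtype)).symm
          (QuotientGroup.quotientKerEquivRange (f.comp T.subtype)).symm.surjective
      subst hN
      exact h1
    set θ' : N.subgroupOf T → ℂ := fun x => θ ⟨((x : T) : G), Subgroup.mem_subgroupOf.mp x.2⟩ with hθ'
    have hθ'irr : IsIrrCharacter (N.subgroupOf T) θ' := by
      have h1 := isIrr_comp (Subgroup.subgroupOfEquivOfLe hNT).toMonoidHom
        (Subgroup.subgroupOfEquivOfLe hNT).surjective hθ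
      exact h1
    have hinvT : ∀ (t : T) (n : N.subgroupOf T), θ' ⟨t * n * t⁻¹, (inferInstance : (N.subgroupOf T).Normal).conj_mem (n : T) n.2 t⟩ = θ' n := by
      intro t n
      exact t.2 ⟨((n : T) : G), Subgroup.mem_subgroupOf.mp n.2⟩
    obtain ⟨ψ, hψ, hψθ⟩ := Cfsg.Agent.S0886.result (N.subgroupOf T) hcycT θ' hθ'irr hinvT
    have hne : classInner (indFun (N.subgroupOf T) θ') ψ ≠ 0 := by
      rw [NormalInd.classInner_indFun _ _ _ (isIrr_isClassFunction hψ)]
      have h1 : (fun h : N.subgroupOf T => ψ h) = θ' := funext hψθ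
      rw [h1, classInner_irr_self hθ'irr]
      exact one_ne_zero
    have hirr := (Cfsg.Agent.S1489.result N T θ hθ (fun g => Iff.rfl) hNT ψ ψ hψ hψ hne hne).1
    refine ⟨indFun T ψ, hirr, ?_, Or.inr ⟨hidx.2, ?_⟩⟩
    · -- the character lies over `θ`
      have h1 : classInner ((indFun T ψ) ∘ T.subtype) ψ ≠ 0 := by
        have h2 := NormalInd.classInner_indFun T ψ (indFun T ψ) (isIrr_isClassFunction hirr)
        rw [classInner_irr_self hirr] at h2
        intro h3
        rw [← classInner_conj_symm] at h2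
        change 1 = conj (classInner ((indFun T ψ) ∘ T.subtype) ψ) at h2
        rw [h3, map_zero] at h2
        exact one_ne_zero h2
      let j : N →* T := Subgroup.inclusion hNT
      have h2 : classInner (ψ ∘ j) θ ≠ 0 := by
        have h3 : ψ ∘ j = θ := by
          funext n
          exact hψθ ⟨j n, Subgroup.mem_subgroupOf.2 n.2⟩
        rw [h3, classInner_irr_self hθ]
        exact one_ne_zero
      exact Cfsg.Agent.H706.Uniq.over_trans j (isCharacter_comp T.subtype (isIrr_isCharacter hirr)) hψ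
        (isIrr_isCharacter hθ) h1 h2
    · rw [NormalInd.indFun_one, hidx.1]
      have h1 : ψ 1 = θ 1 := hψθ 1
      rw [h1]
      norm_num

end Abs

open Cfsg.Agent.H612.Deg3.Gel in
/-- **The degrees of the cuspidal characters of `SL_3(q)`.** -/
theorem cusp_sl {F : Type v} [Field F] [Fintype F] {θ : _root_.Matrix.SpecialLinearGroup (Fin 3) F → ℂ} (hθ : IsIrrCharacter _ θ)
    (h : ∑ z : F × F, θ (ur z) = 0) :
    θ 1 = ((Fintype.card F : ℂ) - 1) * ((Fintype.card F : ℂ) ^ 2 - 1) ∨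
    (3 ∣ Fintype.card F - 1 ∧ 3 * θ 1 = ((Fintype.card F : ℂ) - 1) * ((Fintype.card F : ℂ) ^ 2 - 1)) := by
  classical
  let f : GL (Fin 3) F →* Fˣ := GeneralLinearGroup.det
  have hf : Function.Surjective f := GeneralLinearGroup.det_surjective
  let e : _root_.Matrix.SpecialLinearGroup (Fin 3) F ≃* f.ker :=
    (MonoidHom.ofInjective Matrix.SpecialLinearGroup.toGL_injective).trans
      (MulEquiv.subgroupCongr (Cfsg.Agent.ClassicalGeometry.PSL2Basic.range_toGL (Fin 3) F))
  have he : ∀ x, ((e x : f.ker) : GL (Fin 3) F) = Matrix.SpecialLinearGroup.toGL x := fun x => rfl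
  set θ' : f.ker → ℂ := θ ∘ e.symm with hθ'
  have hθ'i : IsIrrCharacter f.ker θ' := isIrr_comp e.symm.toMonoidHom e.symm.surjective hθ
  have hcl := isIrr_isClassFunction hθ'i
  have hcube : ∀ g : GL (Fin 3) F, (∃ c, f g = c ^ 3) → ∀ n : f.ker,
      θ' ⟨g * n * g⁻¹, (inferInstance : f.ker.Normal).conj_mem (n : GL (Fin 3) F) n.2 g⟩ = θ' n := by
    rintro g ⟨c, hc⟩ n
    -- the scalar matrix
    let z : GL (Fin 3) F := Units.map (Matrix.scalar (Fin 3)).toMonoidHom c
    have hz : ∀ x : GL (Fin 3) F, z * x = x * z := by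
      intro x
      apply Units.ext
      show (Matrix.scalar (Fin 3)) (c : F) * (x : Matrix (Fin 3) (Fin 3) F) = x * (Matrix.scalar (Fin 3)) (c : F)
      exact (Matrix.scalar_commute (c : F) (fun _ => mul_comm _ _) _).eq
    have hzd : f z = c ^ 3 := by
      apply Units.ext
      show ((Matrix.scalar (Fin 3)) (c : F)).det = ((c ^ 3 : Fˣ) : F)
      rw [Matrix.scalar_apply, Matrix.det_diagonal]
      simp
    have hm : g * z⁻¹ ∈ f.ker := by
      rw [MonoidHom.mem_ker, map_mul, map_inv, hzd, hc, mul_inv_cancel]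
    have h1 := hcl n ⟨g * z⁻¹, hm⟩
    rw [← h1]
    (with_reducible congr 1)
    apply Subtype.ext
    show g * n * g⁻¹ = g * z⁻¹ * n * (g * z⁻¹)⁻¹
    have h2 := hz (n : GL (Fin 3) F)
    calc g * n * g⁻¹ = g * z⁻¹ * (z * n) * g⁻¹ := by group
      _ = g * z⁻¹ * (n * z) * g⁻¹ := by rw [h2]
      _ = g * z⁻¹ * n * (g * z⁻¹)⁻¹ := by group
  have hcardU : Nat.card Fˣ = Fintype.card F - 1 := by
    rw [Nat.card_eq_fintype_card, Fintype.card_units]
  obtain ⟨χ, hχ, hov, hdeg⟩ := clifford_over f hf f.ker rfl hθ'i hcube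
  -- the sum over the radical
  have key : ∀ g : GL (Fin 3) F, ∑ z : F × F, (θ' ∘ (MulAut.conjNormal g : MulAut f.ker)) (e (ur z)) = 0 := by
    intro g
    set d : Fˣ := f g with hd
    let t : GL (Fin 3) F := mk3 !![(d : F), 0, 0; 0, 1, 0; 0, 0, 1] (by rw [det_fin_three]; simp)
    have ht : f t = d := by
      apply Units.ext
      show (!![(d : F), 0, 0; 0, 1, 0; 0, 0, 1] : Matrix (Fin 3) (Fin 3) F).det = d
      rw [det_fin_three]
      simp
    have hm : g * t⁻¹ ∈ f.ker := by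
      rw [MonoidHom.mem_ker, map_mul, map_inv, ht, ← hd, mul_inv_cancel]
    have hconj : ∀ z : F × F, (θ' ∘ (MulAut.conjNormal g : MulAut f.ker)) (e (ur z)) = θ (ur ((d : F) * z.1, z.2)) := by
      intro z
      have h1 := hcl (e (ur ((d : F) * z.1, z.2))) ⟨g * t⁻¹, hm⟩
      have h2 : θ' (e (ur ((d : F) * z.1, z.2))) = θ (ur ((d : F) * z.1, z.2)) := by
        rw [hθ', Function.comp_apply, e.symm_apply_apply]
      rw [← h2, ← h1, Function.comp_apply]
      (with_reducible congr 1)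
      apply Subtype.ext
      show g * Matrix.SpecialLinearGroup.toGL (ur z) * g⁻¹ =
        g * t⁻¹ * Matrix.SpecialLinearGroup.toGL (ur ((d : F) * z.1, z.2)) * (g * t⁻¹)⁻¹
      have h3 : t * Matrix.SpecialLinearGroup.toGL (ur z) =
          Matrix.SpecialLinearGroup.toGL (ur ((d : F) * z.1, z.2)) * t := by
        apply Units.ext
        show !![(d : F), 0, 0; 0, 1, 0; 0, 0, 1] * !![1, 0, z.1; 0, 1, z.2; 0, 0, 1] =
          !![1, 0, (d : F) * z.1; 0, 1, z.2; 0, 0, 1] * !![(d : F), 0, 0; 0, 1, 0; 0, 0, 1]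
        ext i j
        (revert i j; simp only [Matrix.mul_apply, Fin.sum_univ_three, _root_.Fin.forall_fin_succ, _root_.Matrix.of_apply, _root_.Matrix.cons_val', _root_.Matrix.cons_val_fin_one, Fin.isValue, _root_.Matrix.cons_val_zero, _root_.Matrix.cons_val_one, _root_.Matrix.cons_val, _root_.mul_one, _root_.MulZeroClass.mul_zero, _root_.add_zero, _root_.Matrix.cons_val_succ, _root_.zero_add, _root_.forall_const, _root_.true_and, _root_.one_mul, _root_.MulZeroClass.zero_mul, _root_.and_self, _root_.implies_true])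
      calc g * Matrix.SpecialLinearGroup.toGL (ur z) * g⁻¹
          = g * t⁻¹ * (t * Matrix.SpecialLinearGroup.toGL (ur z)) * g⁻¹ := by group
        _ = g * t⁻¹ * (Matrix.SpecialLinearGroup.toGL (ur ((d : F) * z.1, z.2)) * t) * g⁻¹ := by rw [h3]
        _ = _ := by group
    rw [Finset.sum_congr rfl fun z _ => hconj z, ← h]
    exact Fintype.sum_equiv ((Equiv.mulLeft₀ (d : F) d.ne_zero).prodCongr (Equiv.refl F)) _ _ fun z => rfl
  have hsum : ∑ z : F × F, χ (u3 0 z.1 z.2) = 0 := by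
    have h1 : ∑ z : F × F, χ (u3 0 z.1 z.2) = ∑ z : F × F, (fun n : f.ker => χ n) (e (ur z)) := by
      refine Fintype.sum_equiv (Equiv.prodComm F F) _ _ fun z => ?_
      show χ (u3 0 z.1 z.2) = χ (Matrix.SpecialLinearGroup.toGL (ur (z.2, z.1)))
      congr 1
      apply Units.ext
      rfl
    rw [h1]
    have : Fintype (IrrCharacter f.ker) := @Fintype.ofFinite _ finite_irr
    have hres : IsCharacter f.ker (fun n : f.ker => χ n) := isCharacter_comp f.ker.subtype (isIrr_isCharacter hχ)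
    obtain ⟨c, hc, hc'⟩ := Cfsg.Agent.CharDeep.CliffordCorr.exists_nat_coeffs hres
    rw [hc]
    simp only [Finset.sum_apply, Pi.smul_apply]
    rw [Finset.sum_comm]
    refine Finset.sum_eq_zero fun ψ _ => ?_
    rw [← Finset.smul_sum]
    by_cases h0 : c ψ = 0
    · rw [h0]
      simp
    · have h2 : classInner (fun n : f.ker => χ n) (ψ : f.ker → ℂ) ≠ 0 := by
        rw [hc' ψ]
        exact_mod_cast h0
      obtain ⟨g, hg⟩ := Cfsg.Agent.Characters.Clifford.exists_conj_of_constituents f.ker hχ hθ'i ψ.2 hov h2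
      rw [hg, key g, smul_zero]
  have h1 := cusp_degree hχ hsum
  rcases hdeg with h2 | ⟨h3, h2⟩
  · left
    rw [← h1, h2, hθ', Function.comp_apply, map_one]
  · right
    rw [hcardU] at h3
    refine ⟨h3, ?_⟩
    rw [← h1, h2, hθ', Function.comp_apply, map_one]

end Cfsg.Agent.H612.Deg3
end

-- part: H612/Deg3/Cubic
section
/-!
# The cubic principal series of `SL_3(q)` (helper612)

`cubic_degree` : the characters of `SL_3(q)` in the cubic principal series have degree `(q + 1)(q² + q + 1)/3`.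
-/

set_option autoImplicit false
set_option linter.unusedSectionVars false
set_option linter.unusedSimpArgs false
set_option linter.style.haveILetI false

open scoped ComplexConjugate
open Cfsg Matrix

namespace Cfsg.Agent.H612.Deg3

open Cfsg.Agent.Characters Cfsg.Agent.Characters.Core Cfsg.Agent.OddOrderCharacters.Clifford Cfsg.Agent.H53.HC
  Cfsg.Agent.H670 Cfsg.Agent.H670.RankOne
open Cfsg.Agent.H113.PSL.Para Cfsg.Agent.H113.PSL.Hyper Cfsg.Agent.H113.PSL.Three MulAction Module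

universe u v

variable {F : Type v} [Field F]

/-- the natural representation -/
noncomputable def rho (F : Type v) [Field F] : GL (Fin 3) F →* ((Fin 3 → F) ≃ₗ[F] (Fin 3 → F)) :=
  (glE (Pi.basisFun F (Fin 3))).symm.toMonoidHom

/-- the natural representation of `SL_3` -/
noncomputable def tau (F : Type v) [Field F] : _root_.Matrix.SpecialLinearGroup (Fin 3) F →* ((Fin 3 → F) ≃ₗ[F] (Fin 3 → F)) :=
  (rho F).comp Matrix.SpecialLinearGroup.toGL

theorem tau_apply (g : _root_.Matrix.SpecialLinearGroup (Fin 3) F) (v : Fin 3 → F) :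
    tau F g v = (g : Matrix (Fin 3) (Fin 3) F).mulVec v :=
  glE_symm_apply _ v

/-- the plane -/
def W0 (F : Type v) [Field F] : Submodule F (Fin 3 → F) := LinearMap.ker (LinearMap.proj 2)

theorem mem_W0 {v : Fin 3 → F} : v ∈ W0 F ↔ v 2 = 0 := Iff.rfl

/-- its coordinates -/
def eW (F : Type v) [Field F] : (Fin 2 → F) ≃ₗ[F] W0 F where
  toFun v := ⟨![v 0, v 1, 0], by rw [mem_W0]; rfl⟩
  map_add' v w := by
    apply Subtype.ext
    ext i
    (revert i; simp [_root_.Fin.forall_fin_succ])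
  map_smul' c v := by
    apply Subtype.ext
    ext i
    (revert i; simp [_root_.Fin.forall_fin_succ])
  invFun w := ![((w : Fin 3 → F) 0 :), (w : Fin 3 → F) 1]
  left_inv v := by
    ext i
    fin_cases i <;> rfl
  right_inv w := by
    apply Subtype.ext
    ext i
    fin_cases i
    · rfl
    · rfl
    · exact (mem_W0.1 w.2).symm

theorem coe_eW (v : Fin 2 → F) : ((eW F v : W0 F) : Fin 3 → F) = ![v 0, v 1, 0] := rfl

theorem finrank_W0 : finrank F (W0 F) = 2 := by
  rw [← (eW F).finrank_eq, finrank_fin_fun]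

theorem map_W0_iff (g : _root_.Matrix.SpecialLinearGroup (Fin 3) F) :
    (W0 F).map (tau F g : (Fin 3 → F) →ₗ[F] (Fin 3 → F)) = W0 F ↔ g ∈ P F := by
  constructor
  · intro h
    have key : ∀ v ∈ W0 F, tau F g v ∈ W0 F := fun v hv => by
      rw [← h]
      exact ⟨v, hv, rfl⟩
    have h0 := key ![1, 0, 0] (by rw [mem_W0]; rfl)
    have h1 := key ![0, 1, 0] (by rw [mem_W0]; rfl)
    rw [mem_W0, tau_apply] at h0 h1
    refine ⟨?_, ?_⟩
    · simpa [Matrix.mulVec, dotProduct, Fin.sum_univ_three] using h0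
    · simpa [Matrix.mulVec, dotProduct, Fin.sum_univ_three] using h1
  · rintro ⟨h1, h2⟩
    apply Submodule.eq_of_le_of_finrank_eq
    · rintro _ ⟨w, hw, rfl⟩
      rw [LinearEquiv.coe_coe, mem_W0, tau_apply]
      rw [SetLike.mem_coe, mem_W0] at hw
      simp [Matrix.mulVec, dotProduct, Fin.sum_univ_three, h1, h2, hw]
    · rw [LinearEquiv.finrank_map_eq (tau F g) (W0 F)]

theorem exists_map_W0 (W : Submodule F (Fin 3 → F)) (hW : finrank F W = 2) :
    ∃ g : _root_.Matrix.SpecialLinearGroup (Fin 3) F, (W0 F).map (tau F g : (Fin 3 → F) →ₗ[F] (Fin 3 → F)) = W := by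
  obtain ⟨g, hg⟩ := exists_map_eq (K := F) (V := Fin 3 → F) (W := W0 F) (W' := W) (finrank_W0.trans hW.symm)
  set A : GL (Fin 3) F := glE (Pi.basisFun F (Fin 3)) g with hA
  have hgA : ∀ v, g v = (A : Matrix (Fin 3) (Fin 3) F).mulVec v := by
    intro v
    rw [← glE_symm_apply, hA, MulEquiv.symm_apply_apply]
  set d : F := (A : Matrix (Fin 3) (Fin 3) F).det with hd
  have hd0 : d ≠ 0 := ((Matrix.isUnit_iff_isUnit_det _).1 A.isUnit).ne_zero
  let s : _root_.Matrix.SpecialLinearGroup (Fin 3) F := ⟨(A : Matrix (Fin 3) (Fin 3) F) * !![1, 0, 0; 0, 1, 0; 0, 0, d⁻¹], by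
    rw [Matrix.det_mul, ← hd, det_fin_three]
    simp [hd0]⟩
  refine ⟨s, ?_⟩
  rw [← hg]
  have h1 : ∀ v ∈ W0 F, tau F s v = g v := by
    intro v hv
    rw [tau_apply, hgA]
    change ((A : Matrix (Fin 3) (Fin 3) F) * !![1, 0, 0; 0, 1, 0; 0, 0, d⁻¹]).mulVec v = _
    rw [← Matrix.mulVec_mulVec]
    congr 1
    rw [mem_W0] at hv
    ext i
    (revert i; simp only [Matrix.mulVec, dotProduct, Fin.sum_univ_three, hv, _root_.Fin.forall_fin_succ, _root_.Matrix.of_apply, _root_.Matrix.cons_val', _root_.Matrix.cons_val_fin_one, Fin.isValue, _root_.Matrix.cons_val_zero, _root_.Matrix.cons_val_one, _root_.Matrix.cons_val, _root_.MulZeroClass.mul_zero, _root_.add_zero, _root_.one_mul, _root_.MulZeroClass.zero_mul, _root_.Matrix.cons_val_succ, _root_.zero_add, _root_.Fin.succ_zero_eq_one, _root_.Fin.succ_one_eq_two, _root_.IsEmpty.forall_iff, _root_.and_self])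
  apply le_antisymm
  · rintro _ ⟨w, hw, rfl⟩
    exact ⟨w, hw, (h1 w hw).symm⟩
  · rintro _ ⟨w, hw, rfl⟩
    exact ⟨w, hw, h1 w hw⟩

theorem cl_one_quo {n : ℕ} {W : Type*} [AddCommGroup W] [Module F W] (b : Basis (Fin n) F W) (f : W ≃ₗ[F] W) :
    cl (linDet (1 : Fˣ →* ℂˣ) n) f = 1 := by
  rw [cl_linDet b]
  simp

/-- the local term at the plane -/
theorem paraTerm_W0 {Ψ : GL (Fin 2) F → ℂ} (hΨ : IsClassFunction _ Ψ) (g : P F) :
    paraTerm (tau F) Ψ (linDet (1 : Fˣ →* ℂˣ) 1) (g : _root_.Matrix.SpecialLinearGroup (Fin 3) F) (W0 F) = Ψ (pi g) := by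
  have h := (map_W0_iff (g : _root_.Matrix.SpecialLinearGroup (Fin 3) F)).2 g.2
  rw [paraTerm_of _ _ _ h]
  have hq : finrank F ((Fin 3 → F) ⧸ W0 F) = 1 := by
    have h1 := Submodule.finrank_quotient_add_finrank (W0 F)
    rw [finrank_W0, finrank_fin_fun] at h1
    omega
  rw [cl_one_quo (finBasisOfFinrankEq F _ hq), mul_one]
  set f : (Fin 2 → F) ≃ₗ[F] (Fin 2 → F) := (glE (Pi.basisFun F (Fin 2))).symm (pi g) with hf
  have h1 : res (tau F (g : _root_.Matrix.SpecialLinearGroup (Fin 3) F)) (W0 F) h = ((eW F).symm.trans f).trans (eW F) := by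
    apply LinearEquiv.ext
    intro w
    obtain ⟨v, rfl⟩ := (eW F).surjective w
    rw [LinearEquiv.trans_apply, LinearEquiv.trans_apply, LinearEquiv.symm_apply_apply]
    apply Subtype.ext
    have hg1 := g.2.1
    have hg2 := g.2.2
    rw [coe_res, tau_apply, coe_eW, coe_eW, hf, glE_symm_apply, pi_apply]
    ext i
    (revert i; simp only [Matrix.mulVec, dotProduct, Fin.sum_univ_three, Fin.sum_univ_two, GL2.mk, hg1, hg2, _root_.Fin.forall_fin_succ, _root_.Nat.succ_eq_add_one, Nat.reduceAdd, Fin.isValue, _root_.Matrix.cons_val_zero, _root_.Matrix.cons_val_one, _root_.Matrix.cons_val, _root_.MulZeroClass.mul_zero, _root_.add_zero, _root_.Matrix.GeneralLinearGroup.val_mkOfDetNeZero, _root_.Matrix.of_apply, _root_.Matrix.cons_val', _root_.Matrix.cons_val_fin_one, _root_.Matrix.cons_val_succ, _root_.Fin.succ_zero_eq_one, _root_.Fin.succ_one_eq_two, _root_.MulZeroClass.zero_mul, _root_.IsEmpty.forall_iff, _root_.and_self])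
  rw [h1, cl_eq hΨ ((Pi.basisFun F (Fin 2)).map (eW F)), glE_map, hf, MulEquiv.apply_symm_apply]

theorem indFun_congr {G : Type*} [Group G] [Fintype G] {H K : Subgroup G} (h : H = K) {φ : H → ℂ} {ψ : K → ℂ}
    (hφ : ∀ x (h1 : x ∈ H) (h2 : x ∈ K), φ ⟨x, h1⟩ = ψ ⟨x, h2⟩) : indFun H φ = indFun K ψ := by
  subst h
  congr 1
  funext x
  exact hφ x.1 x.2 x.2

variable [Fintype F] [Fintype (_root_.Matrix.SpecialLinearGroup (Fin 3) F)]

/-- **The restriction to `SL_3`.** -/
theorem para_restrict [Fintype (dimSet F (Fin 3 → F) 2)] {Ψ : GL (Fin 2) F → ℂ} (hΨ : IsClassFunction _ Ψ)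
    (g : _root_.Matrix.SpecialLinearGroup (Fin 3) F) :
    paraChar (rho F) Ψ (linDet (1 : Fˣ →* ℂˣ) 1) (Matrix.SpecialLinearGroup.toGL g) = I Ψ g := by
  classical
  have h0 : paraChar (rho F) Ψ (linDet (1 : Fˣ →* ℂˣ) 1) (Matrix.SpecialLinearGroup.toGL g) =
      paraChar (tau F) Ψ (linDet (1 : Fˣ →* ℂˣ) 1) g := rfl
  rw [h0]
  letI := subAct (tau F) (dimSet F (Fin 3 → F) 2) (dimSet_map (tau F))
  have hpt : IsPretransitive (_root_.Matrix.SpecialLinearGroup (Fin 3) F) (dimSet F (Fin 3 → F) 2) := by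
    refine ⟨fun W W' => ?_⟩
    obtain ⟨a, ha⟩ := exists_map_W0 W.1 W.2
    obtain ⟨b, hb⟩ := exists_map_W0 W'.1 W'.2
    let ω : dimSet F (Fin 3 → F) 2 := ⟨W0 F, finrank_W0⟩
    have ha' : a • ω = W := Subtype.ext ha
    have hb' : b • ω = W' := Subtype.ext hb
    exact ⟨b * a⁻¹, by rw [← ha', ← hb', mul_smul, inv_smul_smul]⟩
  have hone : IsClassFunction _ (linDet (K := F) (1 : Fˣ →* ℂˣ) 1) := by
    intro x y
    unfold linDet
    simp only [_root_.map_mul, _root_.map_inv, _root_.mul_inv_cancel_comm, _root_.MonoidHom.one_apply, _root_.Units.val_one]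
  rw [paraChar_eq_orbSum (tau F), orbSum_eq_indFun (fun g (W : dimSet F (Fin 3 → F) 2) =>
    paraTerm (tau F) Ψ (linDet (1 : Fˣ →* ℂˣ) 1) g W.1)
    (fun x g W => paraTerm_conj (tau F) hΨ hone x g W.1) ⟨W0 F, finrank_W0⟩]
  unfold I
  rw [indFun_congr (H := stabilizer (_root_.Matrix.SpecialLinearGroup (Fin 3) F) (⟨W0 F, finrank_W0⟩ : dimSet F (Fin 3 → F) 2))
    (K := P F) (ψ := Ψ ∘ pi) ?_ ?_]
  · ext x
    rw [mem_stabilizer_iff, ← map_W0_iff]
    exact ⟨fun h => congrArg Subtype.val h, fun h => Subtype.ext h⟩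
  · intro x h1 h2
    exact paraTerm_W0 hΨ ⟨x, h2⟩

theorem sum_hom_eq_zero {A : Type*} [Group A] [Fintype A] (f : A →* ℂˣ) (hf : ∃ a, f a ≠ 1) :
    ∑ a : A, ((f a : ℂˣ) : ℂ) = 0 := by
  obtain ⟨a₀, ha₀⟩ := hf
  have h1 : ((f a₀ : ℂˣ) : ℂ) * ∑ a : A, ((f a : ℂˣ) : ℂ) = ∑ a : A, ((f a : ℂˣ) : ℂ) := by
    rw [Finset.mul_sum]
    refine Fintype.sum_equiv (Equiv.mulLeft a₀) _ _ fun a => ?_
    rw [Equiv.coe_mulLeft, map_mul, Units.val_mul]
  have h2 : (((f a₀ : ℂˣ) : ℂ) - 1) * ∑ a : A, ((f a : ℂˣ) : ℂ) = 0 := by rw [sub_mul, h1, one_mul, sub_self]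
  refine (mul_eq_zero.1 h2).resolve_left fun h3 => ha₀ ?_
  apply Units.ext
  rw [Units.val_one]
  exact sub_eq_zero.1 h3

variable [Fintype Fˣ] [Fintype (GL (Fin 2) F)]

/-- the induced character of `GL_3` is irreducible -/
theorem isIrr_para [Fintype (dimSet F (Fin 3 → F) 2)] {lam : (GL2.data F).T →* ℂˣ}
    (hlam : lam ≠ lam.comp (GL2.data F).wT) (h1 : fl lam ≠ (fl lam).comp sg)
    (h2 : sw (fl lam) ≠ (sw (fl lam)).comp sg) :
    IsIrrCharacter _ (paraChar (rho F) ((GL2.data F).ind lam) (linDet (1 : Fˣ →* ℂˣ) 1)) := by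
  classical
  have hΨ := (GL2.data F).isIrr_ind hlam
  have hcf := isIrr_isClassFunction hΨ
  have : Fintype (GL (Fin 3) F) := Fintype.ofFinite _
  refine isIrr_paraChar_hyper (rho F) (glE (Pi.basisFun F (Fin 3))).symm.surjective (by rw [finrank_fin_fun]) hΨ 1
    (isIrr_linDet 1) (noFix_of hcf 1 ?_)
  have hJ : ∀ c : Fˣ, ∑ y : F, (GL2.data F).ind lam (mir c y) * conj (((1 : Fˣ →* ℂˣ) c : ℂˣ) : ℂ) =
      (Fintype.card F : ℂ) * (((fl lam (1, c) : ℂˣ) : ℂ) + ((fl lam (c, 1) : ℂˣ) : ℂ)) := by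
    intro c
    have h3 := J_eq ((GL2.data F).ind lam) 1 c
    rw [J_ind, Pi.add_apply, fl_wT] at h3
    rw [← Finset.sum_mul]
    simp only [MonoidHom.one_apply, Units.val_one, map_one, mul_one]
    have h4 : ∑ y : F, (GL2.data F).ind lam (mir c y) =
        ∑ x : F, (GL2.data F).ind lam (GL2.mk ((1 : Fˣ) : F) x 0 c (by simp)) := by
      refine Finset.sum_congr rfl fun y _ => ?_
      congr 1
    rw [h4, h3]
    rfl
  rw [Finset.sum_congr rfl fun c _ => hJ c, ← Finset.mul_sum, Finset.sum_add_distrib]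
  have h3 : ∀ i : Fintype Fˣ, @Finset.sum _ _ _ (@Finset.univ _ i) (fun c => ((fl lam (1, c) : ℂˣ) : ℂ)) = 0 := by
    intro i
    refine @sum_hom_eq_zero _ _ i ((fl lam).comp (MonoidHom.inr Fˣ Fˣ)) ?_
    by_contra hcon
    push Not at hcon
    exact h1 ((fix_sg_iff _).2 hcon)
  have h4 : ∀ i : Fintype Fˣ, @Finset.sum _ _ _ (@Finset.univ _ i) (fun c => ((fl lam (c, 1) : ℂˣ) : ℂ)) = 0 := by
    intro i
    refine @sum_hom_eq_zero _ _ i ((fl lam).comp (MonoidHom.inl Fˣ Fˣ)) ?_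
    by_contra hcon
    push Not at hcon
    exact h2 ((fix_sg_iff _).2 hcon)
  rw [h3, h4, add_zero, mul_zero]

theorem cd_cast {A : Type*} [Group A] [Finite A] {χ : A → ℂ} (hχ : IsIrrCharacter A χ) : (charDegree χ : ℂ) = χ 1 := by
  obtain ⟨k, -, hk⟩ := isIrr_apply_one hχ
  rw [Cfsg.Agent.H973.SLThree.charDegree_eq hk, hk]

omit [Fintype (_root_.Matrix.SpecialLinearGroup (Fin 3) F)] [Fintype (GL (Fin 2) F)] [Fintype Fˣ] in
theorem natCard_units : Nat.card Fˣ = Fintype.card F - 1 := by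
  classical
  rw [← Fintype.card_units]
  exact @Nat.card_eq_fintype_card _ _

/-- **The degrees in the cubic principal series.** -/
theorem cubic_degree {χ : _root_.Matrix.SpecialLinearGroup (Fin 3) F → ℂ} (hχ : IsIrrCharacter _ χ) (hc : Cubic χ) :
    3 * χ 1 = ((Fintype.card F : ℂ) + 1) * ((Fintype.card F : ℂ) ^ 2 + Fintype.card F + 1) ∧
    3 ∣ Fintype.card F - 1 := by
  classical
  obtain ⟨lam, hlam, h1, h2, h3, h4⟩ := hc
  have hΨ := (GL2.data F).isIrr_ind hlam
  have hcf := isIrr_isClassFunction hΨ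
  letI : Fintype (dimSet F (Fin 3 → F) 2) := Fintype.ofFinite _
  letI : Fintype (GL (Fin 3) F) := Fintype.ofFinite _
  have hirr := isIrr_para hlam h1 h2
  set X := paraChar (rho F) ((GL2.data F).ind lam) (linDet (1 : Fˣ →* ℂˣ) 1) with hX
  constructor
  · let f : GL (Fin 3) F →* Fˣ := GeneralLinearGroup.det
    letI : Fintype f.ker := Fintype.ofFinite _
    let e : _root_.Matrix.SpecialLinearGroup (Fin 3) F ≃* f.ker :=
      (MonoidHom.ofInjective Matrix.SpecialLinearGroup.toGL_injective).trans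
        (MulEquiv.subgroupCongr (Cfsg.Agent.ClassicalGeometry.PSL2Basic.range_toGL (Fin 3) F))
    have hres : (fun n : f.ker => X n) ∘ e = I ((GL2.data F).ind lam) := by
      funext g
      exact para_restrict hcf g
    have hν : IsIrrCharacter f.ker (χ ∘ e.symm) := isIrr_comp e.symm.toMonoidHom e.symm.surjective hχ
    have hin : ∀ φ : f.ker → ℂ, classInner (fun n : f.ker => X n) φ =
        classInner (I ((GL2.data F).ind lam)) (φ ∘ e) := by
      intro φ
      rw [← hres, Clifford.classInner_comp_mulEquiv e]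
    have hχe : (χ ∘ e.symm) ∘ e = χ := by
      funext g
      simp
    have hne : classInner (fun n : f.ker => X n) (χ ∘ e.symm) ≠ 0 := by
      rw [hin, hχe]
      intro h0
      apply h4
      rw [← classInner_conj_symm, h0, map_zero]
    obtain ⟨k, t, -, hdeg, hnorm, -⟩ := Cfsg.Agent.H597.IndexP.exists_clifford_numbers f.ker hirr hν hne
    rw [hin, hres, (norm_ps hlam).2.1 h1 h2 h3] at hnorm
    have hkt : k ^ 2 * t = 3 := by exact_mod_cast hnorm.symm
    have hk : k = 1 := by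
      have h5 : k ^ 2 ∣ 3 := ⟨t, hkt.symm⟩
      have h6 : k ≤ 1 := by
        by_contra hk
        have h7 : 2 ^ 2 ≤ k ^ 2 := Nat.pow_le_pow_left (by omega) 2
        have h8 := Nat.le_of_dvd (by norm_num) h5
        omega
      rcases Nat.eq_zero_or_pos k with h7 | h7
      · rw [h7] at hkt
        norm_num at hkt
      · omega
    subst hk
    have ht : t = 3 := by omega
    subst ht
    have hX1 : X 1 = ((Fintype.card F : ℂ) + 1) * ((Fintype.card F : ℂ) ^ 2 + Fintype.card F + 1) := by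
      have h5 := para_restrict (F := F) hcf 1
      rw [map_one, I_one, (GL2.data F).ind_one, mul_comm] at h5
      exact h5
    have e1 : (charDegree X : ℂ) = X 1 := cd_cast hirr
    have e2 : (charDegree (χ ∘ e.symm) : ℂ) = χ 1 := by
      rw [cd_cast hν, Function.comp_apply, map_one]
    rw [← hX1, ← e1, ← e2, hdeg]
    push_cast
    ring
  · have h5 : ∀ a b, fl lam (a, b) = fl lam ((a * b)⁻¹, a) := fun a b => DFunLike.congr_fun h3 (a, b)
    obtain ⟨a, ha⟩ : ∃ a, fl lam (a, 1) ≠ 1 := by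
      by_contra hcon
      push Not at hcon
      exact h2 ((fix_sg_iff _).2 hcon)
    have h6 : ∀ b, fl lam (1, b) = (fl lam (b, 1))⁻¹ := by
      intro b
      rw [h5 1 b, one_mul, ← map_inv]
      congr 1
    have h7 : fl lam (a, 1) ^ 3 = 1 := by
      have h8 := h5 a 1
      rw [mul_one] at h8
      have h9 : fl lam (a⁻¹, a) = (fl lam (a, 1))⁻¹ * fl lam (1, a) := by
        rw [← map_inv, ← map_mul]
        congr 1
        simp
      rw [h9, h6] at h8
      have h10 : fl lam (a, 1) * (fl lam (a, 1) * fl lam (a, 1)) = 1 := by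
        nth_rewrite 1 [h8]
        group
      rw [pow_succ, pow_two, mul_assoc]
      exact h10
    have h8 : orderOf (fl lam (a, 1)) = 3 := orderOf_eq_prime h7 ha
    have h9 : orderOf (fl lam (a, 1)) ∣ orderOf a := by
      have := orderOf_map_dvd ((fl lam).comp (MonoidHom.inl Fˣ Fˣ)) a
      exact this
    rw [h8] at h9
    have h10 := h9.trans (orderOf_dvd_natCard a)
    rwa [natCard_units] at h10

end Cfsg.Agent.H612.Deg3
end

-- part: H612/Deg3/Degrees
section
/-!
# The degrees of `SL_3(q)` (helper612)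

`degrees_list` : the degrees, with the characters having the centre in the kernel;
`degrees_subset` : `charDegrees SL_3(F) ⊆ DT |F|`.
-/

set_option autoImplicit false
set_option linter.unusedSectionVars false

open scoped ComplexConjugate
open Cfsg Matrix

namespace Cfsg.Agent.H612.Deg3

open Cfsg.Agent.Characters.Core

universe v

/-- **The degrees of `SL_3(q)`.** -/
theorem degrees_list {F : Type v} [Field F] [Fintype F] {χ : _root_.Matrix.SpecialLinearGroup (Fin 3) F → ℂ}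
    (hχ : IsIrrCharacter _ χ) :
    χ = 1 ∨
    (χ 1 = (Fintype.card F : ℂ) ^ 2 + Fintype.card F ∧ ZT χ) ∨
    (χ 1 = (Fintype.card F : ℂ) ^ 3 ∧ ZT χ) ∨
    (3 ≤ Fintype.card F ∧ χ 1 = (Fintype.card F : ℂ) ^ 2 + Fintype.card F + 1) ∨
    (3 ≤ Fintype.card F ∧ χ 1 = (Fintype.card F : ℂ) * ((Fintype.card F : ℂ) ^ 2 + Fintype.card F + 1)) ∨
    (5 ≤ Fintype.card F ∧
      χ 1 = ((Fintype.card F : ℂ) + 1) * ((Fintype.card F : ℂ) ^ 2 + Fintype.card F + 1)) ∨
    χ 1 = ((Fintype.card F : ℂ) - 1) * ((Fintype.card F : ℂ) ^ 2 + Fintype.card F + 1) ∨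
    (3 ∣ Fintype.card F - 1 ∧ 3 * χ 1 = ((Fintype.card F : ℂ) + 1) * ((Fintype.card F : ℂ) ^ 2 + Fintype.card F + 1) ∧
      ZT χ) ∨
    χ 1 = ((Fintype.card F : ℂ) - 1) * ((Fintype.card F : ℂ) ^ 2 - 1) ∨
    (3 ∣ Fintype.card F - 1 ∧ 3 * χ 1 = ((Fintype.card F : ℂ) - 1) * ((Fintype.card F : ℂ) ^ 2 - 1)) := by
  classical
  have : Fintype Fˣ := Fintype.ofFinite _
  have : Fintype (_root_.Matrix.SpecialLinearGroup (Fin 3) F) := Fintype.ofFinite _
  have : Fintype (GL (Fin 2) F) := Fintype.ofFinite _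
  by_cases h0 : ∑ z : F × F, χ (ur z) = 0
  · rcases cusp_sl hχ h0 with h | h
    · right; right; right; right; right; right; right; right; left; exact h
    · right; right; right; right; right; right; right; right; right; exact h
  · obtain ⟨Ψ, hΨ, h⟩ := exists_of_sum_ne (isIrr_isCharacter hχ) h0
    rcases noncusp_cases hχ hΨ h with h | h | h | h | h | h | h | ⟨h, hz⟩
    · exact Or.inl h
    · right; left; exact h
    · right; right; left; exact h
    · right; right; right; left; exact h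
    · right; right; right; right; left; exact h
    · right; right; right; right; right; left; exact h
    · right; right; right; right; right; right; left; exact h
    · right; right; right; right; right; right; right; left
      obtain ⟨h1, h2⟩ := cubic_degree hχ h
      exact ⟨h2, h1, hz⟩

/-- **The set of degrees.** -/
theorem degrees_subset {F : Type v} [Field F] [Fintype F] :
    charDegrees (_root_.Matrix.SpecialLinearGroup (Fin 3) F) ⊆ Cfsg.Agent.H691.T3.DT (Fintype.card F) := by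
  intro d hd
  rw [Cfsg.Agent.H424.DegTools.mem_charDegrees] at hd
  obtain ⟨χ, hχ, hχ1⟩ := hd
  have hq : 1 < Fintype.card F := Fintype.one_lt_card
  have hq1 : ((Fintype.card F - 1 : ℕ) : ℂ) = (Fintype.card F : ℂ) - 1 := by
    rw [Nat.cast_sub hq.le, Nat.cast_one]
  rcases degrees_list hχ with h | ⟨h, -⟩ | ⟨h, -⟩ | ⟨h3, h⟩ | ⟨h3, h⟩ | ⟨h5, h⟩ | h | ⟨h3, h, -⟩ | h | ⟨h3, h⟩
  · left
    rw [h, Pi.one_apply] at hχ1
    exact_mod_cast hχ1.symm
  · right; left
    rw [hχ1] at h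
    exact_mod_cast h
  · right; right; left
    rw [hχ1] at h
    exact_mod_cast h
  · right; right; right; right; right; left
    rw [hχ1] at h
    exact ⟨h3, Or.inl (by exact_mod_cast h)⟩
  · right; right; right; right; right; left
    rw [hχ1] at h
    exact ⟨h3, Or.inr (by exact_mod_cast h)⟩
  · right; right; right; right; right; right; left
    rw [hχ1] at h
    exact ⟨h5, by exact_mod_cast h⟩
  · right; right; right; left
    rw [hχ1] at h
    have h1 : (d : ℂ) + 1 = (Fintype.card F : ℂ) ^ 3 := by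
      rw [h]
      ring
    exact_mod_cast h1
  · right; right; right; right; right; right; right
    rw [hχ1] at h
    exact ⟨h3, Or.inl (by exact_mod_cast h)⟩
  · right; right; right; right; left
    rw [hχ1] at h
    have h1 : (d : ℂ) = (((Fintype.card F - 1) ^ 2 * (Fintype.card F + 1) : ℕ) : ℂ) := by
      push_cast
      rw [hq1, h]
      ring
    exact_mod_cast h1
  · right; right; right; right; right; right; right
    rw [hχ1] at h
    refine ⟨h3, Or.inr ?_⟩
    have h1 : ((3 * d : ℕ) : ℂ) = (((Fintype.card F - 1) ^ 2 * (Fintype.card F + 1) : ℕ) : ℂ) := by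
      push_cast
      rw [hq1, h]
      ring
    exact_mod_cast h1

end Cfsg.Agent.H612.Deg3
end

-- part: H612/Deg3/GLThird
section
/-!
# `(q - 1)² (q + 1) / 3` is not a degree of `GL_3(q)` (helper612, for S4855)
-/

set_option autoImplicit false
set_option linter.unusedSectionVars false

open scoped ComplexConjugate
open Cfsg Matrix

namespace Cfsg.Agent.H612.Deg3

open Cfsg.Agent.Characters Cfsg.Agent.Characters.Core Cfsg.Agent.H612.Deg3.Gel

universe v

theorem not_phi_dvd {q : ℕ} (hq : 4 ≤ q) (h : q ^ 2 + q + 1 ∣ 3 * ((q - 1) ^ 2 * (q + 1))) : False := by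
  obtain ⟨r, rfl⟩ : ∃ r, q = r + 2 := ⟨q - 2, by omega⟩
  have h1 : 3 * ((r + 2 - 1) ^ 2 * (r + 2 + 1)) = ((r + 2) ^ 2 + (r + 2) + 1) * (3 * r) + 9 := by
    rw [show r + 2 - 1 = r + 1 by omega]
    ring
  rw [h1] at h
  have h2 : (r + 2) ^ 2 + (r + 2) + 1 ∣ 9 := (Nat.dvd_add_right (Dvd.intro _ rfl)).1 h
  have h3 := Nat.le_of_dvd (by norm_num) h2
  nlinarith only [hq, h3]

theorem not_q_dvd {q : ℕ} (hq : 4 ≤ q) (h : q ∣ (q - 1) ^ 2 * (q + 1)) : False := by
  obtain ⟨r, rfl⟩ : ∃ r, q = r + 2 := ⟨q - 2, by omega⟩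
  have h1 : (r + 2 - 1) ^ 2 * (r + 2 + 1) = (r + 2) * (r ^ 2 + 3 * r + 1) + 1 := by
    rw [show r + 2 - 1 = r + 1 by omega]
    ring
  rw [h1] at h
  have h2 : r + 2 ∣ 1 := (Nat.dvd_add_right (Dvd.intro _ rfl)).1 h
  have h3 := Nat.le_of_dvd (by norm_num) h2
  omega

/-- a character over the trivial character of the kernel of `det` -/
theorem one_of_over_one {G : Type*} [Group G] [Fintype G] (N : Subgroup G) [N.Normal] [Fintype N]
    (hN : commutator G ≤ N) {χ : G → ℂ} (hχ : IsIrrCharacter G χ)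
    (h : classInner (fun n : N => χ n) (1 : N → ℂ) ≠ 0) : χ 1 = 1 := by
  classical
  have : Fintype (IrrCharacter N) := @Fintype.ofFinite _ finite_irr
  have hres : IsCharacter N (fun n : N => χ n) := isCharacter_comp N.subtype (isIrr_isCharacter hχ)
  obtain ⟨c, hc, hc'⟩ := Cfsg.Agent.CharDeep.CliffordCorr.exists_nat_coeffs hres
  have key : ∀ ψ : IrrCharacter N, c ψ ≠ 0 → (ψ : N → ℂ) = 1 := by
    intro ψ h0
    have h1 : classInner (fun n : N => χ n) (ψ : N → ℂ) ≠ 0 := by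
      rw [hc' ψ]
      exact_mod_cast h0
    obtain ⟨g, hg⟩ := Clifford.exists_conj_of_constituents N hχ isIrr_one ψ.2 h h1
    rw [hg]
    rfl
  have h1 : ∀ y ∈ commutator G, χ y = χ 1 := by
    intro y hy
    have h2 := congrFun hc ⟨y, hN hy⟩
    have h3 := congrFun hc 1
    simp only [Finset.sum_apply, Pi.smul_apply] at h2 h3
    change χ y = _ at h2
    change χ 1 = _ at h3
    rw [h2, h3]
    refine Finset.sum_congr rfl fun ψ _ => ?_
    by_cases h0 : c ψ = 0
    · rw [h0]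
      simp
    · rw [key ψ h0]
      rfl
  obtain ⟨f, rfl⟩ := OddOrderCharacters.PF9.CliffGen.exists_hom_of_ker hχ h1
  simp

/-- **`(q - 1)² (q + 1) / 3` is not a degree of `GL_3(q)`.** -/
theorem third_not_gl {F : Type v} [Field F] [Fintype F] (h3 : 3 ∣ Fintype.card F - 1) (d : ℕ)
    (hd : d ∈ charDegrees (GL (Fin 3) F)) :
    3 * d ≠ (Fintype.card F - 1) ^ 2 * (Fintype.card F + 1) := by
  classical
  intro h3d
  rw [Cfsg.Agent.H424.DegTools.mem_charDegrees] at hd
  obtain ⟨χ, hχ, hχ1⟩ := hd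
  have hq : 1 < Fintype.card F := Fintype.one_lt_card
  have hq4 : 4 ≤ Fintype.card F := by
    obtain ⟨k, hk⟩ := h3
    omega
  have hq1 : ((Fintype.card F - 1 : ℕ) : ℂ) = (Fintype.card F : ℂ) - 1 := by
    rw [Nat.cast_sub hq.le, Nat.cast_one]
  have : Fintype Fˣ := Fintype.ofFinite _
  have : Fintype (_root_.Matrix.SpecialLinearGroup (Fin 3) F) := Fintype.ofFinite _
  have : Fintype (GL (Fin 2) F) := Fintype.ofFinite _
  have : Fintype (GL (Fin 3) F) := Fintype.ofFinite _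
  by_cases h0 : ∑ z : F × F, χ (u3 0 z.1 z.2) = 0
  · have h1 := cusp_degree hχ h0
    have h2 : (d : ℂ) = (((Fintype.card F - 1) ^ 2 * (Fintype.card F + 1) : ℕ) : ℂ) := by
      push_cast
      rw [hq1, ← hχ1, h1]
      ring
    have h4 : d = (Fintype.card F - 1) ^ 2 * (Fintype.card F + 1) := by exact_mod_cast h2
    rw [← h4] at h3d
    have h5 : 0 < (Fintype.card F - 1) ^ 2 * (Fintype.card F + 1) := by
      apply Nat.mul_pos
      · apply pow_pos
        omega
      · omega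
    omega
  · -- a constituent for `SL_3`
    let f : GL (Fin 3) F →* Fˣ := GeneralLinearGroup.det
    let e : _root_.Matrix.SpecialLinearGroup (Fin 3) F ≃* f.ker :=
      (MonoidHom.ofInjective Matrix.SpecialLinearGroup.toGL_injective).trans
        (MulEquiv.subgroupCongr (Cfsg.Agent.ClassicalGeometry.PSL2Basic.range_toGL (Fin 3) F))
    have he : ∀ x, ((e x : f.ker) : GL (Fin 3) F) = Matrix.SpecialLinearGroup.toGL x := fun x => rfl
    have : Fintype f.ker := Fintype.ofFinite _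
    have hres : IsCharacter f.ker (fun n : f.ker => χ n) := isCharacter_comp f.ker.subtype (isIrr_isCharacter hχ)
    have h1 : ∑ z : F × F, χ (u3 0 z.1 z.2) = ∑ z : F × F, (fun n : f.ker => χ n) (e (ur z)) := by
      refine Fintype.sum_equiv (Equiv.prodComm F F) _ _ fun z => ?_
      show χ (u3 0 z.1 z.2) = χ (Matrix.SpecialLinearGroup.toGL (ur (z.2, z.1)))
      congr 1
      apply Units.ext
      rfl
    have : Fintype (IrrCharacter f.ker) := @Fintype.ofFinite _ finite_irr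
    obtain ⟨c, hc, hc'⟩ := Cfsg.Agent.CharDeep.CliffordCorr.exists_nat_coeffs hres
    rw [h1, hc] at h0
    simp only [Finset.sum_apply, Pi.smul_apply] at h0
    rw [Finset.sum_comm] at h0
    obtain ⟨ψ, -, hψ⟩ := Finset.exists_ne_zero_of_sum_ne_zero h0
    rw [← Finset.smul_sum] at hψ
    have hcψ : c ψ ≠ 0 := by
      intro h2
      apply hψ
      rw [h2]
      simp
    have hψs : ∑ z : F × F, (ψ : f.ker → ℂ) (e (ur z)) ≠ 0 := by
      intro h2
      apply hψ
      rw [h2, smul_zero]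
    set φ : _root_.Matrix.SpecialLinearGroup (Fin 3) F → ℂ := (ψ : f.ker → ℂ) ∘ e with hφ
    have hφi : IsIrrCharacter _ φ := isIrr_comp e.toMonoidHom e.surjective ψ.2
    have hin : classInner (fun n : f.ker => χ n) (ψ : f.ker → ℂ) ≠ 0 := by
      rw [hc' ψ]
      exact_mod_cast hcψ
    obtain ⟨k, t, -, hdeg, -, -⟩ := Cfsg.Agent.H597.IndexP.exists_clifford_numbers f.ker hχ ψ.2 hin
    -- the degree of `φ` divides `d`
    have hφd : charDegree φ ∣ d := by
      have h2 : charDegree χ = d := Cfsg.Agent.H973.SLThree.charDegree_eq hχ1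
      have h4 : charDegree φ = charDegree (ψ : f.ker → ℂ) := by
        unfold charDegree
        rw [hφ, Function.comp_apply, map_one]
      rw [h4, ← h2, hdeg]
      exact Dvd.intro_left _ rfl
    obtain ⟨Ψ, hΨ, hne⟩ := exists_of_sum_ne (isIrr_isCharacter hφi) hψs
    have hcast := cd_cast hφi
    set D := charDegree φ with hD
    have hdvd : D ∣ (Fintype.card F - 1) ^ 2 * (Fintype.card F + 1) := by
      rw [← h3d]
      exact hφd.mul_left 3
    have hΦ : ¬ Fintype.card F ^ 2 + Fintype.card F + 1 ∣ (Fintype.card F - 1) ^ 2 * (Fintype.card F + 1) :=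
      fun h => not_phi_dvd hq4 (h.mul_left 3)
    rcases noncusp_cases hφi hΨ hne with h | ⟨h, -⟩ | ⟨h, -⟩ | ⟨-, h⟩ | ⟨-, h⟩ | ⟨-, h⟩ | h | ⟨h, -⟩
    · have h2 : (ψ : f.ker → ℂ) = 1 := by
        have h4 : (ψ : f.ker → ℂ) = φ ∘ e.symm := by
          rw [hφ]
          funext x
          simp
        rw [h4, h]
        rfl
      rw [h2] at hin
      have h4 : commutator (GL (Fin 3) F) ≤ f.ker := Abelianization.commutator_subset_ker f
      have h5 := one_of_over_one f.ker h4 hχ hin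
      rw [hχ1] at h5
      have h6 : d = 1 := by exact_mod_cast h5
      rw [h6] at h3d
      have h7 : 3 ^ 2 * 5 ≤ (Fintype.card F - 1) ^ 2 * (Fintype.card F + 1) :=
        Nat.mul_le_mul (Nat.pow_le_pow_left (by omega) 2) (by omega)
      omega
    · rw [← hcast] at h
      have h2 : D = Fintype.card F * (Fintype.card F + 1) := by
        have : (D : ℂ) = ((Fintype.card F * (Fintype.card F + 1) : ℕ) : ℂ) := by
          push_cast
          rw [h]
          ring
        exact_mod_cast this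
      exact not_q_dvd hq4 ((Dvd.intro _ h2.symm).trans hdvd)
    · rw [← hcast] at h
      have h2 : D = Fintype.card F ^ 3 := by exact_mod_cast h
      exact not_q_dvd hq4 (((dvd_pow_self _ (by norm_num)).trans (dvd_of_eq h2.symm)).trans hdvd)
    · rw [← hcast] at h
      have h2 : D = Fintype.card F ^ 2 + Fintype.card F + 1 := by exact_mod_cast h
      exact hΦ ((dvd_of_eq h2.symm).trans hdvd)
    · rw [← hcast] at h
      have h2 : D = Fintype.card F * (Fintype.card F ^ 2 + Fintype.card F + 1) := by exact_mod_cast h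
      exact hΦ ((Dvd.intro_left _ h2.symm).trans hdvd)
    · rw [← hcast] at h
      have h2 : D = (Fintype.card F + 1) * (Fintype.card F ^ 2 + Fintype.card F + 1) := by exact_mod_cast h
      exact hΦ ((Dvd.intro_left _ h2.symm).trans hdvd)
    · rw [← hcast] at h
      have h2 : D = (Fintype.card F - 1) * (Fintype.card F ^ 2 + Fintype.card F + 1) := by
        have : (D : ℂ) = (((Fintype.card F - 1) * (Fintype.card F ^ 2 + Fintype.card F + 1) : ℕ) : ℂ) := by
          push_cast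
          rw [hq1, h]
        exact_mod_cast this
      exact hΦ ((Dvd.intro_left _ h2.symm).trans hdvd)
    · obtain ⟨h4, -⟩ := cubic_degree hφi h
      rw [← hcast] at h4
      have h2 : 3 * D = (Fintype.card F + 1) * (Fintype.card F ^ 2 + Fintype.card F + 1) := by exact_mod_cast h4
      exact not_phi_dvd hq4 ((Dvd.intro_left _ h2.symm).trans (Nat.mul_dvd_mul_left 3 hdvd))

end Cfsg.Agent.H612.Deg3
end

private theorem dce_a16a2a48f27c : _root_.True := by
  try have : _root_.True := by simp only [_root_.Cfsg.Agent.H670.GL2.mk.eq_1]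
  exact _root_.True.intro
end

-- part: H691/T3/Final_mg
section
prune_inst 0xf50053301e0012000000250690207e126c000490102f800040000a000a00012209806700040020075a2aa08100010020020000900000000000200400000104018880d20463d1080006009f010180000000000000300000000000000000000004204010002
set_option linter.all false
open scoped Cfsg.Agent.FastGrp

-- part: H462/T3/Num
section
/-!
# Arithmetic for `final3` (S4855) (helper462)
-/

set_option autoImplicit false

namespace Cfsg.Agent.H462.T3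

open Cfsg Cfsg.Agent.H691 Cfsg.Agent.H691.T3

universe u

theorem pos_of_DT {q d : ℕ} (hq : 3 ≤ q) (hd : d ∈ DT q) : 0 < d := by
  obtain ⟨a, rfl⟩ : ∃ a, q = a + 3 := ⟨q - 3, by omega⟩
  have e1 : a + 3 - 1 = a + 2 := rfl
  unfold DT at hd
  simp only [Set.mem_ofPred_eq, e1] at hd
  by_contra hcon
  obtain rfl : d = 0 := by omega
  rcases hd with h | h | h | h | h | ⟨h3, h | h⟩ | ⟨h5, h⟩ | ⟨h3, h | h⟩
  · omega
  · have : 0 < (a + 3) ^ 2 := by positivity
    omega
  · have : 0 < (a + 3) ^ 3 := by positivity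
    omega
  · have : 1 < (a + 3) ^ 3 := Nat.one_lt_pow (by norm_num) (by omega)
    omega
  · have : 0 < (a + 2) ^ 2 * (a + 3 + 1) := by positivity
    omega
  · omega
  · have : 0 < (a + 3) * ((a + 3) ^ 2 + (a + 3) + 1) := by positivity
    omega
  · have : 0 < (a + 3 + 1) * ((a + 3) ^ 2 + (a + 3) + 1) := by positivity
    omega
  · have : 0 < (a + 3 + 1) * ((a + 3) ^ 2 + (a + 3) + 1) := by positivity
    omega
  · have : 0 < (a + 2) ^ 2 * (a + 3 + 1) := by positivity
    omega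

theorem lt_two_mul_cube {q d x : ℕ} (hq : 3 ≤ q) (hd : d ∈ DT q) (hx : x + 1 = q ^ 3) : d < 2 * x := by
  obtain ⟨a, rfl⟩ : ∃ a, q = a + 3 := ⟨q - 3, by omega⟩
  have e1 : a + 3 - 1 = a + 2 := rfl
  have e3 : (a + 3) ^ 3 = a ^ 3 + 9 * a ^ 2 + 27 * a + 27 := by ring
  have e4 : (a + 2) ^ 2 * (a + 3 + 1) = a ^ 3 + 8 * a ^ 2 + 20 * a + 16 := by ring
  have e5 : (a + 3) ^ 2 = a ^ 2 + 6 * a + 9 := by ring
  have e6 : (a + 3) * (a ^ 2 + 6 * a + 9 + (a + 3) + 1) = a ^ 3 + 10 * a ^ 2 + 34 * a + 39 := by ring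
  have e7 : (a + 3 + 1) * (a ^ 2 + 6 * a + 9 + (a + 3) + 1) = a ^ 3 + 11 * a ^ 2 + 41 * a + 52 := by ring
  unfold DT at hd
  simp only [Set.mem_ofPred_eq, e1, e3, e4, e5, e6, e7] at hd
  rw [e3] at hx
  rcases hd with h | h | h | h | h | ⟨h3, h | h⟩ | ⟨h5, h⟩ | ⟨h3, h | h⟩ <;> omega

theorem lt_two_mul_c {q d : ℕ} (hq : 3 ≤ q) (hd : d ∈ DT q) (hdq : ¬ (q = 3 ∧ d = 39)) :
    d < 2 * ((q - 1) ^ 2 * (q + 1)) := by
  obtain ⟨a, rfl⟩ : ∃ a, q = a + 3 := ⟨q - 3, by omega⟩
  have e1 : a + 3 - 1 = a + 2 := rfl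
  have e3 : (a + 3) ^ 3 = a ^ 3 + 9 * a ^ 2 + 27 * a + 27 := by ring
  have e4 : (a + 2) ^ 2 * (a + 3 + 1) = a ^ 3 + 8 * a ^ 2 + 20 * a + 16 := by ring
  have e5 : (a + 3) ^ 2 = a ^ 2 + 6 * a + 9 := by ring
  have e6 : (a + 3) * (a ^ 2 + 6 * a + 9 + (a + 3) + 1) = a ^ 3 + 10 * a ^ 2 + 34 * a + 39 := by ring
  have e7 : (a + 3 + 1) * (a ^ 2 + 6 * a + 9 + (a + 3) + 1) = a ^ 3 + 11 * a ^ 2 + 41 * a + 52 := by ring
  unfold DT at hd
  simp only [Set.mem_ofPred_eq, e1, e3, e4, e5, e6, e7] at hd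
  rw [e1, e4]
  rcases hd with h | h | h | h | h | ⟨h3, h | h⟩ | ⟨h5, h⟩ | ⟨h3, h | h⟩
  · (clear * - h; omega)
  · (clear * - h; omega)
  · (clear * - h; omega)
  · (clear * - h; omega)
  · (clear * - e1 h; omega)
  · (clear * - h; omega)
  · rcases Nat.eq_zero_or_pos a with h0 | h0
    · subst h0
      exact (hdq ⟨rfl, by rw [h]; norm_num⟩).elim
    · have h1 : 0 < a ^ 3 := by positivity
      have h2 : 0 < a ^ 2 := by positivity
      (clear * - h h0 h2; omega)
  · obtain ⟨b, rfl⟩ : ∃ b, a = b + 2 := ⟨a - 2, by (clear * - h5; omega)⟩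
    linarith only [h, Nat.zero_le (b ^ 3), _root_.sq_nonneg (↑b : ℤ), _root_.Nat.cast_nonneg (α := ℤ) (b)]
  · (clear * - h; omega)
  · (clear * - h; omega)

/-- no element of `DT q` is a proper multiple of `(q - 1)² (q + 1)` or `q³ - 1` -/
theorem no_mult {q d x y : ℕ} (hq : 3 ≤ q) (hd : d ∈ DT q) (hx : x = (q - 1) ^ 2 * (q + 1) ∨ x + 1 = q ^ 3)
    (hy : y ≠ 1) (h : y * x ∣ d) : False := by
  obtain ⟨z, rfl⟩ := h
  have hpos := pos_of_DT hq hd
  have hy0 : y ≠ 0 := by
    rintro rfl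
    simp at hpos
  have hz0 : z ≠ 0 := by
    rintro rfl
    simp at hpos
  have hyz : 2 ≤ y * z := by
    have h1 : 2 ≤ y := by omega
    have h2 : 1 ≤ z := by omega
    calc 2 = 2 * 1 := rfl
      _ ≤ y * z := Nat.mul_le_mul h1 h2
  have e : y * x * z = (y * z) * x := by ring
  rw [e] at hd
  have hle : 2 * x ≤ (y * z) * x := Nat.mul_le_mul_right _ hyz
  rcases hx with hx | hx
  · by_cases h3 : q = 3 ∧ (y * z) * x = 39
    · obtain ⟨rfl, h4⟩ := h3
      rw [hx] at h4
      omega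
    · have := lt_two_mul_c hq hd h3
      rw [← hx] at this
      omega
  · have := lt_two_mul_cube hq hd hx
    omega

theorem not_q_dvd {q : ℕ} (hq : 3 ≤ q) : ¬ q ∣ (q - 1) ^ 2 * (q + 1) := by
  obtain ⟨a, rfl⟩ : ∃ a, q = a + 3 := ⟨q - 3, by omega⟩
  have e1 : a + 3 - 1 = a + 2 := rfl
  have e4 : (a + 2) ^ 2 * (a + 3 + 1) = (a + 3) * (a ^ 2 + 5 * a + 5) + 1 := by ring
  rw [e1, e4]
  intro h
  have h1 := (Nat.dvd_add_right (Dvd.intro _ rfl)).1 h
  have := Nat.dvd_one.1 h1
  omega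

theorem not_n_dvd {q : ℕ} (hq : 3 ≤ q) : ¬ (q ^ 2 + q + 1) ∣ (q - 1) ^ 2 * (q + 1) := by
  obtain ⟨a, rfl⟩ : ∃ a, q = a + 3 := ⟨q - 3, by omega⟩
  have e1 : a + 3 - 1 = a + 2 := rfl
  have e4 : (a + 2) ^ 2 * (a + 3 + 1) = ((a + 3) ^ 2 + (a + 3) + 1) * (a + 1) + 3 := by ring
  rw [e1, e4]
  intro h
  have h1 := (Nat.dvd_add_right (Dvd.intro _ rfl)).1 h
  have h2 := Nat.le_of_dvd (by norm_num) h1
  linarith only [h2, _root_.sq_nonneg (↑a : ℤ), _root_.Nat.cast_nonneg (α := ℤ) (a)]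

end Cfsg.Agent.H462.T3
end

-- part: H462/T3/GLThree
section
/-!
# Characters of `GL₃(F)` over characters of `SL₃(F)` (helper462)

* `DD F`, `HH F` : the matrices with determinant one, a cube;
* `dvd_three_mul` : if `Φ` lies over `ψ ∈ Irr (DD F)` then `Φ(1)` divides `3 ψ(1)`;
* `charDegree_eq` : if `ψ` is fixed by a matrix outside `HH F` then `Φ(1) = ψ(1)`;
* `exists_gl` : the same for `SL₃(F)`.
-/

set_option autoImplicit false

namespace Cfsg.Agent.H462.T3

open Cfsg Matrix Cfsg.Agent.Characters Cfsg.Agent.Characters.Core Cfsg.Agent.H672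

universe u

section

variable (F : Type u) [Field F]

/-- the matrices of determinant one -/
def DD : Subgroup (GL (Fin 3) F) := (Matrix.GeneralLinearGroup.det : GL (Fin 3) F →* Fˣ).ker

/-- the matrices whose determinant is a cube -/
def HH : Subgroup (GL (Fin 3) F) :=
  ((powMonoidHom 3 : Fˣ →* Fˣ).range).comap (Matrix.GeneralLinearGroup.det : GL (Fin 3) F →* Fˣ)

instance dd_normal : (DD F).Normal := MonoidHom.normal_ker _

instance hh_normal : (HH F).Normal := Subgroup.Normal.comap inferInstance _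

variable {F}

theorem mem_DD {g : GL (Fin 3) F} : g ∈ DD F ↔ Matrix.GeneralLinearGroup.det g = 1 := MonoidHom.mem_ker

theorem mem_HH {g : GL (Fin 3) F} : g ∈ HH F ↔ ∃ c : Fˣ, c ^ 3 = Matrix.GeneralLinearGroup.det g := by
  rw [HH, Subgroup.mem_comap, MonoidHom.mem_range]
  rfl

theorem DD_le_HH : DD F ≤ HH F := by
  intro g hg
  rw [mem_HH]
  exact ⟨1, by rw [mem_DD.1 hg, one_pow]⟩

/-- the scalar matrices -/
def sc : Fˣ →* GL (Fin 3) F := Units.map (algebraMap F (Matrix (Fin 3) (Fin 3) F)).toMonoidHom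

theorem sc_val (c : Fˣ) : ((sc c : GL (Fin 3) F) : Matrix (Fin 3) (Fin 3) F) = (c : F) • 1 := by
  rw [sc, Units.coe_map]
  exact Algebra.algebraMap_eq_smul_one (c : F)

theorem sc_comm (c : Fˣ) (g : GL (Fin 3) F) : sc c * g = g * sc c := by
  apply Units.ext
  rw [Units.val_mul, Units.val_mul, sc_val]
  simp

theorem det_sc (c : Fˣ) : Matrix.GeneralLinearGroup.det (sc c) = c ^ 3 := by
  apply Units.ext
  rw [Matrix.GeneralLinearGroup.val_det_apply, sc_val, Matrix.det_smul, Matrix.det_one, mul_one, Fintype.card_fin,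
    Units.val_pow_eq_pow_val]

/-- elements of `HH F` are scalar times determinant one -/
theorem exists_sc {g : GL (Fin 3) F} (hg : g ∈ HH F) : ∃ (c : Fˣ) (s : GL (Fin 3) F), s ∈ DD F ∧ g = sc c * s := by
  obtain ⟨c, hc⟩ := mem_HH.1 hg
  refine ⟨c, (sc c)⁻¹ * g, ?_, by group⟩
  rw [mem_DD, map_mul, map_inv, det_sc, hc, inv_mul_cancel]

theorem index_HH [Finite F] : (HH F).index ∣ 3 := by
  rw [HH, Subgroup.index_comap_of_surjective _ Matrix.GeneralLinearGroup.det_surjective,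
    IsCyclic.index_powMonoidHom_range]
  exact Nat.gcd_dvd_right _ _

variable [Finite F]

/-- `HH F` fixes the characters of `DD F` -/
theorem HH_le_inertia {ψ : DD F → ℂ} (hψ : IsClassFunction (DD F) ψ) : HH F ≤ inertia (DD F) ψ := by
  intro g hg
  obtain ⟨c, s, hs, rfl⟩ := exists_sc hg
  rw [mem_inertia_iff]
  intro n
  rw [← hψ n ⟨s, hs⟩]
  (with_reducible congr 1)
  apply Subtype.ext
  change sc c * s * (n : GL (Fin 3) F) * (sc c * s)⁻¹ = s * n * s⁻¹
  have h1 : sc c * s * (n : GL (Fin 3) F) * (sc c * s)⁻¹ = sc c * (s * n * s⁻¹) * (sc c)⁻¹ := by group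
  rw [h1, sc_comm, mul_inv_cancel_right]

theorem inertia_eq_top {ψ : DD F → ℂ} (hψ : IsClassFunction (DD F) ψ) {A : GL (Fin 3) F}
    (hA : A ∈ inertia (DD F) ψ) (hAH : A ∉ HH F) : inertia (DD F) ψ = ⊤ := by
  have h1 := HH_le_inertia hψ
  have h2 := Subgroup.relIndex_mul_index h1
  rw [← Subgroup.index_eq_one]
  rcases (Nat.dvd_prime Nat.prime_three).1 ((Subgroup.index_dvd_of_le h1).trans index_HH) with h3 | h3
  · exact h3
  · exfalso
    rw [h3] at h2
    have h4 : (HH F).relIndex (inertia (DD F) ψ) = 1 := by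
      have h5 := Nat.le_of_dvd (by norm_num) (index_HH (F := F))
      have h6 : (HH F).index ≠ 0 := Subgroup.index_ne_zero_of_finite
      omega
    exact hAH (Subgroup.relIndex_eq_one.1 h4 hA)

theorem cyclic_quot {T : Type u} [Group T] (f : T →* Fˣ) (K : Subgroup T) [K.Normal] (hK : f.ker = K) :
    IsCyclic (T ⧸ K) := by
  subst hK
  exact isCyclic_of_injective (QuotientGroup.kerLift f) (QuotientGroup.kerLift_injective f)

/-- `Φ(1)` divides `3 ψ(1)` -/
theorem dvd_three_mul {Φ : GL (Fin 3) F → ℂ} (hΦ : IsIrrCharacter _ Φ) {ψ : DD F → ℂ} (hψ : IsIrrCharacter _ ψ)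
    (ho : Over (DD F).subtype Φ ψ) : charDegree Φ ∣ 3 * charDegree ψ := by
  classical
  have hle : DD F ≤ HH F := DD_le_HH
  have h1 : Over ((HH F).subtype.comp (Subgroup.inclusion hle)) Φ ψ := ho
  obtain ⟨η, hη, h2, h3⟩ := (over_comp_iff _ _ (isIrr_isCharacter hΦ) hψ).1 h1
  obtain ⟨h4, h5⟩ := charDegree_dvd_of_over (HH F) hΦ hη h2
  -- restriction of `η`
  have hK : ((DD F).subgroupOf (HH F)).Normal := inferInstance
  have := Fintype.ofFinite ((DD F).subgroupOf (HH F))
  let eD : (DD F).subgroupOf (HH F) ≃* DD F := Subgroup.subgroupOfEquivOfLe hle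
  have hψ' : IsIrrCharacter ((DD F).subgroupOf (HH F)) (ψ ∘ eD) := isIrr_comp eD.toMonoidHom eD.surjective hψ
  have hcyc : IsCyclic (HH F ⧸ (DD F).subgroupOf (HH F)) := by
    refine cyclic_quot ((Matrix.GeneralLinearGroup.det : GL (Fin 3) F →* Fˣ).comp (HH F).subtype) _ ?_
    ext x
    rw [MonoidHom.mem_ker, Subgroup.mem_subgroupOf, mem_DD]
    rfl
  have ho' : classInner (fun k : (DD F).subgroupOf (HH F) => η k) (ψ ∘ eD) ≠ 0 := by
    have h6 := (over_comp_equiv (Subgroup.inclusion hle) eD η ψ).2 h3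
    rw [over_iff] at h6
    exact h6
  have hres := Cfsg.Agent.Classification.QDW.FrobLift.restrict_eq ((DD F).subgroupOf (HH F)) hcyc hψ' (by
    intro g n
    have h7 := (mem_inertia_iff.1 (HH_le_inertia (isIrr_isClassFunction hψ) g.2)) (eD n)
    change ψ _ = ψ (eD n)
    rw [← h7]
    congr 1) hη ho' 1
  have h6 : charDegree η = charDegree ψ := by
    apply charDegree_of_eq
    rw [coe_charDegree hψ]
    have h7 : η 1 = (ψ ∘ eD) 1 := hres
    rw [h7, Function.comp, map_one]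
  rw [← h6]
  obtain ⟨k, hk⟩ := h4
  rw [hk, Nat.mul_div_cancel_left _ (charDegree_pos hη)] at h5
  rw [hk, mul_comm]
  exact Nat.mul_dvd_mul_right (h5.trans index_HH) _

/-- If `ψ` is fixed by a matrix outside `HH F` then `Φ(1) = ψ(1)`. -/
theorem charDegree_eq {Φ : GL (Fin 3) F → ℂ} (hΦ : IsIrrCharacter _ Φ) {ψ : DD F → ℂ} (hψ : IsIrrCharacter _ ψ)
    (ho : Over (DD F).subtype Φ ψ) {A : GL (Fin 3) F} (hA : A ∈ inertia (DD F) ψ) (hAH : A ∉ HH F) :
    charDegree Φ = charDegree ψ := by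
  classical
  have := Fintype.ofFinite (DD F)
  have htop := inertia_eq_top (isIrr_isClassFunction hψ) hA hAH
  have hcyc : IsCyclic (GL (Fin 3) F ⧸ DD F) := cyclic_quot (Matrix.GeneralLinearGroup.det : GL (Fin 3) F →* Fˣ) _ rfl
  have hres := Cfsg.Agent.Classification.QDW.FrobLift.restrict_eq (DD F) hcyc hψ (by
    intro g n
    have h7 : g ∈ inertia (DD F) ψ := by rw [htop]; trivial
    exact mem_inertia_iff.1 h7 n) hΦ ((over_subtype_iff _ _ _).1 ho) 1
  apply charDegree_of_eq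
  rw [coe_charDegree hψ]
  exact hres

end

section sl

variable {F : Type u} [Field F]

/-- `SL₃(F)` is the group of the matrices of determinant one. -/
def eD : Matrix.SpecialLinearGroup (Fin 3) F ≃* DD F where
  toFun s := ⟨Matrix.SpecialLinearGroup.toGL s, by
    rw [mem_DD]
    apply Units.ext
    rw [Matrix.GeneralLinearGroup.val_det_apply]
    exact s.2⟩
  invFun g := ⟨((g : GL (Fin 3) F) : Matrix (Fin 3) (Fin 3) F), by
    have h := mem_DD.1 g.2
    rw [← Matrix.GeneralLinearGroup.val_det_apply, h, Units.val_one]⟩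
  left_inv s := Subtype.ext rfl
  right_inv g := Subtype.ext (Units.ext rfl)
  map_mul' a b := Subtype.ext (map_mul Matrix.SpecialLinearGroup.toGL a b)

/-- conjugation by an invertible matrix -/
def cA (A : GL (Fin 3) F) : MulAut (Matrix.SpecialLinearGroup (Fin 3) F) :=
  (eD.trans (MulAut.conjNormal A : MulAut (DD F))).trans eD.symm

theorem cA_val (A : GL (Fin 3) F) (s : Matrix.SpecialLinearGroup (Fin 3) F) :
    ((cA A s : Matrix.SpecialLinearGroup (Fin 3) F) : Matrix (Fin 3) (Fin 3) F) =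
      (A : Matrix (Fin 3) (Fin 3) F) * s * ((A⁻¹ : GL (Fin 3) F) : Matrix (Fin 3) (Fin 3) F) := rfl

theorem eD_cA (A : GL (Fin 3) F) (s : Matrix.SpecialLinearGroup (Fin 3) F) :
    eD (cA A s) = (MulAut.conjNormal A : MulAut (DD F)) (eD s) := by
  change eD (eD.symm _) = _
  rw [MulEquiv.apply_symm_apply]
  rfl

/-- if the determinant of `A` is a cube, `cA A` is inner -/
theorem exists_inner_of_mem_HH {A : GL (Fin 3) F} (hA : A ∈ HH F) :
    ∃ s₀ : Matrix.SpecialLinearGroup (Fin 3) F, ∀ s, cA A s = s₀ * s * s₀⁻¹ := by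
  obtain ⟨c, t, ht, rfl⟩ := exists_sc hA
  refine ⟨eD.symm ⟨t, ht⟩, fun s => ?_⟩
  apply eD.injective
  rw [eD_cA, map_mul eD, map_mul eD, map_inv eD, MulEquiv.apply_symm_apply]
  apply Subtype.ext
  rw [MulAut.conjNormal_apply]
  change sc c * t * (eD s : GL (Fin 3) F) * (sc c * t)⁻¹ = t * (eD s : GL (Fin 3) F) * t⁻¹
  have h1 : sc c * t * (eD s : GL (Fin 3) F) * (sc c * t)⁻¹ = sc c * (t * (eD s : GL (Fin 3) F) * t⁻¹) * (sc c)⁻¹ := by
    group
  rw [h1, sc_comm, mul_inv_cancel_right]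

/-- **Characters of `GL₃(F)` over a character of `SL₃(F)`.** -/
theorem exists_gl [Finite F] {ψ : Matrix.SpecialLinearGroup (Fin 3) F → ℂ} (hψ : IsIrrCharacter _ ψ) :
    ∃ Φ : GL (Fin 3) F → ℂ, IsIrrCharacter _ Φ ∧ charDegree Φ ∣ 3 * charDegree ψ ∧ charDegree ψ ∣ charDegree Φ ∧
      ∀ A : GL (Fin 3) F, A ∉ HH F → (∀ s, ψ (cA A s) = ψ s) → charDegree Φ = charDegree ψ := by
  classical
  have hψ' : IsIrrCharacter (DD F) (ψ ∘ (eD (F := F)).symm) :=
    isIrr_comp (eD (F := F)).symm.toMonoidHom (eD (F := F)).symm.surjective hψ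
  have hdeg : charDegree (ψ ∘ eD.symm) = charDegree ψ := by
    apply charDegree_of_eq
    rw [Function.comp, map_one, coe_charDegree hψ]
  obtain ⟨Φ, hΦ, ho⟩ := exists_over_subtype (DD F) hψ'
  refine ⟨Φ, hΦ, ?_, ?_, ?_⟩
  · rw [← hdeg]
    exact dvd_three_mul hΦ hψ' ho
  · rw [← hdeg]
    exact (charDegree_dvd_of_over (DD F) hΦ hψ' ho).1
  · intro A hA hfix
    rw [← hdeg]
    refine charDegree_eq hΦ hψ' ho (A := A) ?_ hA
    rw [mem_inertia]
    funext d
    obtain ⟨s, rfl⟩ := eD.surjective d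
    change ψ (eD.symm ((MulAut.conjNormal A : MulAut (DD F)) (eD s))) = ψ (eD.symm (eD s))
    rw [← eD_cA, MulEquiv.symm_apply_apply, MulEquiv.symm_apply_apply]
    exact hfix s

end sl

end Cfsg.Agent.H462.T3
end

-- part: H462/T3/Final3
section
/-!
# The last step of S4855 (helper462)

`final3` : `G' ≅ SL₃(F)` or `PSL₃(F)`, `cd(G) ⊆ DT q`, `(q - 1)² (q + 1) / 3 ∈ cd(G)` if `3 ∣ q - 1` imply that `G` is the
central product of a subgroup isomorphic to `SL₃(F)` and an abelian group.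
-/

set_option autoImplicit false

namespace Cfsg.Agent.H462.T3

open Cfsg Matrix Cfsg.Agent.Characters Cfsg.Agent.Characters.Core Cfsg.Agent.H672
open Cfsg.Agent.H691 Cfsg.Agent.H691.T3

universe u v

/-- homomorphisms of a perfect group agreeing modulo the centre are equal -/
theorem hom_eq {A : Type u} {B : Type v} [Group A] [Group B] (hA : commutator A = ⊤) (f g : A →* B)
    (h : ∀ a, (g a)⁻¹ * f a ∈ Subgroup.center B) : f = g := by
  let k : A →* Subgroup.center B :=
    { toFun := fun a => ⟨(g a)⁻¹ * f a, h a⟩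
      map_one' := by
        apply Subtype.ext
        simp only [_root_.map_one, _root_.inv_one, _root_.mul_one, _root_.OneMemClass.coe_one]
      map_mul' := by
        intro a b
        apply Subtype.ext
        change (g (a * b))⁻¹ * f (a * b) = ((g a)⁻¹ * f a) * ((g b)⁻¹ * f b)
        have h1 := Subgroup.mem_center_iff.1 (h a) (g b)⁻¹
        have h2 : (g (a * b))⁻¹ * f (a * b) = ((g b)⁻¹ * ((g a)⁻¹ * f a)) * f b := by
          rw [map_mul, map_mul, _root_.mul_inv_rev]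
          simp only [mul_assoc]
        rw [h2, h1, mul_assoc] }
  have h1 : commutator A ≤ k.ker := by
    rw [commutator_def, Subgroup.commutator_le]
    intro a _ b _
    rw [MonoidHom.mem_ker, map_commutatorElement, commutatorElement_eq_one_iff_mul_comm]
    apply Subtype.ext
    exact Subgroup.mem_center_iff.1 (k b).2 (k a)
  ext a
  have h2 : k a = 1 := h1 (by rw [hA]; trivial)
  have h3 : (g a)⁻¹ * f a = 1 := congrArg Subtype.val h2
  exact (inv_mul_eq_one.1 h3).symm

theorem perfect_of_surj {A : Type u} {B : Type v} [Group A] [Group B] (hA : commutator A = ⊤) (f : A →* B)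
    (hf : Function.Surjective f) : commutator B = ⊤ := by
  have h1 := congrArg (Subgroup.map f) hA
  rw [commutator_def, Subgroup.map_commutator, ← MonoidHom.range_eq_map, MonoidHom.range_eq_top.2 hf] at h1
  exact h1

/-- elements centralising `N` act as scalars if `χ` is irreducible on `N` -/
theorem norm_of_centralizes {G : Type u} [Group G] [Finite G] {N : Subgroup G} {χ : G → ℂ} (hχ : IsIrrCharacter G χ)
    (hN : IsIrrCharacter N (χ ∘ N.subtype)) {x : G} (hx : x ∈ Subgroup.centralizer (N : Set G)) : ‖χ x‖ = ‖χ 1‖ := by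
  classical
  have := Fintype.ofFinite N
  set! Y : Subgroup G := Subgroup.centralizer ({x} : Set G) with hY
  have hNY : N ≤ Y := by
    intro n hn
    rw [hY, Subgroup.mem_centralizer_singleton_iff]
    exact (Subgroup.mem_centralizer_iff.1 hx n hn)
  obtain ⟨η, hη, ho⟩ := exists_under (f := Y.subtype) hχ
  obtain ⟨θ, hθ, hoθ⟩ := exists_under (f := Subgroup.inclusion hNY) hη
  have h1 : Over (Y.subtype.comp (Subgroup.inclusion hNY)) χ θ :=
    (over_comp_iff _ _ (isIrr_isCharacter hχ) hθ).2 ⟨η, hη, ho, hoθ⟩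
  have h2 : χ ∘ N.subtype = θ := by
    by_contra hne
    have h3 : classInner (χ ∘ N.subtype) θ = 0 := classInner_irr_ne hN hθ hne
    rw [over_iff] at h1
    exact h1 h3
  have h3 : charDegree θ ≤ charDegree η := charDegree_le_of_over hη hθ hoθ
  have h4 : charDegree η ≤ charDegree χ := charDegree_le_of_over hχ hη ho
  have h5 : charDegree θ = charDegree χ := by
    apply charDegree_of_eq
    rw [coe_charDegree hχ, ← h2, Function.comp, map_one]
  have h6 : χ ∘ Y.subtype = η := eq_of_over_of_charDegree_eq hχ hη ho (by omega)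
  have hxY : x ∈ Y := by
    rw [hY, Subgroup.mem_centralizer_singleton_iff]
  have hxc : (⟨x, hxY⟩ : Y) ∈ Subgroup.center Y := by
    rw [Subgroup.mem_center_iff]
    intro y
    apply Subtype.ext
    exact Subgroup.mem_centralizer_singleton_iff.1 y.2
  have := Fintype.ofFinite Y
  obtain ⟨w, hw, hw'⟩ := Cfsg.Agent.CharDeep.DegreeBound.exists_omega hη hxc
  have h7 := hw' 1
  rw [one_mul, ← h6] at h7
  have h8 : χ x = w * χ 1 := h7
  rw [h8, norm_mul, hw, one_mul]

section action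

variable {G : Type u} [Group G] {F : Type} [Field F] {N : Subgroup G} [N.Normal]
  (σ : Matrix.SpecialLinearGroup (Fin 3) F →* N) (hσ : Function.Surjective σ)
  (ρ : N →* Matrix.ProjectiveSpecialLinearGroup (Fin 3) F)
  (hρσ : ∀ s, ρ (σ s) = (QuotientGroup.mk s : Matrix.ProjectiveSpecialLinearGroup (Fin 3) F))
  (hker : ρ.ker ≤ Subgroup.center N) (hchar : ρ.ker.Characteristic)

include hρσ in
omit [N.Normal] in
theorem rho_surj : Function.Surjective ρ := by
  intro x
  obtain ⟨s, rfl⟩ := QuotientGroup.mk_surjective x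
  exact ⟨σ s, hρσ s⟩

include hρσ hchar in
omit [N.Normal] in
/-- automorphisms of `N` act on `PSL₃(F)` -/
theorem exists_beta (a : MulAut N) : ∃ β : MulAut (Matrix.ProjectiveSpecialLinearGroup (Fin 3) F),
    ∀ n, β (ρ n) = ρ (a n) := by
  have hs : Function.Surjective ρ := rho_surj σ ρ hρσ
  let e₁ : (N ⧸ ρ.ker) ≃* Matrix.ProjectiveSpecialLinearGroup (Fin 3) F := QuotientGroup.quotientKerEquivOfSurjective ρ hs
  let e₂ : (N ⧸ ρ.ker) ≃* (N ⧸ ρ.ker) := QuotientGroup.congr ρ.ker ρ.ker a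
    (Subgroup.characteristic_iff_map_eq.1 hchar a)
  have he₁ : ∀ n : N, e₁ (QuotientGroup.mk n) = ρ n := fun n => rfl
  have he₂ : ∀ n : N, e₂ (QuotientGroup.mk n) = QuotientGroup.mk (a n) := fun n => rfl
  refine ⟨(e₁.symm.trans e₂).trans e₁, fun n => ?_⟩
  rw [MulEquiv.trans_apply, MulEquiv.trans_apply, ← he₁ n, MulEquiv.symm_apply_apply, he₂, he₁]

variable [Finite G] [Fintype F]

include hρσ hker hchar in
/-- **Step 1**: the elements of `G` act on `N` as matrices. -/
theorem exists_matrix (h3 : 3 ≤ Fintype.card F) (hD : charDegrees G ⊆ DT (Fintype.card F))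
    (hinn : ∀ β : MulAut (Matrix.ProjectiveSpecialLinearGroup (Fin 3) F),
      (∀ θ : Matrix.ProjectiveSpecialLinearGroup (Fin 3) F → ℂ, IsIrrCharacter _ θ →
        (charDegree θ = (Fintype.card F - 1) ^ 2 * (Fintype.card F + 1) ∨ charDegree θ + 1 = Fintype.card F ^ 3) →
        θ ∘ β = θ) → IsInnerDiagonalAutPSL β) (g : G) :
    ∃ A : GL (Fin 3) F, ∀ s, (MulAut.conjNormal g : MulAut N) (σ s) = σ (cA A s) := by
  classical
  have hs : Function.Surjective ρ := rho_surj σ ρ hρσ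
  obtain ⟨β, hβ⟩ := exists_beta σ ρ hρσ hchar (MulAut.conjNormal g)
  obtain ⟨A, hA⟩ := hinn β (by
    intro θ hθ hdeg
    have hθ' : IsIrrCharacter N (θ ∘ ρ) := isIrr_comp ρ hs hθ
    have hd : charDegree (θ ∘ ρ) = charDegree θ := by
      apply charDegree_of_eq
      rw [Function.comp, map_one, coe_charDegree hθ]
    obtain ⟨χ, hχ, ho⟩ := exists_over_subtype N hθ'
    have h1 := index_mul_charDegree_dvd N hχ hθ' ho
    rw [hd] at h1
    have h2 : (inertia N (θ ∘ ρ)).index = 1 := by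
      by_contra hne
      exact no_mult h3 (hD ⟨⟨χ, hχ⟩, rfl⟩) hdeg hne h1
    have h4 : g ∈ inertia N (θ ∘ ρ) := by
      rw [Subgroup.index_eq_one.1 h2]; trivial
    rw [mem_inertia] at h4
    funext y
    obtain ⟨n, rfl⟩ := hs y
    rw [Function.comp, hβ]
    exact congrFun h4 n)
  refine ⟨A, ?_⟩
  have key : ((MulAut.conjNormal g : MulAut N).toMonoidHom.comp σ) = σ.comp (cA A).toMonoidHom := by
    apply hom_eq (LieClassical.SLGen.commutator_eq_top (by rw [Fintype.card_fin]))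
    intro s
    apply hker
    rw [MonoidHom.mem_ker, map_mul, map_inv]
    change (ρ (σ (cA A s)))⁻¹ * ρ ((MulAut.conjNormal g : MulAut N) (σ s)) = 1
    rw [← hβ, hρσ, hρσ, hA s (cA A s) (cA_val A s), inv_mul_cancel]
  intro s
  exact DFunLike.congr_fun key s

include hσ in
omit [Finite G] [Fintype F] in
/-- **Step 2** -/
theorem mem_sup {g : G} {A : GL (Fin 3) F} (hA : ∀ s, (MulAut.conjNormal g : MulAut N) (σ s) = σ (cA A s))
    (hAH : A ∈ HH F) : g ∈ N ⊔ Subgroup.centralizer (N : Set G) := by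
  obtain ⟨s₀, hs₀⟩ := exists_inner_of_mem_HH hAH
  set! h : N := σ s₀ with hh
  have hkey : ∀ n : N, g * (n : G) * g⁻¹ = (h : G) * n * (h : G)⁻¹ := by
    intro n
    obtain ⟨s, rfl⟩ := hσ n
    have h1 := hA s
    rw [hs₀, map_mul, map_mul, map_inv] at h1
    have h2 := congrArg Subtype.val h1
    rw [MulAut.conjNormal_apply] at h2
    exact h2
  have hmem : (h : G)⁻¹ * g ∈ Subgroup.centralizer (N : Set G) := by
    rw [Subgroup.mem_centralizer_iff]
    intro n hn
    have h1 := hkey ⟨n, hn⟩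
    have h2 : g * n = (h : G) * n * (h : G)⁻¹ * g := by
      rw [← h1]; group
    have h3 : (h : G)⁻¹ * (g * n) = (h : G)⁻¹ * ((h : G) * n * (h : G)⁻¹ * g) := by rw [h2]
    have h4 : (h : G)⁻¹ * ((h : G) * n * (h : G)⁻¹ * g) = n * ((h : G)⁻¹ * g) := by group
    rw [h4, ← mul_assoc] at h3
    exact h3.symm
  have hg : g = (h : G) * ((h : G)⁻¹ * g) := by group
  rw [hg]
  exact Subgroup.mul_mem_sup h.2 hmem

end action

/-- the centre of `SL₃(F)` -/
theorem center_sl {F : Type u} [Field F] {s : Matrix.SpecialLinearGroup (Fin 3) F}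
    (hs : s ∈ Subgroup.center (Matrix.SpecialLinearGroup (Fin 3) F)) :
    ∃ r : F, r ^ 3 = 1 ∧ (s : Matrix (Fin 3) (Fin 3) F) = Matrix.diagonal fun _ => r := by
  obtain ⟨r, hr, hrs⟩ := Matrix.SpecialLinearGroup.mem_center_iff.1 hs
  rw [Fintype.card_fin] at hr
  exact ⟨r, hr, hrs.symm⟩

/-- `3 ∤ q - 1` : the centre of `SL₃(F)` is trivial. -/
theorem center_eq_one {F : Type u} [Field F] [Fintype F] (h : ¬ 3 ∣ Fintype.card F - 1)
    {s : Matrix.SpecialLinearGroup (Fin 3) F}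
    (hs : s ∈ Subgroup.center (Matrix.SpecialLinearGroup (Fin 3) F)) : s = 1 := by
  obtain ⟨r, hr, hrs⟩ := center_sl hs
  have hr0 : r ≠ 0 := by
    rintro rfl
    norm_num at hr
  have h1 : r ^ (Fintype.card F - 1) = 1 := FiniteField.pow_card_sub_one_eq_one r hr0
  have h2 : orderOf r ∣ Nat.gcd 3 (Fintype.card F - 1) :=
    Nat.dvd_gcd (orderOf_dvd_of_pow_eq_one hr) (orderOf_dvd_of_pow_eq_one h1)
  have h3 : Nat.gcd 3 (Fintype.card F - 1) = 1 := by
    rcases (Nat.dvd_prime Nat.prime_three).1 (Nat.gcd_dvd_left 3 (Fintype.card F - 1)) with h4 | h4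
    · exact h4
    · exact (h (Nat.gcd_eq_left_iff_dvd.1 h4)).elim
  rw [h3, Nat.dvd_one, orderOf_eq_one_iff] at h2
  apply Subtype.ext
  rw [hrs, h2]
  exact Matrix.diagonal_one

/-- `HH F` is everything if `3 ∤ q - 1` -/
theorem mem_HH_of_not_dvd {F : Type u} [Field F] [Fintype F] (h : ¬ 3 ∣ Fintype.card F - 1) (A : GL (Fin 3) F) :
    A ∈ HH F := by
  have h1 : (HH F).index = 1 := by
    rw [HH, Subgroup.index_comap_of_surjective _ Matrix.GeneralLinearGroup.det_surjective,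
      IsCyclic.index_powMonoidHom_range, Nat.card_units, Nat.card_eq_fintype_card, Nat.gcd_comm]
    rcases (Nat.dvd_prime Nat.prime_three).1 (Nat.gcd_dvd_left 3 (Fintype.card F - 1)) with h4 | h4
    · exact h4
    · exact (h (Nat.gcd_eq_left_iff_dvd.1 h4)).elim
  rw [Subgroup.index_eq_one.1 h1]
  trivial

/-- a nontrivial central element of `SL₃(F)` generates the centre -/
theorem center_gen {F : Type u} [Field F] {t s : Matrix.SpecialLinearGroup (Fin 3) F}
    (ht : t ∈ Subgroup.center (Matrix.SpecialLinearGroup (Fin 3) F)) (ht1 : t ≠ 1)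
    (hs : s ∈ Subgroup.center (Matrix.SpecialLinearGroup (Fin 3) F)) : ∃ k : ℕ, s = t ^ k := by
  obtain ⟨r, hr, hrt⟩ := center_sl ht
  obtain ⟨w, hw, hws⟩ := center_sl hs
  have hr1 : r ≠ 1 := by
    intro h
    apply ht1
    apply Subtype.ext
    rw [hrt, h]
    exact Matrix.diagonal_one
  have h1 : r ^ 2 + r + 1 = 0 := by
    have h2 : (r - 1) * (r ^ 2 + r + 1) = 0 := by
      have : (r - 1) * (r ^ 2 + r + 1) = r ^ 3 - 1 := by ring
      rw [this, hr, sub_self]
    exact (mul_eq_zero.1 h2).resolve_left (sub_ne_zero.2 hr1)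
  have h2 : (w - 1) * ((w - r) * (w - r ^ 2)) = 0 := by
    have h3 : (w - 1) * ((w - r) * (w - r ^ 2)) =
        w ^ 3 - r ^ 3 - (w ^ 2 - w * r) * (r ^ 2 + r + 1) := by ring
    rw [h3, h1, hw, hr]
    ring
  have hpow : ∀ k : ℕ, ((t ^ k : Matrix.SpecialLinearGroup (Fin 3) F) : Matrix (Fin 3) (Fin 3) F) =
      Matrix.diagonal fun _ => r ^ k := by
    intro k
    rw [Matrix.SpecialLinearGroup.coe_pow, hrt, Matrix.diagonal_pow]
    rfl
  rcases mul_eq_zero.1 h2 with h3 | h3
  · refine ⟨0, Subtype.ext ?_⟩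
    rw [hws, hpow, pow_zero, sub_eq_zero.1 h3]
  · rcases mul_eq_zero.1 h3 with h4 | h4
    · refine ⟨1, Subtype.ext ?_⟩
      rw [hws, hpow, pow_one, sub_eq_zero.1 h4]
    · refine ⟨2, Subtype.ext ?_⟩
      rw [hws, hpow, sub_eq_zero.1 h4]

theorem exists_sigma {G : Type u} [Group G] {F : Type} [Field F] {N : Subgroup G}
    (e : Nonempty (N ≃* _root_.Matrix.SpecialLinearGroup (Fin 3) F) ∨ Nonempty (N ≃* ProjectiveSpecialLinearGroup (Fin 3) F)) :
    ∃ (σ : Matrix.SpecialLinearGroup (Fin 3) F →* N) (ρ : N →* Matrix.ProjectiveSpecialLinearGroup (Fin 3) F),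
      Function.Surjective σ ∧
      (∀ s, ρ (σ s) = (QuotientGroup.mk s : Matrix.ProjectiveSpecialLinearGroup (Fin 3) F)) ∧
      ρ.ker ≤ Subgroup.center N ∧ ρ.ker.Characteristic ∧ (Function.Injective σ ∨ ρ.ker = ⊥) := by
  rcases e with ⟨⟨e⟩⟩ | ⟨⟨e⟩⟩
  · have hk : ((QuotientGroup.mk' (Subgroup.center (_root_.Matrix.SpecialLinearGroup (Fin 3) F))).comp e.toMonoidHom).ker =
        Subgroup.center N := by
      ext n
      rw [MonoidHom.mem_ker, MonoidHom.comp_apply]
      change (QuotientGroup.mk (e n) : _root_.Matrix.SpecialLinearGroup (Fin 3) F ⧸ _) = 1 ↔ _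
      rw [QuotientGroup.eq_one_iff, Subgroup.mem_center_iff, Subgroup.mem_center_iff]
      constructor
      · intro h x
        apply e.injective
        rw [map_mul, map_mul]
        exact h (e x)
      · intro h x
        obtain ⟨y, rfl⟩ := e.surjective x
        rw [← map_mul, ← map_mul, h y]
    refine ⟨e.symm.toMonoidHom, (QuotientGroup.mk' (Subgroup.center (_root_.Matrix.SpecialLinearGroup (Fin 3) F))).comp e.toMonoidHom,
      e.symm.surjective, ?_, ?_, ?_, Or.inl e.symm.injective⟩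
    · intro s
      change (QuotientGroup.mk (e (e.symm s)) : _root_.Matrix.SpecialLinearGroup (Fin 3) F ⧸ _) = _
      rw [MulEquiv.apply_symm_apply]
    · exact hk.le
    · rw [hk]; infer_instance
  · have hk : e.toMonoidHom.ker = ⊥ := by
      rw [MonoidHom.ker_eq_bot_iff]
      exact e.injective
    refine ⟨e.symm.toMonoidHom.comp (QuotientGroup.mk' _), e.toMonoidHom,
      e.symm.surjective.comp (QuotientGroup.mk'_surjective _), ?_, ?_, ?_, Or.inr hk⟩
    · intro s
      change e (e.symm _) = _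
      rw [MulEquiv.apply_symm_apply]
      rfl
    · rw [hk]; exact bot_le
    · rw [hk]; infer_instance

end Cfsg.Agent.H462.T3
end

-- part: H691/T3/Final
section
/-!
# The last step of S4855, with the hypotheses which are available (helper691)

`final3b` is `H462.T3.final3` (helper462) with the full list of the degrees of `GL₃(F)` replaced by
`charDegrees SL₃(F) ⊆ DT q` and the fact that `(q - 1)² (q + 1) / 3` is not a degree of `GL₃(F)`.
-/

set_option autoImplicit false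

namespace Cfsg.Agent.H691.T3

open Cfsg Matrix Cfsg.Agent.Characters Cfsg.Agent.Characters.Core Cfsg.Agent.H672
open Cfsg.Agent.H691 Cfsg.Agent.H691.T3 Cfsg.Agent.H462.T3

universe u v

/-- the degrees of `SL₃(F)` dividing `(q - 1)² (q + 1) / 3` -/
theorem deg_cases_b {q d m : ℕ} (h3 : 3 ≤ q) (hm : 3 * m = (q - 1) ^ 2 * (q + 1)) (hd : d ∈ DT q) (hdm : d ∣ m) :
    d = 1 ∨ d = m := by
  have hd3 : d ∣ (q - 1) ^ 2 * (q + 1) := by
    rw [← hm]
    exact Dvd.dvd.mul_left hdm 3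
  have h3d : 3 * d ∣ (q - 1) ^ 2 * (q + 1) := by
    rw [← hm]
    exact Nat.mul_dvd_mul_left 3 hdm
  have hq := Cfsg.Agent.H462.T3.not_q_dvd h3
  have hn := Cfsg.Agent.H462.T3.not_n_dvd h3
  have hpos : 0 < (q - 1) ^ 2 * (q + 1) := by
    have : 0 < q - 1 := by omega
    positivity
  have hmpos : 0 < m := by omega
  rcases hd with h | h | h | h | h | ⟨-, h | h⟩ | ⟨-, h⟩ | ⟨-, h | h⟩
  · exact Or.inl h
  · exfalso
    refine hq (dvd_trans ?_ hd3)
    rw [h]
    exact ⟨q + 1, by ring⟩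
  · exfalso
    refine hq (dvd_trans ?_ hd3)
    rw [h]
    exact dvd_pow_self _ (by norm_num)
  · exfalso
    have h2 := Nat.le_of_dvd hpos hd3
    obtain ⟨a, ha⟩ : ∃ a, q = a + 3 := ⟨q - 3, by omega⟩
    rw [ha] at h h2
    have e1 : a + 3 - 1 = a + 2 := rfl
    have e3 : (a + 3) ^ 3 = a ^ 3 + 9 * a ^ 2 + 27 * a + 27 := by ring
    have e4 : (a + 2) ^ 2 * (a + 3 + 1) = a ^ 3 + 8 * a ^ 2 + 20 * a + 16 := by ring
    rw [e1, e4] at h2
    rw [e3] at h
    (clear * - h2 h; omega)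
  · exfalso
    have h2 := Nat.le_of_dvd hmpos hdm
    rw [h, ← hm] at h2
    omega
  · exact (hn (h ▸ hd3)).elim
  · exact (hn (dvd_trans (by rw [h]; exact Dvd.intro_left _ rfl) hd3)).elim
  · exact (hn (dvd_trans (by rw [h]; exact Dvd.intro_left _ rfl) hd3)).elim
  · exact (hn (dvd_trans (by rw [h]; exact Dvd.intro_left _ rfl) h3d)).elim
  · right
    omega

/-- **The small characters.** -/
theorem exists_small_b {G : Type u} [Group G] [Finite G] {F : Type} [Field F] [Fintype F] (h3 : 3 ≤ Fintype.card F)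
    (hgl3 : ∀ d ∈ charDegrees (GL (Fin 3) F), 3 * d ≠ (Fintype.card F - 1) ^ 2 * (Fintype.card F + 1))
    (hsl : charDegrees (_root_.Matrix.SpecialLinearGroup (Fin 3) F) ⊆ DT (Fintype.card F))
    (hperf : commutator (commutator G) = ⊤)
    (σ : Matrix.SpecialLinearGroup (Fin 3) F →* commutator G) (hσ : Function.Surjective σ)
    {χ : G → ℂ} (hχ : IsIrrCharacter G χ)
    (hm : 3 * charDegree χ = (Fintype.card F - 1) ^ 2 * (Fintype.card F + 1)) :
    ∃ ψ : commutator G → ℂ, IsIrrCharacter _ ψ ∧ Over (commutator G).subtype χ ψ ∧ charDegree ψ = charDegree χ ∧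
      ∀ A : GL (Fin 3) F, A ∉ HH F → ¬ ∀ s, ψ (σ (cA A s)) = ψ (σ s) := by
  classical
  obtain ⟨ψ, hψ, ho⟩ := exists_under (f := (commutator G).subtype) hχ
  have hdvd := (charDegree_dvd_of_over (commutator G) hχ hψ ho).1
  have hψσ : IsIrrCharacter _ (ψ ∘ σ) := isIrr_comp σ hσ hψ
  have hdeg : charDegree (ψ ∘ σ) = charDegree ψ := by
    apply charDegree_of_eq
    rw [Function.comp, map_one, coe_charDegree hψ]
  have hbig : 3 < (Fintype.card F - 1) ^ 2 * (Fintype.card F + 1) := by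
    obtain ⟨a, ha⟩ : ∃ a, Fintype.card F = a + 3 := ⟨Fintype.card F - 3, by omega⟩
    rw [ha]
    have e1 : a + 3 - 1 = a + 2 := rfl
    rw [e1]
    linarith only [Nat.zero_le (a ^ 3), _root_.sq_nonneg (↑a : ℤ), _root_.Nat.cast_nonneg (α := ℤ) (a)]
  have hmem : charDegree ψ ∈ DT (Fintype.card F) := by
    rw [← hdeg]
    exact hsl ⟨⟨ψ ∘ σ, hψσ⟩, rfl⟩
  rcases deg_cases_b h3 hm hmem hdvd with h2 | h7
  · exfalso
    have h7 : ψ 1 = 1 := by rw [← coe_charDegree hψ, h2, Nat.cast_one]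
    have h8 := eq_one_of_perfect hperf hψ h7
    subst h8
    have h9 := Cfsg.Agent.H279.CentProd.degree_one_of_over_one (N := commutator G) le_rfl hχ ho
    have h10 : charDegree χ = 1 := charDegree_of_eq (by rw [h9, Nat.cast_one])
    rw [h10] at hm
    omega
  · refine ⟨ψ, hψ, ho, h7, fun A hA hfix => ?_⟩
    obtain ⟨Φ, hΦ, h1, h2, h4⟩ := exists_gl hψσ
    have h8 := h4 A hA hfix
    rw [hdeg, h7] at h8
    exact hgl3 (charDegree Φ) ⟨⟨Φ, hΦ⟩, rfl⟩ (by rw [h8, hm])

/-- **The last step of S4855.** -/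
theorem final3b {G : Type*} [Group G] [Finite G] {F : Type} [Field F] [Fintype F] (h3 : 3 ≤ Fintype.card F)
    (hD : charDegrees G ⊆ DT (Fintype.card F))
    (ht : 3 ∣ Fintype.card F - 1 → ∀ d, 3 * d = (Fintype.card F - 1) ^ 2 * (Fintype.card F + 1) → d ∈ charDegrees G)
    (e : Nonempty (commutator G ≃* _root_.Matrix.SpecialLinearGroup (Fin 3) F) ∨
      Nonempty (commutator G ≃* ProjectiveSpecialLinearGroup (Fin 3) F))
    (hgl3 : 3 ∣ Fintype.card F - 1 → ∀ d ∈ charDegrees (GL (Fin 3) F),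
      3 * d ≠ (Fintype.card F - 1) ^ 2 * (Fintype.card F + 1))
    (hsl : charDegrees (_root_.Matrix.SpecialLinearGroup (Fin 3) F) ⊆ DT (Fintype.card F))
    (hpsl : 3 ∣ Fintype.card F - 1 → ∀ d ∈ charDegrees (ProjectiveSpecialLinearGroup (Fin 3) F),
      3 * d ≠ (Fintype.card F - 1) ^ 2 * (Fintype.card F + 1))
    (hinn : ∀ β : MulAut (ProjectiveSpecialLinearGroup (Fin 3) F),
      (∀ θ : ProjectiveSpecialLinearGroup (Fin 3) F → ℂ, IsIrrCharacter _ θ →
        (charDegree θ = (Fintype.card F - 1) ^ 2 * (Fintype.card F + 1) ∨ charDegree θ + 1 = Fintype.card F ^ 3) →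
        θ ∘ β = θ) → IsInnerDiagonalAutPSL β) :
    ∃ K A : Subgroup G, Nonempty (K ≃* _root_.Matrix.SpecialLinearGroup (Fin 3) F) ∧ IsMulCommutative A ∧
      A ≤ Subgroup.centralizer (K : Set G) ∧ K ⊔ A = ⊤ := by
  classical
  obtain ⟨σ, ρ, hσ, hρσ, hker, hchar, hor⟩ := exists_sigma e
  have hmat := exists_matrix σ ρ hρσ hker hchar h3 hD hinn
  have hperfSL : commutator (Matrix.SpecialLinearGroup (Fin 3) F) = ⊤ :=
    LieClassical.SLGen.commutator_eq_top (by rw [Fintype.card_fin])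
  have hperf : commutator (commutator G) = ⊤ := perfect_of_surj hperfSL σ hσ
  -- commutators of elements of the centralizer
  have hcomm : ∀ x ∈ Subgroup.centralizer (commutator G : Set G), ∀ y ∈ Subgroup.centralizer (commutator G : Set G),
      x * y * x⁻¹ * y⁻¹ ∈ commutator G ∧ x * y * x⁻¹ * y⁻¹ ∈ Subgroup.centralizer (commutator G : Set G) := by
    intro x hx y hy
    refine ⟨?_, ?_⟩
    · have h1 := Subgroup.commutator_mem_commutator (Subgroup.mem_top x) (Subgroup.mem_top y)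
      rwa [commutatorElement_def] at h1
    · exact Subgroup.mul_mem _ (Subgroup.mul_mem _ (Subgroup.mul_mem _ hx hy) (Subgroup.inv_mem _ hx))
        (Subgroup.inv_mem _ hy)
  have hmk : (∀ z : commutator G, z ∈ Subgroup.center (commutator G) →
      (∃ x ∈ Subgroup.centralizer (commutator G : Set G), ∃ y ∈ Subgroup.centralizer (commutator G : Set G),
        (z : G) = x * y * x⁻¹ * y⁻¹) → z = 1) →
      IsMulCommutative (Subgroup.centralizer (commutator G : Set G)) := by
    intro hz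
    refine ⟨⟨fun x y => ?_⟩⟩
    obtain ⟨h1, h2⟩ := hcomm x x.2 y y.2
    have h4 : (⟨_, h1⟩ : commutator G) ∈ Subgroup.center (commutator G) := by
      rw [Subgroup.mem_center_iff]
      intro n
      apply Subtype.ext
      exact Subgroup.mem_centralizer_iff.1 h2 n n.2
    have h5 := congrArg Subtype.val (hz ⟨_, h1⟩ h4 ⟨x, x.2, y, y.2, rfl⟩)
    apply Subtype.ext
    have h6 : (x : G) * y * (x : G)⁻¹ * (y : G)⁻¹ = 1 := h5
    rw [mul_inv_eq_one, mul_inv_eq_iff_eq_mul] at h6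
    exact h6
  by_cases hd : 3 ∣ Fintype.card F - 1
  · -- `3 ∣ q - 1`
    obtain ⟨m, hm⟩ : ∃ m, 3 * m = (Fintype.card F - 1) ^ 2 * (Fintype.card F + 1) := by
      obtain ⟨k, hk⟩ := hd
      exact ⟨k * (Fintype.card F - 1) * (Fintype.card F + 1), by
        rw [pow_two]
        nth_rewrite 2 [hk]
        ring⟩
    obtain ⟨χ, hχm⟩ := ht hd m hm
    have hχ := χ.2
    rw [← hχm] at hm
    obtain ⟨ψ, hψ, ho, hψd, hno⟩ := exists_small_b h3 (hgl3 hd) hsl hperf σ hσ hχ hm
    have hres : (χ : G → ℂ) ∘ (commutator G).subtype = ψ := eq_of_over_of_charDegree_eq hχ hψ ho hψd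
    have hirr : IsIrrCharacter (commutator G) ((χ : G → ℂ) ∘ (commutator G).subtype) := by rw [hres]; exact hψ
    -- no irreducible character of `PSL₃(F)` has degree `m`
    have hnopsl : ∀ θ : ProjectiveSpecialLinearGroup (Fin 3) F → ℂ, IsIrrCharacter _ θ → θ 1 ≠ ψ 1 := by
      intro θ hθ h1
      have h2 : charDegree θ = charDegree (χ : G → ℂ) := by
        rw [← hψd]
        apply charDegree_of_eq
        rw [h1, coe_charDegree hψ]
      exact hpsl hd (charDegree θ) ⟨⟨θ, hθ⟩, rfl⟩ (by rw [h2, hm])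
    -- `G' ≅ SL₃(F)`
    have hinj : Function.Injective σ := by
      rcases hor with h | h
      · exact h
      · exfalso
        have hρb : Function.Bijective ρ := ⟨(MonoidHom.ker_eq_bot_iff ρ).1 h, rho_surj σ ρ hρσ⟩
        let e' : commutator G ≃* ProjectiveSpecialLinearGroup (Fin 3) F := MulEquiv.ofBijective ρ hρb
        refine hnopsl (ψ ∘ e'.symm) (isIrr_comp e'.symm.toMonoidHom e'.symm.surjective hψ) ?_
        rw [Function.comp, map_one]
    let eS : _root_.Matrix.SpecialLinearGroup (Fin 3) F ≃* commutator G := MulEquiv.ofBijective σ ⟨hinj, hσ⟩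
    refine ⟨commutator G, Subgroup.centralizer (commutator G : Set G), ⟨eS.symm⟩, ?_, le_rfl, ?_⟩
    · apply hmk
      rintro z hz ⟨x, hx, y, hy, hxy⟩
      by_contra hz1
      -- `z` is in the kernel of `ψ`
      have h1 : ‖(χ : G → ℂ) x‖ = ((charDegree (χ : G → ℂ) : ℕ) : ℝ) := by
        rw [norm_of_centralizes hχ hirr hx, ← coe_charDegree hχ, Complex.norm_natCast]
      have h2 := Cfsg.Agent.CharactersDeep.NormalSylow.apply_commutator_eq hχ (coe_charDegree hχ).symm h1 y
      have h4 : ψ z = ψ 1 := by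
        rw [← hres]
        change (χ : G → ℂ) (z : G) = (χ : G → ℂ) 1
        rw [hxy, h2]
      -- the centre is in the kernel
      have ht0 : eS.symm z ∈ Subgroup.center (_root_.Matrix.SpecialLinearGroup (Fin 3) F) := by
        rw [Subgroup.mem_center_iff]
        intro s
        apply eS.injective
        rw [map_mul, map_mul, MulEquiv.apply_symm_apply]
        exact Subgroup.mem_center_iff.1 hz (eS s)
      have ht1 : eS.symm z ≠ 1 := by
        intro h
        apply hz1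
        apply eS.symm.injective
        rw [h, map_one]
      have hψS : IsIrrCharacter _ (ψ ∘ eS) := isIrr_comp eS.toMonoidHom eS.surjective hψ
      have hkerψ : Subgroup.center (_root_.Matrix.SpecialLinearGroup (Fin 3) F) ≤ Cfsg.Agent.H686.CharKit.chKer ⟨ψ ∘ eS, hψS⟩ := by
        intro s hs
        obtain ⟨k, rfl⟩ := center_gen ht0 ht1 hs
        apply Subgroup.pow_mem
        rw [Cfsg.Agent.H686.CharKit.mem_chKer]
        change ψ (eS (eS.symm z)) = ψ (eS 1)
        rw [MulEquiv.apply_symm_apply, map_one, h4]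
      obtain ⟨θ, hθ⟩ := Cfsg.Agent.H686.CharKit.exists_infl (Subgroup.center (_root_.Matrix.SpecialLinearGroup (Fin 3) F)) ⟨ψ ∘ eS, hψS⟩ hkerψ
      refine hnopsl θ.1 θ.2 ?_
      have h5 := Cfsg.Agent.H686.CharKit.infl_apply (Subgroup.center (_root_.Matrix.SpecialLinearGroup (Fin 3) F)) θ 1
      rw [hθ] at h5
      have h6 : ψ (eS 1) = θ.1 1 := h5
      rw [← h6, map_one]
    · rw [Subgroup.eq_top_iff']
      intro g
      obtain ⟨A, hA⟩ := hmat g
      refine mem_sup σ hσ hA ?_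
      by_contra hAH
      refine hno A hAH fun s => ?_
      rw [← hA s, ← hres]
      change (χ : G → ℂ) (((MulAut.conjNormal g : MulAut (commutator G)) (σ s) : commutator G) : G) =
        (χ : G → ℂ) (σ s : G)
      rw [MulAut.conjNormal_apply]
      exact isIrr_isClassFunction hχ (σ s : G) g
  · -- `3 ∤ q - 1`
    have hinj : Function.Injective σ := by
      rw [injective_iff_map_eq_one]
      intro s hs
      apply center_eq_one hd
      have h1 := hρσ s
      rw [hs, map_one] at h1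
      exact (QuotientGroup.eq_one_iff s).1 h1.symm
    let eS : _root_.Matrix.SpecialLinearGroup (Fin 3) F ≃* commutator G := MulEquiv.ofBijective σ ⟨hinj, hσ⟩
    refine ⟨commutator G, Subgroup.centralizer (commutator G : Set G), ⟨eS.symm⟩, ?_, le_rfl, ?_⟩
    · apply hmk
      rintro z hz -
      apply eS.symm.injective
      rw [map_one]
      apply center_eq_one hd
      rw [Subgroup.mem_center_iff]
      intro s
      apply eS.injective
      rw [map_mul, map_mul, MulEquiv.apply_symm_apply]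
      exact Subgroup.mem_center_iff.1 hz (eS s)
    · rw [Subgroup.eq_top_iff']
      intro g
      obtain ⟨A, hA⟩ := hmat g
      exact mem_sup σ hσ hA (mem_HH_of_not_dvd hd A)

end Cfsg.Agent.H691.T3
end

-- part: H834/T3/Count
section
/-!
# Counting the faithful characters of degree prime to `p` of a perfect central extension (helper834, task 2535)

* `card_le_of_sum` : the refined version of `H424.CentBound.card_le_centralizer`;
* `card_over_le` : `π : L → X` with central kernel `⟨c⟩` of order two; at most `|C_X(x)|` irreducible characters of `L`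
  of degree prime to `p` do not contain `c` in the kernel, `x` a `p`-element of `X`, `p` odd.
-/

set_option autoImplicit false

namespace Cfsg.Agent.H834.T3

open Cfsg Cfsg.Agent.Characters Cfsg.Agent.H424.CentBound Cfsg.Agent.H686.CharKit

universe u

/-- Refined counting bound. -/
theorem card_le_of_sum {G : Type u} [Group G] [Finite G] {p : ℕ} [Fact p.Prime] {m : ℕ} {x : G} (hx : x ^ p ^ m = 1)
    (S : Finset (IrrCharacter G)) (hS : ∀ χ ∈ S, ¬ p ∣ charDegree (χ : G → ℂ)) {c : ℕ}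
    (hc : ∀ k : ℕ, k.Coprime (Nat.card G) → ∑ χ ∈ S, ‖(χ : G → ℂ) (x ^ k)‖ ^ 2 ≤ (c : ℝ)) :
    S.card ≤ c := by
  classical
  have := Fintype.ofFinite G
  have := Core.finite_irr (G := G)
  have := Fintype.ofFinite (IrrCharacter G)
  set n := Nat.card G with hn
  let X : Finset G := (Finset.range n).image (fun i => if i.Coprime n then x ^ i else x)
  have hn0 : 0 < n := Nat.card_pos
  have hmemX : ∀ g, g ∈ X ↔ ∃ k : ℕ, k.Coprime n ∧ g = x ^ k := by
    intro g
    rw [Finset.mem_image]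
    constructor
    · rintro ⟨i, -, rfl⟩
      by_cases h : i.Coprime n
      · rw [if_pos h]; exact ⟨i, h, rfl⟩
      · rw [if_neg h]; exact ⟨1, Nat.coprime_one_left n, (pow_one x).symm⟩
    · rintro ⟨k, hk, rfl⟩
      refine ⟨k % n, Finset.mem_range.2 (Nat.mod_lt _ hn0), ?_⟩
      have h1 : (k % n).Coprime n := by
        rw [Nat.Coprime, ← Nat.gcd_rec, Nat.gcd_comm]
        exact hk
      rw [if_pos h1]
      have h2 : x ^ n = 1 := pow_card_eq_one'
      exact (pow_eq_pow_mod k h2).symm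
  have hXpow : ∀ g ∈ X, ∀ m : ℕ, m.Coprime (Nat.card G) → g ^ m ∈ X := by
    intro g hg k hk
    obtain ⟨j, hj, rfl⟩ := (hmemX g).1 hg
    exact (hmemX _).2 ⟨j * k, Nat.Coprime.mul_left hj hk, (pow_mul x j k).symm⟩
  have hXne : X.Nonempty := ⟨x, (hmemX x).2 ⟨1, Nat.coprime_one_left n, (pow_one x).symm⟩⟩
  have h1 : ∀ χ ∈ S, (X.card : ℝ) ≤ ∑ g ∈ X, ‖(χ : G → ℂ) g‖ ^ 2 := by
    intro χ hχ
    have h2 := OddOrderCharacters.PF13.SumBound.card_le_sum_sq (G := G) ({χ} : Finset (IrrCharacter G))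
      (fun χ => (χ : G → ℂ)) (fun i _ => ⟨i, 0, Core.isIrr_isCharacter i.2, Core.isCharacter_zero, by simp⟩)
      X hXpow ?_
    · simpa only [_root_.ge_iff_le, _root_.Finset.sum_singleton] using h2
    · intro g hg
      refine ⟨χ, Finset.mem_singleton_self χ, ?_⟩
      obtain ⟨j, hj, rfl⟩ := (hmemX g).1 hg
      refine apply_ne_zero (p := p) (Core.isIrr_isCharacter χ.2)
        (Blocks.Basic.irr_one_eq_charDegree χ.2) (hS χ hχ) (m := m) ?_
      rw [← pow_mul, mul_comm, pow_mul, hx, one_pow]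
  have h2 : ∀ g ∈ X, ∑ χ ∈ S, ‖(χ : G → ℂ) g‖ ^ 2 ≤ (c : ℝ) := by
    intro g hg
    obtain ⟨j, hj, rfl⟩ := (hmemX g).1 hg
    exact hc j hj
  have h3 : (S.card : ℝ) * X.card ≤ X.card * (c : ℝ) := by
    calc (S.card : ℝ) * X.card = ∑ χ ∈ S, (X.card : ℝ) := by
          rw [Finset.sum_const, nsmul_eq_mul]
      _ ≤ ∑ χ ∈ S, ∑ g ∈ X, ‖(χ : G → ℂ) g‖ ^ 2 := Finset.sum_le_sum h1
      _ = ∑ g ∈ X, ∑ χ ∈ S, ‖(χ : G → ℂ) g‖ ^ 2 := Finset.sum_comm
      _ ≤ ∑ g ∈ X, (c : ℝ) := Finset.sum_le_sum h2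
      _ = X.card * (c : ℝ) := by
          rw [Finset.sum_const, nsmul_eq_mul]
  have hXpos : (0 : ℝ) < X.card := by exact_mod_cast hXne.card_pos
  have h4 : (S.card : ℝ) ≤ (c : ℝ) := by
    rw [mul_comm] at h3
    exact le_of_mul_le_mul_left h3 hXpos
  exact_mod_cast h4

section

variable {L : Type u} [Group L] [Finite L] (Z : Subgroup L) [Z.Normal]

/-- the sum over the characters not containing `Z` in the kernel -/
theorem sum_not_le [Fintype (IrrCharacter L)] [DecidablePred fun χ : IrrCharacter L => Z ≤ chKer χ] (g : L) :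
    ∑ χ : IrrCharacter L with ¬ Z ≤ chKer χ, Complex.normSq ((χ : L → ℂ) g) =
      (Nat.card (Subgroup.centralizer ({g} : Set L)) : ℝ) -
        (Nat.card (Subgroup.centralizer ({(g : L ⧸ Z)} : Set (L ⧸ Z))) : ℝ) := by
  classical
  have : Finite (IrrCharacter (L ⧸ Z)) := Core.finite_irr
  let _ := Fintype.ofFinite (IrrCharacter (L ⧸ Z))
  have h1 := sum_normSq (G := L) g
  have h2 := sum_normSq (G := L ⧸ Z) (g : L ⧸ Z)
  have h3 : ∑ χ : IrrCharacter L with Z ≤ chKer χ, Complex.normSq ((χ : L → ℂ) g) =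
      ∑ ψ : IrrCharacter (L ⧸ Z), Complex.normSq ((ψ : L ⧸ Z → ℂ) (g : L ⧸ Z)) := by
    rw [← Finset.sum_subtype_eq_sum_filter]
    rw [Finset.subtype_univ]
    rw [← (inflEquiv Z).sum_comp]
    rfl
  have h4 := Finset.sum_filter_add_sum_filter_not Finset.univ (fun χ : IrrCharacter L => Z ≤ chKer χ)
    (fun χ => Complex.normSq ((χ : L → ℂ) g))
  rw [h3, h2, h1] at h4
  linarith

/-- the centralizer in an extension with kernel of order two -/
theorem card_centralizer_le {X : Type*} [Group X] [Finite X] (π : L →* X) (g : L) :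
    Nat.card (Subgroup.centralizer ({g} : Set L)) ≤
      Nat.card π.ker * Nat.card (Subgroup.centralizer ({π g} : Set X)) := by
  classical
  let f : Subgroup.centralizer ({g} : Set L) →* Subgroup.centralizer ({π g} : Set X) :=
    (π.comp (Subgroup.centralizer ({g} : Set L)).subtype).codRestrict _ (by
      rintro ⟨x, hx⟩
      rw [Subgroup.mem_centralizer_singleton_iff] at hx ⊢
      show π x * π g = π g * π x
      rw [← map_mul, hx, map_mul])
  have h1 := Subgroup.card_eq_card_quotient_mul_card_subgroup f.ker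
  have h2 : Nat.card (Subgroup.centralizer ({g} : Set L) ⧸ f.ker) ≤
      Nat.card (Subgroup.centralizer ({π g} : Set X)) :=
    Nat.card_le_card_of_injective _ (QuotientGroup.kerLift_injective f)
  have h3 : Nat.card f.ker ≤ Nat.card π.ker := by
    refine Nat.card_le_card_of_injective (fun x : f.ker => (⟨(x.1 : L), congrArg Subtype.val x.2⟩ : π.ker)) ?_
    intro a b hab
    have h : ((a.1 : Subgroup.centralizer ({g} : Set L)) : L) = ((b.1 : Subgroup.centralizer ({g} : Set L)) : L) :=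
      congrArg (fun z : π.ker => (z : L)) hab
    exact Subtype.ext (Subtype.ext h)
  rw [h1, mul_comm]
  exact Nat.mul_le_mul h3 h2

end

/-- `|C_{L/ker}(g)| = |C_X(π g)|` -/
theorem card_centralizer_quot {L : Type u} [Group L] {X : Type*} [Group X] {π : L →* X}
    (hπ : Function.Surjective π) (g : L) :
    Nat.card (Subgroup.centralizer ({(g : L ⧸ π.ker)} : Set (L ⧸ π.ker))) =
      Nat.card (Subgroup.centralizer ({π g} : Set X)) := by
  let e : (L ⧸ π.ker) ≃* X := QuotientGroup.quotientKerEquivOfSurjective π hπ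
  have he : e (g : L ⧸ π.ker) = π g := rfl
  refine Nat.card_congr (e.toEquiv.subtypeEquiv fun a => ?_)
  show a ∈ Subgroup.centralizer ({(g : L ⧸ π.ker)} : Set (L ⧸ π.ker)) ↔ e a ∈ Subgroup.centralizer ({π g} : Set X)
  rw [Subgroup.mem_centralizer_singleton_iff, Subgroup.mem_centralizer_singleton_iff, ← he, ← map_mul, ← map_mul]
  exact e.injective.eq_iff.symm

/-- `π : L → X` with kernel of order two, `x` a `p`-element of `X`, `p` odd: at most `|C_X(x)|` irreducible characters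
of `L` of degree prime to `p` do not contain the kernel of `π` in their kernel. -/
theorem card_over_le {L : Type u} [Group L] [Finite L] {X : Type*} [Group X] [Finite X] {π : L →* X}
    (hπ : Function.Surjective π) (hker : Nat.card π.ker = 2) {p m : ℕ} [hp : Fact p.Prime] (hp2 : p ≠ 2) {x : X}
    (hx : x ^ p ^ m = 1) (S : Finset (IrrCharacter L)) (hS : ∀ χ ∈ S, ¬ p ∣ charDegree (χ : L → ℂ))
    (hSk : ∀ χ ∈ S, ¬ π.ker ≤ chKer χ) : S.card ≤ Nat.card (Subgroup.centralizer ({x} : Set X)) := by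
  classical
  have := Core.finite_irr (G := L)
  have := Fintype.ofFinite (IrrCharacter L)
  obtain ⟨y₀, hy₀⟩ := hπ x
  have hodd : Odd (p ^ m) := (hp.out.odd_of_ne_two hp2).pow
  obtain ⟨t, ht⟩ := hodd
  have hk2 : ∀ z ∈ π.ker, z ^ 2 = 1 := by
    intro z hz
    have h1 := pow_card_eq_one' (x := (⟨z, hz⟩ : π.ker))
    rw [hker] at h1
    exact congrArg Subtype.val h1
  set! y := y₀ ^ (p ^ m + 1) with hy
  have hπy : π y = x := by rw [hy, map_pow, hy₀, pow_succ, hx, one_mul]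
  have hyp : y ^ p ^ m = 1 := by
    rw [hy, ← pow_mul, mul_comm, pow_mul, show p ^ m + 1 = 2 * (t + 1) by omega, pow_mul (y₀ ^ p ^ m)]
    rw [hk2 (y₀ ^ p ^ m) (by rw [MonoidHom.mem_ker, map_pow, hy₀, hx]), one_pow]
  refine card_le_of_sum hyp S hS fun k hk => ?_
  have h1 : ∑ χ ∈ S, ‖(χ : L → ℂ) (y ^ k)‖ ^ 2 ≤
      ∑ χ : IrrCharacter L with ¬ π.ker ≤ chKer χ, Complex.normSq ((χ : L → ℂ) (y ^ k)) := by
    simp only [Complex.normSq_eq_norm_sq]
    refine Finset.sum_le_sum_of_subset_of_nonneg (fun χ hχ => ?_) fun _ _ _ => by (clear * -; positivity)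
    exact Finset.mem_filter.2 ⟨Finset.mem_univ _, hSk χ hχ⟩
  rw [sum_not_le, card_centralizer_quot hπ] at h1
  have h2 := card_centralizer_le π (y ^ k)
  rw [hker] at h2
  have h3 : Nat.card (Subgroup.centralizer ({π (y ^ k)} : Set X)) = Nat.card (Subgroup.centralizer ({x} : Set X)) := by
    rw [map_pow, hπy, S0861.centralizer_pow_eq (n := Nat.card X) pow_card_eq_one']
    exact hk.coprime_dvd_right (Subgroup.card_dvd_of_surjective π hπ)
  rw [h3] at h1 h2
  have h4 : (Nat.card (Subgroup.centralizer ({y ^ k} : Set L)) : ℝ) ≤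
      2 * (Nat.card (Subgroup.centralizer ({x} : Set X)) : ℝ) := by exact_mod_cast h2
  linarith only [h1, h4]

end Cfsg.Agent.H834.T3
end

-- part: H834/T3/Arith
section
/-!
# The degrees of the faithful characters of a double cover of `PSL₃(4)`: arithmetic (helper834, task 2535)
-/

set_option autoImplicit false

namespace Cfsg.Agent.H834.T3

/-- exhaustive search -/
def go : List (ℕ × ℕ × ℕ × ℕ) → ℕ → ℕ → ℕ → ℕ → Bool
  | [], rem, _, b7, b3 => !(Nat.beq (rem % 100) 0) ||
      ([0, 1, 2, 3, 4, 5, 6, 7].all fun y => Nat.blt rem (400 * y) || Nat.blt b7 ((rem - 400 * y) / 100 + y) ||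
        Nat.blt b3 ((rem - 400 * y) / 100 + y))
  | (s, f5, f7, f3) :: l, rem, b5, b7, b3 => [0, 1, 2, 3, 4, 5].all fun k =>
      Nat.blt rem (k * s) || Nat.blt b5 (k * f5) || Nat.blt b7 (k * f7) || Nat.blt b3 (k * f3) ||
        go l (rem - k * s) (b5 - k * f5) (b7 - k * f7) (b3 - k * f3)

/-- the solutions -/
def Sol : List (ℕ × ℕ × ℕ × ℕ) → ℕ → ℕ → ℕ → ℕ → Prop
  | [], rem, _, b7, b3 => ∃ x y, y ≤ 7 ∧ 100 * x + 400 * y = rem ∧ x + y ≤ b7 ∧ x + y ≤ b3
  | (s, f5, f7, f3) :: l, rem, b5, b7, b3 => ∃ k rem' b5' b7' b3', k ≤ 5 ∧ rem = k * s + rem' ∧ b5 = k * f5 + b5' ∧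
      b7 = k * f7 + b7' ∧ b3 = k * f3 + b3' ∧ Sol l rem' b5' b7' b3'

theorem not_blt {a b : ℕ} (h : b ≤ a) : Nat.blt a b = false := by
  rw [← Bool.not_eq_true]
  intro h1
  have : a < b := Nat.le_of_ble_eq_true h1
  omega

theorem go_sound : ∀ (l : List (ℕ × ℕ × ℕ × ℕ)) (rem b5 b7 b3 : ℕ), go l rem b5 b7 b3 = true → ¬ Sol l rem b5 b7 b3
  | [], rem, b5, b7, b3, h => by
    rintro ⟨x, y, hy, hxy, h7, h3⟩
    rw [go, Bool.or_eq_true] at h
    rcases h with h | h
    · have h1 : rem % 100 = 0 := by omega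
      rw [h1] at h
      exact absurd h (by decide)
    · rw [List.all_eq_true] at h
      have h1 := h y (by simp only [List.mem_cons, List.not_mem_nil, or_false]; omega)
      have h2 : (rem - 400 * y) / 100 = x := by omega
      rw [h2, not_blt (show 400 * y ≤ rem by omega), not_blt h7, not_blt h3] at h1
      exact absurd h1 (by decide)
  | (s, f5, f7, f3) :: l, rem, b5, b7, b3, h => by
    rintro ⟨k, rem', b5', b7', b3', hk, h0, h5, h7, h3, hs⟩
    rw [go, List.all_eq_true] at h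
    have h1 := h k (by simp only [List.mem_cons, List.not_mem_nil, or_false]; omega)
    rw [not_blt (h0 ▸ Nat.le_add_right _ _), not_blt (h5 ▸ Nat.le_add_right _ _), not_blt (h7 ▸ Nat.le_add_right _ _),
      not_blt (h3 ▸ Nat.le_add_right _ _), Bool.false_or, Bool.false_or, Bool.false_or, Bool.false_or, h0, h5, h7, h3,
      Nat.add_sub_cancel_left, Nat.add_sub_cancel_left, Nat.add_sub_cancel_left, Nat.add_sub_cancel_left] at h1
    exact go_sound l _ _ _ _ h1 hs

/-- the data -/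
def dat : List (ℕ × ℕ × ℕ × ℕ) := [(7056, 1, 0, 0), (4096, 1, 1, 1), (1764, 1, 0, 0), (1024, 1, 1, 1), (784, 1, 0, 1),
  (256, 1, 1, 1), (196, 1, 0, 1), (144, 1, 1, 0), (64, 1, 1, 1), (36, 1, 1, 0)]

private noncomputable def _root_.Cfsg.Agent.LsF.f433089_0 : {f // @Cfsg.Agent.H834.T3.go = f} := ⟨_, by first | (delta Cfsg.Agent.H834.T3.go List.brecOn List.brecOn.go Cfsg.Agent.H834.T3.go._f; rewrite [Cfsg.Agent.LsF.nadd_pat, Cfsg.Agent.LsF.nmul_pat, Cfsg.Agent.LsF.nsub_pat, Cfsg.Agent.LsF.ndiv_pat, Cfsg.Agent.LsF.nmod_pat, Cfsg.Agent.LsF.or_eq, Cfsg.Agent.LsF.not_eq, Cfsg.Agent.LsF.all_eq]; (try delta Cfsg.Agent.H834.T3.go.match_1); (try delta List.casesOn Prod.casesOn); first | dsimp -zeta only | exact rfl) | exact rfl⟩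
set_option maxRecDepth 100000 in
theorem go_dat : go dat 20160 5 7 9 = true := by ((try (rewrite [Cfsg.Agent.LsF.f433089_0.2])); decide +kernel)

theorem Sol.step {s f5 f7 f3 k r b5 b7 b3 : ℕ} {l : List (ℕ × ℕ × ℕ × ℕ)} (hk : k ≤ 5) (h : Sol l r b5 b7 b3) :
    Sol ((s, f5, f7, f3) :: l) (k * s + r) (k * f5 + b5) (k * f7 + b7) (k * f3 + b3) :=
  ⟨k, r, b5, b7, b3, hk, rfl, rfl, rfl, rfl, h⟩

theorem Sol.cast {r b5 b7 b3 r' b5' b7' b3' : ℕ} {l : List (ℕ × ℕ × ℕ × ℕ)} (h : Sol l r b5 b7 b3) (e1 : r = r')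
    (e2 : b5 = b5') (e3 : b7 = b7') (e4 : b3 = b3') : Sol l r' b5' b7' b3' := e1 ▸ e2 ▸ e3 ▸ e4 ▸ h

set_option maxHeartbeats 2000000 in
theorem arith {a6 a8 a10 a12 a14 a16 a20 a28 a32 a42 a64 a84 : ℕ}
    (h : 36 * a6 + 64 * a8 + 100 * a10 + 144 * a12 + 196 * a14 + 256 * a16 + 400 * a20 + 784 * a28 + 1024 * a32 +
      1764 * a42 + 4096 * a64 + 7056 * a84 = 20160)
    (h5 : a6 + a8 + a12 + a14 + a16 + a28 + a32 + a42 + a64 + a84 ≤ 5)
    (h7 : a6 + a8 + a10 + a12 + a16 + a20 + a32 + a64 ≤ 7)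
    (h3 : a8 + a10 + a14 + a16 + a20 + a28 + a32 + a64 ≤ 9) : False := by
  obtain ⟨k0, k1, k2, k3, k4, k5, k6, k7, k8, k9⟩ : a84 ≤ 5 ∧ a64 ≤ 5 ∧ a42 ≤ 5 ∧ a32 ≤ 5 ∧ a28 ≤ 5 ∧ a16 ≤ 5 ∧ a14 ≤ 5 ∧ a12 ≤ 5 ∧ a8 ≤ 5 ∧ a6 ≤ 5 := by
    clear h h7 h3; omega
  obtain ⟨s5, h5⟩ := Nat.exists_eq_add_of_le h5
  obtain ⟨s7, h7⟩ := Nat.exists_eq_add_of_le h7
  obtain ⟨s3, h3⟩ := Nat.exists_eq_add_of_le h3
  have H : Sol [] (100 * a10 + 400 * a20) s5 (a10 + a20 + s7) (a10 + a20 + s3) :=
    ⟨a10, a20, by clear * - h7; omega, rfl, Nat.le_add_right _ _, Nat.le_add_right _ _⟩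
  replace H := Sol.step (s := 36) (f5 := 1) (f7 := 1) (f3 := 0) k9 H
  replace H := Sol.step (s := 64) (f5 := 1) (f7 := 1) (f3 := 1) k8 H
  replace H := Sol.step (s := 144) (f5 := 1) (f7 := 1) (f3 := 0) k7 H
  replace H := Sol.step (s := 196) (f5 := 1) (f7 := 0) (f3 := 1) k6 H
  replace H := Sol.step (s := 256) (f5 := 1) (f7 := 1) (f3 := 1) k5 H
  replace H := Sol.step (s := 784) (f5 := 1) (f7 := 0) (f3 := 1) k4 H
  replace H := Sol.step (s := 1024) (f5 := 1) (f7 := 1) (f3 := 1) k3 H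
  replace H := Sol.step (s := 1764) (f5 := 1) (f7 := 0) (f3 := 0) k2 H
  replace H := Sol.step (s := 4096) (f5 := 1) (f7 := 1) (f3 := 1) k1 H
  replace H := Sol.step (s := 7056) (f5 := 1) (f7 := 0) (f3 := 0) k0 H
  exact go_sound _ _ _ _ _ go_dat (H.cast (by clear * - h; omega) (by clear * - h5; omega) (by clear * - h7; omega)
    (by clear * - h3; omega))

end Cfsg.Agent.H834.T3
end

-- part: H834/T3/Four
section
/-!
# No double cover of `PSL₃(4)` with all degrees dividing degrees of `SL₃(4)` (helper834, task 2535)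
-/

set_option autoImplicit false

namespace Cfsg.Agent.H834.T3

open Cfsg Cfsg.Agent.Characters Cfsg.Agent.H67 Cfsg.Agent.H686.CharKit Matrix

/-- centralizers of elements of order `3`, `5`, `7` in `PSL₃(4)` -/
theorem cent_card {F : Type} [Field F] [Fintype F] (hF : Fintype.card F = 4) {r : ℕ} (hr : r = 3 ∨ r = 5 ∨ r = 7) :
    ∃ x : ProjectiveSpecialLinearGroup (Fin 3) F, x ^ r ^ 1 = 1 ∧
      Nat.card (Subgroup.centralizer ({x} : Set (ProjectiveSpecialLinearGroup (Fin 3) F))) ≤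
        (if r = 3 then 9 else r) := by
  classical
  have : Finite (ProjectiveSpecialLinearGroup (Fin 3) F) := by
    unfold Matrix.ProjectiveSpecialLinearGroup
    infer_instance
  have hX : Nat.card (ProjectiveSpecialLinearGroup (Fin 3) F) = 20160 :=
    H514.OC.L34.card_eq hF (MulEquiv.refl _)
  have hrp : r.Prime := by rcases hr with rfl | rfl | rfl <;> norm_num
  have := Fact.mk hrp
  have hrd : r ∣ Nat.card (ProjectiveSpecialLinearGroup (Fin 3) F) := by
    rw [hX]; rcases hr with rfl | rfl | rfl <;> norm_num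
  obtain ⟨x, hx⟩ := exists_prime_orderOf_dvd_card' (G := ProjectiveSpecialLinearGroup (Fin 3) F) r hrd
  refine ⟨x, by rw [pow_one, ← hx, pow_orderOf_eq_one], ?_⟩
  set C := Subgroup.centralizer ({x} : Set (ProjectiveSpecialLinearGroup (Fin 3) F)) with hC
  have h1 : ∀ s : ℕ, s.Prime → s ∣ Nat.card C → s = r := by
    intro s hs hsd
    by_contra hne
    have := Fact.mk hs
    obtain ⟨z, hz⟩ := exists_prime_orderOf_dvd_card' (G := C) s hsd
    have hzo : orderOf (z : ProjectiveSpecialLinearGroup (Fin 3) F) = s := by rw [Subgroup.orderOf_coe, hz]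
    have hcomm : Commute (z : ProjectiveSpecialLinearGroup (Fin 3) F) x :=
      Subgroup.mem_centralizer_singleton_iff.1 z.2
    have hcop : (orderOf (z : ProjectiveSpecialLinearGroup (Fin 3) F)).Coprime (orderOf x) := by
      rw [hzo, hx]; exact (Nat.coprime_primes hs hrp).2 hne
    have h2 := hcomm.orderOf_mul_eq_mul_orderOf_of_coprime hcop
    rw [hzo, hx] at h2
    have h3 := (H514.OC.L34.mem_range_iff hF (MulEquiv.refl (ProjectiveSpecialLinearGroup (Fin 3) F))
      (m := s * r)).1 ⟨_, h2⟩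
    have hs2 := hs.two_le
    rcases h3 with h | h | h | h | h | h
    · have : 2 * r ≤ s * r := Nat.mul_le_mul_right r hs2
      omega
    · have : 2 * r ≤ s * r := Nat.mul_le_mul_right r hs2
      omega
    · have : 2 * r ≤ s * r := Nat.mul_le_mul_right r hs2
      omega
    · have : 2 * r ≤ s * r := Nat.mul_le_mul_right r hs2
      omega
    · have : 2 * r ≤ s * r := Nat.mul_le_mul_right r hs2
      omega
    · rcases hr with rfl | rfl | rfl
      · omega
      · omega
      · omega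
  have hC0 : Nat.card C ≠ 0 := Nat.card_pos.ne'
  have h2 : Nat.card C = r ^ (Nat.card C).primeFactorsList.length :=
    Nat.eq_prime_pow_of_unique_prime_dvd hC0 fun {d} hd hdd => h1 d hd hdd
  have h3 : Nat.card C ∣ 20160 := by rw [← hX]; exact Subgroup.card_subgroup_dvd_card C
  set k := (Nat.card C).primeFactorsList.length
  rcases hr with rfl | rfl | rfl
  · rw [if_pos rfl, h2]
    have hk : k ≤ 2 := by
      by_contra hk
      have h4 : (3 : ℕ) ^ 3 ∣ 20160 := (pow_dvd_pow 3 (by omega : 3 ≤ k)).trans (h2 ▸ h3)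
      norm_num at h4
    calc 3 ^ k ≤ 3 ^ 2 := Nat.pow_le_pow_right (by norm_num) hk
      _ = 9 := by norm_num
  · rw [if_neg (by norm_num), h2]
    have hk : k ≤ 1 := by
      by_contra hk
      have h4 : (5 : ℕ) ^ 2 ∣ 20160 := (pow_dvd_pow 5 (by omega : 2 ≤ k)).trans (h2 ▸ h3)
      norm_num at h4
    calc 5 ^ k ≤ 5 ^ 1 := Nat.pow_le_pow_right (by norm_num) hk
      _ = 5 := by norm_num
  · rw [if_neg (by norm_num), h2]
    have hk : k ≤ 1 := by
      by_contra hk
      have h4 : (7 : ℕ) ^ 2 ∣ 20160 := (pow_dvd_pow 7 (by omega : 2 ≤ k)).trans (h2 ▸ h3)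
      norm_num at h4
    calc 7 ^ k ≤ 7 ^ 1 := Nat.pow_le_pow_right (by norm_num) hk
      _ = 7 := by norm_num

/-- `End(ℂⁿ)ˣ ≃ GL_n(ℂ)` -/
noncomputable def toGL (n : ℕ) : (Module.End ℂ (Fin n → ℂ))ˣ ≃* GL (Fin n) ℂ :=
  Units.mapEquiv (LinearMap.toMatrixAlgEquiv' (R := ℂ) (n := Fin n)).toMulEquiv

/-- A faithful irreducible character of a double cover of `PSL₃(4)` has degree at least 5. -/
theorem five_le {F : Type} [Field F] [Fintype F] (hF : Fintype.card F = 4) {L : Type} [Group L] [Finite L]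
    {π : L →* ProjectiveSpecialLinearGroup (Fin 3) F} {c : L} (hd : PCov 2 π c) {θ : L → ℂ}
    (hθ : IsIrrCharacter L θ) (hc : θ c ≠ θ 1) : 5 ≤ charDegree θ := by
  classical
  have hs : IsSimpleGroup (ProjectiveSpecialLinearGroup (Fin 3) F) := S0249.result 3 le_rfl
  obtain ⟨n, ρ, hρ, rfl⟩ := hθ
  have hn : charDegree ρ.character = n := by
    have hdeg := Cfsg.Agent.Blocks.Basic.irr_one_eq_charDegree (χ := ρ.character) ⟨n, ρ, hρ, rfl⟩
    rw [Representation.char_one, Module.finrank_fin_fun] at hdeg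
    exact_mod_cast hdeg.symm
  rw [hn]
  refine H755.Leo.bd_psl34 hF n ⟨L, inferInstance, π, (toGL n).toMonoidHom.comp (MonoidHom.toHomUnits ρ), hd.surj, ?_, ?_, ?_⟩
  · intro x hx y
    exact hd.comm_of_pi hx y
  · rw [hd.card_ker Nat.prime_two]; decide
  · set K := ((toGL n).toMonoidHom.comp (MonoidHom.toHomUnits ρ)).ker with hK
    have hKn : (K.map π).Normal := Subgroup.Normal.map inferInstance π hd.surj
    rcases hKn.eq_bot_or_eq_top with h | h
    · rw [Subgroup.map_eq_bot_iff] at h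
      exact h
    · exfalso
      have h1 : K = ⊤ := H67.Cross.eq_top_of_perfect' hd h
      have h2 : c ∈ K := by rw [h1]; trivial
      have h3 : MonoidHom.toHomUnits ρ c = 1 := by
        have : (toGL n) (MonoidHom.toHomUnits ρ c) = 1 := h2
        rwa [map_eq_one_iff _ (toGL n).injective] at this
      have h4 : ρ c = 1 := congrArg Units.val h3
      apply hc
      show LinearMap.trace ℂ _ (ρ c) = LinearMap.trace ℂ _ (ρ 1)
      rw [h4, map_one ρ]

/-- sum over the fibres of the degree -/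
theorem sum_split {ι : Type*} (A : Finset ι) (d : ι → ℕ) (T : Finset ℕ) (h : ∀ i ∈ A, d i ∈ T) (f : ℕ → ℕ) :
    ∑ i ∈ A, f (d i) = ∑ m ∈ T, (A.filter (fun i => d i = m)).card * f m := by
  rw [← Finset.sum_fiberwise_of_maps_to h]
  refine Finset.sum_congr rfl fun m _ => ?_
  rw [Finset.sum_congr rfl (g := fun _ => f m) (fun i hi => by rw [(Finset.mem_filter.1 hi).2]), Finset.sum_const,
    smul_eq_mul]

theorem card_split {ι : Type*} (A : Finset ι) (d : ι → ℕ) (T : Finset ℕ) (h : ∀ i ∈ A, d i ∈ T) (r : ℕ) :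
    (A.filter (fun i => ¬ r ∣ d i)).card = ∑ m ∈ T, (A.filter (fun i => d i = m)).card * (if r ∣ m then 0 else 1) := by
  rw [← sum_split A d T h (fun m => if r ∣ m then 0 else 1), Finset.card_filter]
  refine Finset.sum_congr rfl fun i _ => ?_
  by_cases hi : r ∣ d i
  · simp [hi]
  · simp [hi]

/-- the possible degrees -/
theorem mem_list {d e : ℕ} (h5 : 5 ≤ d) (h2 : 2 ∣ d) (hde : d ∣ e) (he : e ∈ Cfsg.Agent.H691.T3.DT 4) :
    d ∈ ({6, 8, 10, 12, 14, 16, 20, 28, 32, 42, 64, 84} : Finset ℕ) := by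
  have he' : e = 1 ∨ e = 20 ∨ e = 64 ∨ e = 63 ∨ e = 45 ∨ e = 21 ∨ e = 84 ∨ e = 35 ∨ e = 15 := by
    rcases he with h | h | h | h | h | ⟨-, h | h⟩ | ⟨h, -⟩ | ⟨-, h | h⟩ <;> (clear * - h; omega)
  have hlt : d ≤ 84 := by
    have : d ≤ e := Nat.le_of_dvd (by omega) hde
    omega
  rcases he' with rfl | rfl | rfl | rfl | rfl | rfl | rfl | rfl | rfl
  all_goals first
    | (exfalso; obtain ⟨k, hk⟩ := h2.trans hde; (clear * - hk; omega))
    | (clear he hlt; have hlt := Nat.le_of_dvd (by norm_num) hde; interval_cases d <;>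
        first | decide | (exfalso; (clear * - h2 hde; omega)))

/-- **No double cover of `PSL₃(4)` with all degrees dividing degrees of `SL₃(4)`.** -/
theorem no_two {F : Type} [Field F] [Fintype F] (hF : Fintype.card F = 4) {L : Type} [Group L] [Finite L]
    {π : L →* ProjectiveSpecialLinearGroup (Fin 3) F} {c : L} (hd : PCov 2 π c)
    (hdeg : ∀ θ : L → ℂ, IsIrrCharacter L θ → ∃ e ∈ Cfsg.Agent.H691.T3.DT 4, charDegree θ ∣ e) : False := by
  classical
  have hfin : Finite (ProjectiveSpecialLinearGroup (Fin 3) F) := by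
    unfold Matrix.ProjectiveSpecialLinearGroup
    infer_instance
  have hX : Nat.card (ProjectiveSpecialLinearGroup (Fin 3) F) = 20160 :=
    H514.OC.L34.card_eq hF (MulEquiv.refl _)
  have := Core.finite_irr (G := L)
  have := Fintype.ofFinite (IrrCharacter L)
  have hker := hd.card_ker Nat.prime_two
  have hQ : Nat.card (L ⧸ π.ker) = 20160 := by
    rw [Nat.card_congr (QuotientGroup.quotientKerEquivOfSurjective π hd.surj).toEquiv, hX]
  have hL : Nat.card L = 40320 := by
    rw [Subgroup.card_eq_card_quotient_mul_card_subgroup π.ker, hQ, hker]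
  let A : Finset (IrrCharacter L) := Finset.univ.filter fun χ => ¬ π.ker ≤ chKer χ
  have hAmem : ∀ χ ∈ A, ¬ π.ker ≤ chKer χ := fun χ hχ => (Finset.mem_filter.1 hχ).2
  have hAc : ∀ χ ∈ A, (χ : L → ℂ) c ≠ (χ : L → ℂ) 1 := by
    intro χ hχ h
    apply hAmem χ hχ
    rw [hd.ker_eq, Subgroup.zpowers_le]
    exact h
  have hT : ∀ χ ∈ A, charDegree (χ : L → ℂ) ∈ ({6, 8, 10, 12, 14, 16, 20, 28, 32, 42, 64, 84} : Finset ℕ) := by
    intro χ hχ
    obtain ⟨e, he, hde⟩ := hdeg χ χ.2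
    exact mem_list (five_le hF hd χ.2 (hAc χ hχ))
      (H686.SLNine.dvd_of_perfect hd.perf hd.cen Nat.prime_two hd.pow χ.2 (hAc χ hχ)) hde he
  -- sum of squares
  have hsum : ∑ χ ∈ A, charDegree (χ : L → ℂ) ^ 2 = 20160 := by
    have h1 := sum_not_le π.ker (1 : L)
    have h2 := card_centralizer_quot hd.surj (1 : L)
    have h3 : ∀ {Y : Type} [Group Y], Nat.card (Subgroup.centralizer ({(1 : Y)} : Set Y)) = Nat.card Y := by
      intro Y _
      have : Subgroup.centralizer ({(1 : Y)} : Set Y) = ⊤ := by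
        rw [eq_top_iff]
        intro x _
        rw [Subgroup.mem_centralizer_singleton_iff, mul_one, one_mul]
      rw [this, Nat.card_congr Subgroup.topEquiv.toEquiv]
    rw [h2, h3, map_one, h3, hL, hX] at h1
    have h4 : ((∑ χ ∈ A, charDegree (χ : L → ℂ) ^ 2 : ℕ) : ℝ) = 20160 := by
      rw [Nat.cast_sum]
      have h5 : ∀ χ ∈ A, ((charDegree (χ : L → ℂ) ^ 2 : ℕ) : ℝ) = Complex.normSq ((χ : L → ℂ) 1) := by
        intro χ _
        rw [← charDegree_irr χ, Complex.normSq_natCast, Nat.cast_pow, sq]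
      rw [Finset.sum_congr rfl h5]
      rw [h1]; norm_num
    exact_mod_cast h4
  have hcnt : ∀ r : ℕ, (r = 3 ∨ r = 5 ∨ r = 7) →
      (A.filter (fun χ : IrrCharacter L => ¬ r ∣ charDegree (χ : L → ℂ))).card ≤ if r = 3 then 9 else r := by
    intro r hr
    have hrp : r.Prime := by rcases hr with rfl | rfl | rfl <;> norm_num
    have := Fact.mk hrp
    obtain ⟨x, hx, hxc⟩ := cent_card hF hr
    refine le_trans (card_over_le hd.surj hker (by rcases hr with rfl | rfl | rfl <;> norm_num) hx _ ?_ ?_) hxc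
    · intro χ hχ
      exact (Finset.mem_filter.1 hχ).2
    · intro χ hχ
      exact hAmem χ (Finset.mem_filter.1 hχ).1
  have h3 := hcnt 3 (by simp)
  have h5 := hcnt 5 (by simp)
  have h7 := hcnt 7 (by simp)
  rw [card_split A _ _ hT] at h3 h5 h7
  rw [sum_split A _ _ hT (fun m => m ^ 2)] at hsum
  obtain ⟨N, hN⟩ : ∃ N : ℕ → ℕ, ∀ m, (A.filter (fun i : IrrCharacter L => charDegree (i : L → ℂ) = m)).card = N m :=
    ⟨_, fun _ => rfl⟩
  simp only [hN] at hsum h3 h5 h7
  norm_num only [_root_.Finset.mem_insert, _root_.Finset.mem_singleton, _root_.or_self, _root_.not_false_eq_true, _root_.Finset.sum_insert, _root_.Finset.sum_singleton, _root_.mul_ite, _root_.MulZeroClass.mul_zero, _root_.mul_one, _root_.ite_true, _root_.ite_false, _root_.add_zero, _root_.zero_add] at hsum h3 h5 h7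
  exact arith (a6 := N 6) (a8 := N 8) (a10 := N 10) (a12 := N 12) (a14 := N 14) (a16 := N 16) (a20 := N 20)
    (a28 := N 28) (a32 := N 32) (a42 := N 42) (a64 := N 64) (a84 := N 84)
    (by rw [← hsum]; ring) (by linarith only [h5]) (by linarith only [h7]) (by linarith only [h3])

end Cfsg.Agent.H834.T3
end

-- part: H834/T3/Cover
section
/-!
# `cover3` : perfect central extensions of `PSL₃(q)` with all degrees dividing degrees of `SL₃(q)`
(helper834, task 2535, for S4855)
-/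

set_option autoImplicit false

namespace Cfsg.Agent.H834.T3

open Cfsg Cfsg.Agent.Characters Cfsg.Agent.H67 Cfsg.Agent.H686.CharKit Cfsg.Agent.H686 Matrix Cfsg.Agent.H691.T3
open scoped commutatorElement

/-- an irreducible character of `N` has degree dividing a degree of `G` -/
theorem exists_dvd {G : Type*} [Group G] [Finite G] (N : Subgroup G) [N.Normal] {θ : N → ℂ}
    (hθ : IsIrrCharacter N θ) : ∃ d ∈ charDegrees G, charDegree θ ∣ d := by
  obtain ⟨χ, hχ, h⟩ := Cfsg.Agent.H672.exists_over_subtype N hθ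
  exact ⟨charDegree χ, ⟨⟨χ, hχ⟩, rfl⟩, (Cfsg.Agent.H672.charDegree_dvd_of_over N hχ hθ h).1⟩

/-- inflation keeps the degree -/
theorem charDegree_comp {A B : Type*} [Group A] [Finite A] [Group B] [Finite B] (f : A →* B)
    (hf : Function.Surjective f) {θ : B → ℂ} (hθ : IsIrrCharacter B θ) : charDegree (θ ∘ f) = charDegree θ := by
  have e1 := charDegree_irr (⟨θ ∘ f, Core.isIrr_comp f hf hθ⟩ : IrrCharacter A)
  have e2 := charDegree_irr (⟨θ, hθ⟩ : IrrCharacter B)
  have e3 : (θ ∘ f) 1 = θ 1 := by simp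
  have e4 : ((charDegree (θ ∘ f) : ℕ) : ℂ) = ((charDegree θ : ℕ) : ℂ) := by
    rw [e1, e2]; exact e3
  exact_mod_cast e4

/-- no double cover, all universes -/
theorem no_two' {F : Type*} [Field F] [Fintype F] (hF : Fintype.card F = 4) {L : Type*} [Group L] [Finite L]
    {π : L →* ProjectiveSpecialLinearGroup (Fin 3) F} {c : L} (hd : PCov 2 π c)
    (hdeg : ∀ θ : L → ℂ, IsIrrCharacter L θ → ∃ e ∈ DT 4, charDegree θ ∣ e) : False := by
  have h3 : Fact (Nat.Prime 2) := ⟨by norm_num⟩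
  let K : Type := GaloisField 2 2
  let _ : Fintype K := Fintype.ofFinite K
  have hKc : Fintype.card K = 4 := by
    rw [← Nat.card_eq_fintype_card]
    exact (GaloisField.card 2 2 (by norm_num)).trans (by norm_num)
  let eF : F ≃+* K := FiniteField.ringEquivOfCardEq (by rw [hF, hKc])
  have : Small.{0} L := by
    obtain ⟨n, ⟨e⟩⟩ := Finite.exists_equiv_fin L
    exact small_map e
  let e : L ≃* Shrink.{0} L := (Shrink.mulEquiv (α := L)).symm
  have : Finite (Shrink.{0} L) := Finite.of_equiv L e.toEquiv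
  refine no_two hKc (hd.of_equiv e (Cfsg.Agent.LieClassical.FieldTransfer.pslCongr eF)) ?_
  intro θ hθ
  obtain ⟨d, hd, hdd⟩ := hdeg (θ ∘ e.toMonoidHom) (Core.isIrr_comp e.toMonoidHom e.surjective hθ)
  rw [charDegree_comp e.toMonoidHom e.surjective hθ] at hdd
  exact ⟨d, hd, hdd⟩

/-- **Task 2535.** -/
theorem cover3 {G : Type*} [Group G] [Finite G] {F : Type*} [Field F] [Fintype F]
    (h3 : 3 ≤ Fintype.card F) (hD : charDegrees G ⊆ DT (Fintype.card F)) (N R : Subgroup G) [N.Normal] [R.Normal]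
    (hRN : R ≤ N) (hN : ⁅N, N⁆ = N) (hR : R ≤ Subgroup.centralizer (N : Set G))
    (e : (N ⧸ R.subgroupOf N) ≃* ProjectiveSpecialLinearGroup (Fin 3) F) :
    Nonempty (N ≃* _root_.Matrix.SpecialLinearGroup (Fin 3) F) ∨ Nonempty (N ≃* ProjectiveSpecialLinearGroup (Fin 3) F) := by
  classical
  have _ := hRN
  have hNp : commutator N = ⊤ := by
    have h1 : (commutator N).map N.subtype = ⁅N, N⁆ := Subgroup.map_subtype_commutator N
    rw [hN] at h1
    rw [eq_top_iff]
    intro x _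
    have h2 : (x : G) ∈ (commutator N).map N.subtype := by rw [h1]; exact x.2
    obtain ⟨y, hy, hyx⟩ := h2
    have : y = x := Subtype.ext hyx
    rwa [← this]
  let f : N →* ProjectiveSpecialLinearGroup (Fin 3) F :=
    e.toMonoidHom.comp (QuotientGroup.mk' (R.subgroupOf N))
  have hf : Function.Surjective f := e.surjective.comp (QuotientGroup.mk'_surjective _)
  have hfc : f.ker ≤ Subgroup.center N := by
    intro x hx
    have h1 : e (QuotientGroup.mk x) = 1 := hx
    have h2 : (QuotientGroup.mk x : N ⧸ R.subgroupOf N) = 1 := by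
      rwa [EmbeddingLike.map_eq_one_iff] at h1
    have h3 : (x : G) ∈ R := (QuotientGroup.eq_one_iff x).1 h2
    have h4 := Subgroup.mem_centralizer_iff.1 (hR h3)
    rw [Subgroup.mem_center_iff]
    intro y
    exact Subtype.ext (h4 y y.2)
  have hSp : commutator (_root_.Matrix.SpecialLinearGroup (Fin 3) F) = ⊤ := S0248.result 3 le_rfl
  have hcardF : Nat.card F = Fintype.card F := Nat.card_eq_fintype_card
  obtain ⟨η, hη, hfη⟩ := SLCover.exists_surj hNp hSp f hf hfc
    (QuotientGroup.mk' (Subgroup.center (_root_.Matrix.SpecialLinearGroup (Fin 3) F))) (QuotientGroup.mk'_surjective _)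
    (by rw [QuotientGroup.ker_mk']) (by
      intro r hr hdvd
      by_cases h4 : Fintype.card F = 4
      · have hchar : CharP F 2 := by
          obtain ⟨p, hp⟩ := CharP.exists F
          obtain ⟨k, hpp, hk⟩ := FiniteField.card F p
          have h6 : p ∣ 2 ^ 2 := by
            rw [show (2 : ℕ) ^ 2 = Fintype.card F by rw [h4]; norm_num, hk]
            exact dvd_pow_self p k.pos.ne'
          have h7 : p = 2 := (Nat.prime_dvd_prime_iff_eq hpp (by norm_num)).1 (hpp.dvd_of_dvd_pow h6)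
          rwa [← h7]
        by_cases hr2 : r = 2
        · exfalso
          subst hr2
          obtain ⟨L, _, _, q, π, c, hq, -, hd⟩ := exists_pcov hr hNp hf hfc hdvd
          refine no_two' h4 hd ?_
          intro θ hθ
          obtain ⟨d, hd', hdd⟩ := exists_dvd N (Core.isIrr_comp q hq hθ)
          rw [charDegree_comp q hq hθ] at hdd
          rw [h4] at hD
          exact ⟨d, hD hd', hdd⟩
        · exact H60.CrossA.noPCov_SL_cross 2 2 hr hr2
      · exact H60.MultA.noPCov_SL ⟨by norm_num, fun h => absurd h (by norm_num), by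
          simp only [Set.mem_insert_iff, Set.mem_singleton_iff, Prod.mk.injEq, not_or, not_and]
          refine ⟨by norm_num, by norm_num, fun _ => by omega, fun _ => by omega, by norm_num⟩⟩ hr)
  -- the kernel of `η` is contained in the centre, of order 1 or 3
  have hker : η.ker ≤ Subgroup.center (_root_.Matrix.SpecialLinearGroup (Fin 3) F) := by
    intro x hx
    have h1 : f (η x) = QuotientGroup.mk' (Subgroup.center (_root_.Matrix.SpecialLinearGroup (Fin 3) F)) x :=
      DFunLike.congr_fun hfη x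
    rw [hx, map_one] at h1
    exact (QuotientGroup.eq_one_iff x).1 h1.symm
  have hcen : Nat.card (Subgroup.center (_root_.Matrix.SpecialLinearGroup (Fin 3) F)) ∣ 3 := by
    have h1 := Nat.card_congr (SpecialLinearGroup.center_equiv_rootsOfUnity' (R := F) (0 : Fin 3)).toEquiv
    rw [h1, Fintype.card_fin, ← IsCyclic.exponent_eq_card]
    refine Monoid.exponent_dvd_of_forall_pow_eq_one fun x => ?_
    apply Subtype.ext
    exact (mem_rootsOfUnity 3 _).1 x.2
  by_cases hb : η.ker = ⊥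
  · left
    exact ⟨(MulEquiv.ofBijective η ⟨(MonoidHom.ker_eq_bot_iff η).1 hb, hη⟩).symm⟩
  · right
    have h1 : η.ker = Subgroup.center (_root_.Matrix.SpecialLinearGroup (Fin 3) F) := by
      refine Subgroup.eq_of_le_of_card_ge hker ?_
      have h2 : Nat.card η.ker ∣ 3 := (Subgroup.card_dvd_of_le hker).trans hcen
      rcases (Nat.dvd_prime Nat.prime_three).1 h2 with h | h
      · exact absurd (Subgroup.eq_bot_of_card_eq _ h) hb
      · rw [h]
        exact Nat.le_of_dvd (by norm_num) hcen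
    exact ⟨((QuotientGroup.quotientMulEquivOfEq h1.symm).trans
      (QuotientGroup.quotientKerEquivOfSurjective η hη)).symm⟩

end Cfsg.Agent.H834.T3
end

private theorem dce_add34dfd84d8 : _root_.True := by
  try have : _root_.True := by simp only [_root_.Cfsg.Agent.H462.T3.sc.eq_1]
  try have : _root_.True := by simp only [_root_.Cfsg.Agent.H686.CharKit.chKer.congr_simp]
  try have : _root_.True := by simp only [_root_.Cfsg.Agent.H834.T3.go.eq_def]
  try have : _root_.True := by simp only [_root_.Cfsg.Agent.H834.T3.go.eq_2]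
  try have : _root_.True := by simp only [_root_.Cfsg.Agent.H834.T3.go.eq_1]
  try have : _root_.True := by simp only [_root_.Cfsg.Agent.H462.T3.HH.eq_1]
  try have : _root_.True := by simp only [_root_.Cfsg.Agent.H834.T3.dat.eq_1]
  exact _root_.True.intro
end

-- part: H142/T3/Third_mg
section
prune_inst 0xc00042500a00000000002504800020104c00010010040000008008000000000000004800048021094022000000000000000000800000000000200000000005010800000040c00000000010000180000000000000300000000000000000000000200000002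
set_option linter.all false
open scoped Cfsg.Agent.FastGrp

-- part: H142/T3/Col
section
/-!
# Column sums over a TI-subgroup modulo the centre (helper142, S4855)

`Dat T z N` : `T` is a subgroup of order `N` prime to 3, `z` is central of order 3, the nonidentity elements of `T` have
centralizers of order `3 N` and exactly three conjugates in `T`. For every `ω` with `ω³ = 1` let `I ω` be the set of the
irreducible characters with `χ z = ω χ 1`, and `m χ = ∑ χ t`, `t ∈ T`, `t ≠ 1`. Then (`Dat.main`) `m χ` is an integer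
divisible by 3, `N ∣ m χ + χ 1`, `∑ (m χ)² = 3 N (N - 1)` and `∑ m χ · χ 1 = 0` (sums over `I ω`).
-/

set_option autoImplicit false
set_option linter.unusedSectionVars false

namespace Cfsg.Agent.H142.T3

open Cfsg Cfsg.Agent.Characters Cfsg.Agent.H686.CharKit
open scoped ComplexConjugate Classical

universe u

/-- The situation. -/
structure Dat {G : Type u} [Group G] (T : Subgroup G) (z : G) (N : ℕ) : Prop where
  card : Nat.card T = N
  central : ∀ g : G, g * z = z * g
  z3 : z ^ 3 = 1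
  cop : ¬ 3 ∣ N
  cent : ∀ t ∈ T, t ≠ 1 → Nat.card (Subgroup.centralizer ({t} : Set G)) = 3 * N
  cls : ∀ t ∈ T, t ≠ 1 → Nat.card {s : G // s ∈ T ∧ IsConj t s} = 3

section

variable {G : Type u} [Group G] [Finite G]

/-- the sum over the nonidentity elements of `T` -/
noncomputable def msum (T : Subgroup G) [Fintype T] (χ : G → ℂ) : ℂ := ∑ t ∈ Finset.univ.filter (fun t : T => t ≠ 1), χ t

theorem msum_add (T : Subgroup G) [Fintype T] (χ : G → ℂ) : msum T χ + χ 1 = ∑ t : T, χ t := by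
  have h := Finset.sum_filter_add_sum_filter_not (Finset.univ : Finset T) (fun t : T => t ≠ 1) (fun t => χ (t : G))
  rw [← h]
  have h1 : (Finset.univ.filter fun t : T => ¬ t ≠ 1) = {1} := by
    ext t
    simp only [_root_.ne_eq, _root_.Decidable.not_not, _root_.Finset.mem_filter, _root_.Finset.mem_univ, _root_.true_and, _root_.Finset.mem_singleton]
  rw [h1, Finset.sum_singleton]
  rfl

/-- `m χ = N c - χ 1` -/
theorem exists_msum (T : Subgroup G) [Fintype T] {χ : G → ℂ} (hχ : IsCharacter G χ) :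
    ∃ c : ℕ, msum T χ = (Nat.card T : ℂ) * c - χ 1 := by
  obtain ⟨c, hc⟩ := Core.classInner_isNat (Core.isCharacter_comp T.subtype hχ) (Core.isCharacter_one (G := T))
  refine ⟨c, ?_⟩
  have hT : (Nat.card T : ℂ) ≠ 0 := by exact_mod_cast Nat.card_pos.ne'
  have h1 : classInner (χ ∘ T.subtype) 1 = (Nat.card T : ℂ)⁻¹ * ∑ t : T, χ t := by
    show (Nat.card T : ℂ)⁻¹ * ∑ t : T, χ t * conj (1 : ℂ) = _
    simp only [_root_.Nat.card_eq_fintype_card, _root_.map_one, _root_.mul_one]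
  rw [eq_sub_iff_add_eq, msum_add, ← hc, h1, mul_inv_cancel_left₀ hT]

theorem conj_msum (T : Subgroup G) [Fintype T] {χ : G → ℂ} (hχ : IsCharacter G χ) : conj (msum T χ) = msum T χ := by
  obtain ⟨c, hc⟩ := exists_msum T hχ
  obtain ⟨d, hd⟩ := Core.isCharacter_apply_one hχ
  rw [hc, hd]
  simp only [_root_.Nat.card_eq_fintype_card, _root_.map_sub, _root_.map_mul, _root_.map_natCast]

namespace Dat

variable {T : Subgroup G} {z : G} {N : ℕ} (D : Dat T z N)

include D

theorem pow_eq_one {t : G} (ht : t ∈ T) : t ^ N = 1 := by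
  have h := pow_card_eq_one' (x := (⟨t, ht⟩ : T))
  rw [D.card] at h
  exact congrArg Subtype.val h

theorem zpow_eq_one {j : ℕ} (hj : j < 3) (h : (z ^ j) ^ N = 1) (hz : z ≠ 1) : j = 0 := by
  by_contra hj0
  have h3 : orderOf z = 3 := orderOf_eq_prime D.z3 hz
  rw [← pow_mul] at h
  have h1 := orderOf_dvd_of_pow_eq_one h
  rw [h3] at h1
  rcases (Nat.Prime.dvd_mul Nat.prime_three).1 h1 with h2 | h2
  · have := Nat.le_of_dvd (by omega) h2
    omega
  · exact D.cop h2

/-- `z^j g` is conjugate to `h` only if `j = 0` -/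
theorem eq_zero_of_isConj (hz : z ≠ 1) {g h : G} (hg : g ∈ T) (hh : h ∈ T) {j : ℕ} (hj : j < 3)
    (hc : IsConj (z ^ j * g) h) : j = 0 := by
  apply D.zpow_eq_one hj ?_ hz
  have h1 : (z ^ j * g) ^ N = 1 := by
    obtain ⟨x, hx⟩ := isConj_iff.1 hc
    have h2 : x * (z ^ j * g) ^ N * x⁻¹ = 1 := by
      rw [← conj_pow, hx, D.pow_eq_one hh]
    have h3 : (z ^ j * g) ^ N = x⁻¹ * (x * (z ^ j * g) ^ N * x⁻¹) * x := by group
    rw [h3, h2]; group
  have hcomm : Commute (z ^ j) g := Commute.pow_left (D.central g).symm j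
  rw [hcomm.mul_pow, D.pow_eq_one hg, mul_one] at h1
  exact h1

/-- the scalar of the central element -/
theorem exists_scalar {χ : G → ℂ} (hχ : IsIrrCharacter G χ) :
    ∃ c : ℂ, c ^ 3 = 1 ∧ χ z = c * χ 1 ∧ ∀ g, χ (z * g) = c * χ g := by
  have h1 := Core.isIrr_apply_one_ne_zero hχ
  have h2 : ∀ g, χ (z * g) = (χ z / χ 1) * χ g := by
    intro g
    have h := Blocks.CentralInvolutionCount.apply_central_mul hχ D.central g
    field_simp
    rw [h]
  refine ⟨χ z / χ 1, ?_, by field_simp, h2⟩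
  have h3 : χ (z ^ 3) = (χ z / χ 1) ^ 3 * χ 1 := by
    have e : z ^ 3 = z * (z * (z * 1)) := by rw [mul_one, pow_succ, pow_two, mul_assoc]
    rw [e, h2, h2, h2]; ring
  rw [D.z3] at h3
  have h4 : ((χ z / χ 1) ^ 3 - 1) * χ 1 = 0 := by
    rw [sub_mul, one_mul, ← h3, sub_self]
  rcases mul_eq_zero.1 h4 with h5 | h5
  · exact sub_eq_zero.1 h5
  · exact absurd h5 h1

end Dat

/-- The irreducible characters over the central character `z ↦ ω`. -/
noncomputable def Ix [Fintype (IrrCharacter G)] (z : G) (ω : ℂ) : Finset (IrrCharacter G) :=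
  Finset.univ.filter fun χ => (χ : G → ℂ) z = ω * (χ : G → ℂ) 1

theorem mem_Ix [Fintype (IrrCharacter G)] {z : G} {ω : ℂ} {χ : IrrCharacter G} :
    χ ∈ Ix z ω ↔ (χ : G → ℂ) z = ω * (χ : G → ℂ) 1 := by
  unfold Ix
  rw [Finset.mem_filter]
  exact ⟨fun h => h.2, fun h => ⟨Finset.mem_univ _, h⟩⟩

namespace Dat

variable {T : Subgroup G} {z : G} {N : ℕ} (D : Dat T z N)

include D

/-- the projection -/
theorem sum_proj [Fintype (IrrCharacter G)] {ω : ℂ} (hω : ω ^ 3 = 1) (χ : IrrCharacter G) (g : G) :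
    ∑ j ∈ Finset.range 3, (ω ^ 2) ^ j * (χ : G → ℂ) (z ^ j * g) = if χ ∈ Ix z ω then 3 * (χ : G → ℂ) g else 0 := by
  obtain ⟨c, hc3, hc1, hc⟩ := D.exists_scalar χ.2
  have h1 := Core.isIrr_apply_one_ne_zero χ.2
  have hp : ∀ j : ℕ, (χ : G → ℂ) (z ^ j * g) = c ^ j * (χ : G → ℂ) g := by
    intro j
    induction j with
    | zero => rw [pow_zero, pow_zero, one_mul, one_mul]
    | succ j ih => rw [pow_succ', mul_assoc, hc, ih, pow_succ']; ring
  have h2 : ∑ j ∈ Finset.range 3, (ω ^ 2) ^ j * (χ : G → ℂ) (z ^ j * g) =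
      (1 + ω ^ 2 * c + (ω ^ 2 * c) ^ 2) * (χ : G → ℂ) g := by
    rw [Finset.sum_range_succ, Finset.sum_range_succ, Finset.sum_range_one, hp, hp, hp]
    ring
  rw [h2]
  by_cases hI : χ ∈ Ix z ω
  · rw [if_pos hI]
    rw [mem_Ix, hc1] at hI
    have h3 : c = ω := mul_right_cancel₀ h1 hI
    have h4 : ω ^ 2 * c = 1 := by rw [h3, ← hω]; ring
    rw [h4]; ring
  · rw [if_neg hI]
    have h3 : ω ^ 2 * c ≠ 1 := by
      intro h
      apply hI
      rw [mem_Ix, hc1]
      have h4 : c = ω := by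
        calc c = ω ^ 3 * c := by rw [hω, one_mul]
          _ = ω * (ω ^ 2 * c) := by ring
          _ = ω := by rw [h, mul_one]
      rw [h4]
    have h4 : (ω ^ 2 * c) ^ 3 = 1 := by
      rw [mul_pow, hc3, ← pow_mul, mul_comm 2 3, pow_mul, hω, one_pow, one_mul]
    have h5 : (ω ^ 2 * c - 1) * (1 + ω ^ 2 * c + (ω ^ 2 * c) ^ 2) = 0 := by
      have : (ω ^ 2 * c - 1) * (1 + ω ^ 2 * c + (ω ^ 2 * c) ^ 2) = (ω ^ 2 * c) ^ 3 - 1 := by ring
      rw [this, h4, sub_self]
    rcases mul_eq_zero.1 h5 with h6 | h6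
    · exact absurd (sub_eq_zero.1 h6) h3
    · rw [h6, zero_mul]

/-- **Column orthogonality over a central character.** -/
theorem orth [Fintype (IrrCharacter G)] (hz : z ≠ 1) {ω : ℂ} (hω : ω ^ 3 = 1) {g h : G} (hg : g ∈ T) (hh : h ∈ T)
    (h1 : h ≠ 1) :
    ∑ χ ∈ Ix z ω, (χ : G → ℂ) g * conj ((χ : G → ℂ) h) = if IsConj g h then (N : ℂ) else 0 := by
  have e1 : ∑ χ ∈ Ix z ω, (3 : ℂ) * ((χ : G → ℂ) g * conj ((χ : G → ℂ) h)) =
      ∑ j ∈ Finset.range 3, (ω ^ 2) ^ j * ∑ χ : IrrCharacter G, (χ : G → ℂ) (z ^ j * g) * conj ((χ : G → ℂ) h) := by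
    calc ∑ χ ∈ Ix z ω, (3 : ℂ) * ((χ : G → ℂ) g * conj ((χ : G → ℂ) h)) =
        ∑ χ : IrrCharacter G, (if χ ∈ Ix z ω then 3 * (χ : G → ℂ) g else 0) * conj ((χ : G → ℂ) h) := by
          rw [← Finset.sum_filter_add_sum_filter_not (Finset.univ : Finset (IrrCharacter G)) (fun χ => χ ∈ Ix z ω)
            (fun χ => (if χ ∈ Ix z ω then 3 * (χ : G → ℂ) g else 0) * conj ((χ : G → ℂ) h))]
          have e2 : ∑ χ ∈ Finset.univ.filter (fun χ => ¬ χ ∈ Ix z ω),
              (if χ ∈ Ix z ω then 3 * (χ : G → ℂ) g else 0) * conj ((χ : G → ℂ) h) = 0 := by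
            refine Finset.sum_eq_zero fun χ hχ => ?_
            rw [if_neg (Finset.mem_filter.1 hχ).2, zero_mul]
          rw [e2, add_zero]
          have e3 : Finset.univ.filter (fun χ : IrrCharacter G => χ ∈ Ix z ω) = Ix z ω := by
            ext χ; simp only [_root_.Finset.subset_univ, _root_.Finset.filter_mem_eq_of_subset]
          rw [e3]
          refine Finset.sum_congr rfl fun χ hχ => ?_
          rw [if_pos hχ]; ring
      _ = ∑ χ : IrrCharacter G, (∑ j ∈ Finset.range 3, (ω ^ 2) ^ j * (χ : G → ℂ) (z ^ j * g)) *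
            conj ((χ : G → ℂ) h) := by
          refine Finset.sum_congr rfl fun χ _ => ?_
          rw [D.sum_proj hω]
      _ = _ := by
          simp only [Finset.sum_mul, Finset.mul_sum]
          rw [Finset.sum_comm]
          refine Finset.sum_congr rfl fun j _ => Finset.sum_congr rfl fun χ _ => ?_
          ring
  have e2 : ∑ j ∈ Finset.range 3, (ω ^ 2) ^ j * ∑ χ : IrrCharacter G, (χ : G → ℂ) (z ^ j * g) * conj ((χ : G → ℂ) h)
      = if IsConj g h then (3 * N : ℂ) else 0 := by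
    rw [Finset.sum_eq_single 0]
    · rw [pow_zero, one_mul, pow_zero, one_mul, col_orth, D.cent h hh h1]
      push_cast
      rfl
    · intro j hj hj0
      rw [col_orth, if_neg, mul_zero]
      intro hc
      exact hj0 (D.eq_zero_of_isConj hz hg hh (Finset.mem_range.1 hj) hc)
    · intro h0
      exact absurd (Finset.mem_range.2 (by norm_num)) h0
  rw [← Finset.mul_sum] at e1
  rw [e2] at e1
  have h3 : (3 : ℂ) ≠ 0 := by norm_num
  refine mul_left_cancel₀ h3 (e1.trans ?_)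
  split_ifs
  · rfl
  · rw [mul_zero]

/-- the number of the conjugates -/
theorem card_fiber [Fintype T] {t : T} (ht : t ≠ 1) :
    ((Finset.univ.filter fun s : T => s ≠ 1).filter fun s : T => ConjClasses.mk (s : G) = ConjClasses.mk (t : G)).card = 3 := by
  have ht' : (t : G) ≠ 1 := fun h => ht (Subtype.ext h)
  rw [← D.cls t t.2 ht', ← Fintype.card_coe, ← Nat.card_eq_fintype_card]
  refine Nat.card_congr ⟨fun s => ⟨(s.1 : G), s.1.2, ?_⟩, fun s => ⟨⟨s.1, s.2.1⟩, ?_⟩, fun s => rfl, fun s => rfl⟩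
  · have h := (Finset.mem_filter.1 s.2).2
    exact (ConjClasses.mk_eq_mk_iff_isConj.1 h).symm
  · rw [Finset.mem_filter, Finset.mem_filter]
    refine ⟨⟨Finset.mem_univ _, ?_⟩, ConjClasses.mk_eq_mk_iff_isConj.2 s.2.2.symm⟩
    intro h
    apply ht'
    have h1 : s.1 = 1 := congrArg Subtype.val h
    have h2 := s.2.2
    rw [h1, isConj_comm] at h2
    exact isConj_one_right.1 h2

/-- `m χ` is divisible by 3 -/
theorem three_dvd [Fintype T] {χ : G → ℂ} (hχ : IsCharacter G χ) {m : ℤ} (hm : msum T χ = m) : 3 ∣ m := by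
  let f : T → ConjClasses G := fun t => ConjClasses.mk (t : G)
  have hcf := Core.isCharacter_isClassFunction hχ
  have h1 : msum T χ = ∑ t ∈ Finset.univ.filter (fun t : T => t ≠ 1), Core.toClass G χ (f t) := by
    refine Finset.sum_congr rfl fun t _ => ?_
    rw [Core.toClass_mk hcf]
  rw [Finset.sum_comp (fun c => Core.toClass G χ c) f] at h1
  have h2 : ∑ c ∈ (Finset.univ.filter fun t : T => t ≠ 1).image f,
      ((Finset.univ.filter fun t : T => t ≠ 1).filter fun s : T => f s = c).card • Core.toClass G χ c =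
      3 * ∑ c ∈ (Finset.univ.filter fun t : T => t ≠ 1).image f, Core.toClass G χ c := by
    rw [Finset.mul_sum]
    refine Finset.sum_congr rfl fun c hc => ?_
    obtain ⟨t, ht, rfl⟩ := Finset.mem_image.1 hc
    rw [D.card_fiber (Finset.mem_filter.1 ht).2, nsmul_eq_mul]
    norm_num
  rw [h2, hm] at h1
  have h3 : IsIntegral ℤ (∑ c ∈ (Finset.univ.filter fun t : T => t ≠ 1).image f, Core.toClass G χ c) :=
    IsIntegral.sum _ fun c _ => GaloisBasic.isIntegral_apply hχ _
  obtain ⟨k, hk⟩ := GaloisBasic.exists_int_of_isIntegral h3 ⟨(m : ℚ) / 3, by push_cast; rw [h1]; field_simp⟩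
  rw [hk] at h1
  exact ⟨k, by exact_mod_cast h1⟩

/-- **The numbers `m χ`.** -/
theorem main [Fintype (IrrCharacter G)] (hz : z ≠ 1) {ω : ℂ} (hω : ω ^ 3 = 1) :
    ∃ m : IrrCharacter G → ℤ, (∀ χ, (N : ℤ) ∣ m χ + charDegree (χ : G → ℂ) ∧ 3 ∣ m χ) ∧
      ∑ χ ∈ Ix z ω, m χ ^ 2 = 3 * N * (N - 1) ∧ ∑ χ ∈ Ix z ω, m χ * charDegree (χ : G → ℂ) = 0 := by
  have : Fintype T := Fintype.ofFinite T
  have hex : ∀ χ : IrrCharacter G, ∃ m : ℤ, msum T (χ : G → ℂ) = m ∧ (N : ℤ) ∣ m + charDegree (χ : G → ℂ) := by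
    intro χ
    obtain ⟨c, hc⟩ := exists_msum T (Core.isIrr_isCharacter χ.2)
    refine ⟨(N : ℤ) * c - charDegree (χ : G → ℂ), ?_, ⟨c, by ring⟩⟩
    rw [hc, D.card]
    push_cast
    rw [charDegree_irr]
  choose m hm hN using hex
  have hc : Nat.card T = N := D.card
  have hcard : (Finset.univ.filter fun t : T => t ≠ 1).card + 1 = N := by
    have h1 : (Finset.univ.filter fun t : T => t ≠ 1) = Finset.univ.erase 1 := by ext t; simp only [_root_.ne_eq, _root_.Finset.mem_filter, _root_.Finset.mem_univ, _root_.true_and, _root_.Finset.mem_erase, _root_.and_true]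
    rw [h1, Finset.card_erase_of_mem (Finset.mem_univ _), Finset.card_univ, ← Nat.card_eq_fintype_card, hc]
    have : 0 < N := hc ▸ Nat.card_pos
    omega
  have hsum : ∀ g ∈ T, ∑ χ ∈ Ix z ω, (χ : G → ℂ) g * (m χ : ℂ) =
      ∑ t ∈ Finset.univ.filter (fun t : T => t ≠ 1), if IsConj g (t : G) then (N : ℂ) else 0 := by
    intro g hg
    have h1 : ∀ χ ∈ Ix z ω, (χ : G → ℂ) g * (m χ : ℂ) =
        ∑ t ∈ Finset.univ.filter (fun t : T => t ≠ 1), (χ : G → ℂ) g * conj ((χ : G → ℂ) (t : G)) := by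
      intro χ _
      rw [← Finset.mul_sum, ← hm χ, ← conj_msum T (Core.isIrr_isCharacter χ.2)]
      unfold msum
      rw [map_sum]
    rw [Finset.sum_congr rfl h1, Finset.sum_comm]
    refine Finset.sum_congr rfl fun t ht => ?_
    exact D.orth hz hω hg t.2 fun h => (Finset.mem_filter.1 ht).2 (Subtype.ext h)
  refine ⟨m, fun χ => ⟨hN χ, D.three_dvd (Core.isIrr_isCharacter χ.2) (hm χ)⟩, ?_, ?_⟩
  · have h1 : ∑ χ ∈ Ix z ω, ((m χ : ℂ)) ^ 2 = 3 * N * (N - 1) := by
      have h2 : ∀ χ ∈ Ix z ω, ((m χ : ℂ)) ^ 2 =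
          ∑ g ∈ Finset.univ.filter (fun t : T => t ≠ 1), (χ : G → ℂ) (g : G) * (m χ : ℂ) := by
        intro χ _
        rw [← Finset.sum_mul, pow_two]
        congr 1
        exact (hm χ).symm
      rw [Finset.sum_congr rfl h2, Finset.sum_comm]
      have h3 : ∀ g ∈ Finset.univ.filter (fun t : T => t ≠ 1),
          ∑ χ ∈ Ix z ω, (χ : G → ℂ) (g : G) * (m χ : ℂ) = 3 * N := by
        intro g hg
        rw [hsum g g.2, ← Finset.sum_filter, Finset.sum_const]
        have h4 : ((Finset.univ.filter fun t : T => t ≠ 1).filter fun t : T => IsConj (g : G) (t : G)) =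
            (Finset.univ.filter fun t : T => t ≠ 1).filter fun s : T =>
              ConjClasses.mk (s : G) = ConjClasses.mk (g : G) := by
          refine Finset.filter_congr fun t _ => ?_
          rw [ConjClasses.mk_eq_mk_iff_isConj, isConj_comm]
        rw [h4, D.card_fiber (Finset.mem_filter.1 hg).2, nsmul_eq_mul]
        norm_num
      rw [Finset.sum_congr rfl h3, Finset.sum_const, nsmul_eq_mul]
      have h5 : ((Finset.univ.filter fun t : T => t ≠ 1).card : ℂ) = N - 1 := by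
        rw [← hcard]; push_cast; ring
      rw [h5]; ring
    exact_mod_cast h1
  · have h1 := hsum 1 T.one_mem
    have h2 : ∑ t ∈ Finset.univ.filter (fun t : T => t ≠ 1), (if IsConj (1 : G) (t : G) then (N : ℂ) else 0) = 0 := by
      refine Finset.sum_eq_zero fun t ht => ?_
      rw [if_neg]
      intro h
      apply (Finset.mem_filter.1 ht).2
      rw [isConj_comm] at h
      exact Subtype.ext (isConj_one_left.1 h)
    rw [h2] at h1
    have h3 : ∑ χ ∈ Ix z ω, (m χ : ℂ) * (charDegree (χ : G → ℂ) : ℂ) = 0 := by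
      rw [← h1]
      refine Finset.sum_congr rfl fun χ _ => ?_
      rw [charDegree_irr, mul_comm]
    exact_mod_cast h3

end Dat

end

end Cfsg.Agent.H142.T3
end

-- part: H142/T3/Torus
section
/-!
# The Singer torus of `SL₃(F)` (helper142, S4855)

`exists_dat` : for `q = |F| ≡ 1 mod 3`, `q² + q + 1 = 3 N`, the group `SL₃(F)` has a subgroup `T` of order `N` and a central
element `z` of order 3 with `Dat T z N`.
-/

set_option autoImplicit false
set_option linter.unusedSectionVars false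

namespace Cfsg.Agent.H142.T3

open Matrix Polynomial Module

universe u

theorem div_eq {q : ℕ} (hq : 1 < q) : (q ^ 3 - 1) / (q - 1) = q ^ 2 + q + 1 := by
  obtain ⟨k, rfl⟩ : ∃ k, q = k + 2 := ⟨q - 2, by omega⟩
  have e : (k + 2) ^ 3 - 1 = ((k + 2) ^ 2 + (k + 2) + 1) * (k + 2 - 1) := by
    have h2 : k + 2 - 1 = k + 1 := by omega
    rw [h2]
    have h3 : ((k + 2) ^ 2 + (k + 2) + 1) * (k + 1) + 1 = (k + 2) ^ 3 := by ring
    omega
  rw [e]
  exact Nat.mul_div_cancel _ (by omega)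

section Alg

variable {F E : Type*} [Field F] [Field E] [Algebra F E] [FiniteDimensional F E] (b : Basis (Fin 3) F E)

/-- the regular representation -/
noncomputable abbrev Mx : E →ₐ[F] Matrix (Fin 3) (Fin 3) F := Algebra.leftMulMatrix b

theorem Mx_injective : Function.Injective (Mx b) := Algebra.leftMulMatrix_injective b

include b in
theorem finrank_E : finrank F E = 3 := by
  rw [finrank_eq_card_basis b, Fintype.card_fin]

include b in
theorem top_of_mem {x : E} (hx : x ∉ Set.range (algebraMap F E)) {S : Subalgebra F E} (hS : x ∈ S) : S = ⊤ := by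
  have := Subalgebra.isSimpleOrder_of_finrank_prime F E (by rw [finrank_E b]; exact Nat.prime_three)
  rcases eq_bot_or_eq_top S with h | h
  · exfalso
    rw [h, Algebra.mem_bot] at hS
    exact hx hS
  · exact h

/-- **The centralizer of a nonscalar element.** -/
theorem mem_of_comm {x : E} (hx : x ∉ Set.range (algebraMap F E)) {g : Matrix (Fin 3) (Fin 3) F}
    (h : g * Mx b x = Mx b x * g) : ∃ e : E, g = Mx b e := by
  have h1 : ∀ y : E, g * Mx b y = Mx b y * g := by
    let S : Subalgebra F E := (Subalgebra.centralizer F {g}).comap (Mx b)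
    have hS : S = ⊤ := by
      apply top_of_mem b hx
      rw [Subalgebra.mem_comap, Subalgebra.mem_centralizer_iff]
      rintro _ rfl
      exact h
    intro y
    have hy : y ∈ S := by rw [hS]; trivial
    rw [Subalgebra.mem_comap, Subalgebra.mem_centralizer_iff] at hy
    exact hy g rfl
  let φ : E →ₗ[F] E := Matrix.toLin b b g
  have hφ : ∀ y v : E, φ (y * v) = y * φ v := by
    intro y v
    have h2 := congrArg (Matrix.toLin b b) (h1 y)
    rw [Matrix.toLin_mul b b b, Matrix.toLin_mul b b b, Algebra.leftMulMatrix_apply, Matrix.toLin_toMatrix] at h2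
    exact LinearMap.congr_fun h2 v
  refine ⟨φ 1, ?_⟩
  apply (Matrix.toLin b b).injective
  rw [Algebra.leftMulMatrix_apply, Matrix.toLin_toMatrix]
  ext y
  show φ y = φ 1 * y
  have := hφ y 1
  rw [mul_one] at this
  rw [this, mul_comm]

/-- an element annihilated by the minimal polynomial -/
theorem aeval_of_conj {x y : E} {g h : Matrix (Fin 3) (Fin 3) F} (hgh : h * g = 1) (hc : g * Mx b x * h = Mx b y) :
    aeval y (minpoly F x) = 0 := by
  have h1 : ∀ P : F[X], aeval (Mx b y) P = g * aeval (Mx b x) P * h := by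
    have hgh' : g * h = 1 := mul_eq_one_comm.1 hgh
    intro P
    have h2 : ∀ n : ℕ, (Mx b y) ^ n = g * (Mx b x) ^ n * h := by
      intro n
      induction n with
      | zero => rw [pow_zero, pow_zero, mul_one, hgh']
      | succ n ih =>
        rw [pow_succ, ih, ← hc, pow_succ]
        calc g * Mx b x ^ n * h * (g * Mx b x * h) = g * Mx b x ^ n * (h * g) * Mx b x * h := by noncomm_ring
          _ = _ := by rw [hgh]; noncomm_ring
    induction P using Polynomial.induction_on' with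
    | add P Q hP hQ => rw [map_add, map_add, hP, hQ]; noncomm_ring
    | monomial n a =>
      rw [aeval_monomial, aeval_monomial, h2]
      rw [Algebra.algebraMap_eq_smul_one, smul_mul_assoc, one_mul, smul_mul_assoc, one_mul, Matrix.mul_smul,
        Matrix.smul_mul]
  have h2 : aeval (Mx b x) (minpoly F x) = 0 := by
    rw [aeval_algHom_apply, minpoly.aeval, map_zero]
  have h3 : aeval (Mx b y) (minpoly F x) = 0 := by rw [h1, h2]; simp
  rw [aeval_algHom_apply] at h3
  exact Mx_injective b (h3.trans (map_zero _).symm)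

end Alg

section Fin

variable {F : Type} [Field F] [Finite F] (p : ℕ) [Fact p.Prime] [CharP F p]

/-- the cubic extension -/
abbrev EE : Type := FiniteField.Extension F p 3

instance : Finite (EE (F := F) p) := Module.finite_of_finite F

theorem card_EE : Nat.card (EE (F := F) p) = Nat.card F ^ 3 := FiniteField.natCard_extension F p 3

variable (b : Basis (Fin 3) F (EE (F := F) p))

/-- the algebra homomorphism into the matrices -/
theorem isConj_cases {x y : EE (F := F) p} {g h : Matrix (Fin 3) (Fin 3) F} (hgh : h * g = 1)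
    (hc : g * Mx b x * h = Mx b y) : y = x ∨ y = x ^ Nat.card F ∨ y = x ^ (Nat.card F ^ 2) := by
  have h1 := aeval_of_conj b hgh hc
  obtain ⟨σ, hσ⟩ := minpoly.exists_algEquiv_of_root' (K := F) (L := EE (F := F) p)
    (Algebra.IsAlgebraic.isAlgebraic x) h1
  obtain ⟨i, hi, rfl⟩ := FiniteField.Extension.exists_frob_pow_eq F p 3 σ
  rw [FiniteField.Extension.frob_iterate_apply] at hσ
  interval_cases i
  · left; rw [← hσ, pow_zero, pow_one]
  · right; left; rw [← hσ, pow_one]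
  · right; right; exact hσ.symm

/-- conjugation by the Frobenius map, with determinant one -/
theorem exists_conj (x : EE (F := F) p) : ∃ g : _root_.Matrix.SpecialLinearGroup (Fin 3) F,
    (g : Matrix (Fin 3) (Fin 3) F) * Mx b x = Mx b (x ^ Nat.card F) * (g : Matrix (Fin 3) (Fin 3) F) := by
  let φ := FiniteField.Extension.frob F p 3
  let P : Matrix (Fin 3) (Fin 3) F := LinearMap.toMatrix b b φ.toLinearMap
  let P' : Matrix (Fin 3) (Fin 3) F := LinearMap.toMatrix b b φ.symm.toLinearMap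
  have hPP : P * P' = 1 := by
    rw [← LinearMap.toMatrix_comp b b b]
    have : φ.toLinearMap ∘ₗ φ.symm.toLinearMap = LinearMap.id := by
      ext y
      show φ (φ.symm y) = y
      exact φ.apply_symm_apply y
    rw [this, LinearMap.toMatrix_id]
  have hdet : P.det ≠ 0 := by
    intro h
    have h1 := congrArg Matrix.det hPP
    rw [Matrix.det_mul, h, zero_mul, Matrix.det_one] at h1
    exact zero_ne_one h1
  have hP : P * Mx b x = Mx b (x ^ Nat.card F) * P := by
    rw [Algebra.leftMulMatrix_apply, Algebra.leftMulMatrix_apply, ← LinearMap.toMatrix_comp b b b,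
      ← LinearMap.toMatrix_comp b b b]
    congr 1
    ext y
    show φ (x * y) = x ^ Nat.card F * φ y
    rw [map_mul]
    congr 1
    exact FiniteField.Extension.frob_apply F p 3
  obtain ⟨e, he⟩ := FiniteField.norm_surjective F (EE (F := F) p) (P.det)⁻¹
  rw [Algebra.norm_eq_matrix_det b] at he
  refine ⟨⟨Mx b e * P, by rw [Matrix.det_mul, he, inv_mul_cancel₀ hdet]⟩, ?_⟩
  show Mx b e * P * Mx b x = Mx b (x ^ Nat.card F) * (Mx b e * P)
  rw [mul_assoc, hP, ← mul_assoc, ← mul_assoc, ← map_mul, ← map_mul, mul_comm e]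

/-- the units with `u ^ (q² + q + 1) = 1` have norm one -/
theorem det_Mx {u : (EE (F := F) p)ˣ} (hu : u ^ (Nat.card F ^ 2 + Nat.card F + 1) = 1) :
    (Mx b (u : EE (F := F) p)).det = 1 := by
  rw [← Algebra.norm_eq_matrix_det b]
  apply (algebraMap F (EE (F := F) p)).injective
  rw [FiniteField.algebraMap_norm_eq_pow, map_one, card_EE]
  have hF : 1 < Nat.card F := Finite.one_lt_card
  rw [div_eq hF, ← Units.val_pow_eq_pow_val, hu, Units.val_one]

/-- the torus -/
noncomputable def tor (n : ℕ) (hn : n ∣ Nat.card F ^ 2 + Nat.card F + 1) :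
    (powMonoidHom n : (EE (F := F) p)ˣ →* (EE (F := F) p)ˣ).ker →* _root_.Matrix.SpecialLinearGroup (Fin 3) F where
  toFun u := ⟨Mx b ((u : (EE (F := F) p)ˣ) : EE (F := F) p), det_Mx p b (by
    obtain ⟨k, hk⟩ := hn
    have h1 : (u : (EE (F := F) p)ˣ) ^ n = 1 := u.2
    rw [hk, pow_mul, h1, one_pow])⟩
  map_one' := Subtype.ext (by
    show Mx b ((1 : (EE (F := F) p)ˣ) : EE (F := F) p) = 1
    rw [Units.val_one, map_one])
  map_mul' u v := Subtype.ext (by
    show Mx b (((u * v : _) : (EE (F := F) p)ˣ) : EE (F := F) p) = _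
    rw [Subgroup.coe_mul, Units.val_mul, map_mul]
    rfl)

theorem coe_tor (n : ℕ) (hn : n ∣ Nat.card F ^ 2 + Nat.card F + 1)
    (u : (powMonoidHom n : (EE (F := F) p)ˣ →* (EE (F := F) p)ˣ).ker) :
    ((tor p b n hn u : _root_.Matrix.SpecialLinearGroup (Fin 3) F) : Matrix (Fin 3) (Fin 3) F) =
      Mx b ((u : (EE (F := F) p)ˣ) : EE (F := F) p) := rfl

theorem tor_injective (n : ℕ) (hn : n ∣ Nat.card F ^ 2 + Nat.card F + 1) : Function.Injective (tor p b n hn) := by
  intro u v h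
  apply Subtype.ext
  apply Units.ext
  apply Mx_injective b
  rw [← coe_tor p b n hn, ← coe_tor p b n hn, h]

theorem card_ker (n : ℕ) (hn : n ∣ Nat.card F ^ 2 + Nat.card F + 1) :
    Nat.card (powMonoidHom n : (EE (F := F) p)ˣ →* (EE (F := F) p)ˣ).ker = n := by
  rw [IsCyclic.card_powMonoidHom_ker, Nat.card_units, card_EE]
  apply Nat.gcd_eq_right
  refine hn.trans ⟨Nat.card F - 1, ?_⟩
  have hF : 1 < Nat.card F := Finite.one_lt_card
  generalize Nat.card F = q at *
  obtain ⟨k, rfl⟩ : ∃ k, q = k + 2 := ⟨q - 2, by omega⟩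
  have h2 : k + 2 - 1 = k + 1 := by omega
  rw [h2]
  have h3 : ((k + 2) ^ 2 + (k + 2) + 1) * (k + 1) + 1 = (k + 2) ^ 3 := by ring
  omega

include p in
/-- **The configuration in `SL₃(F)`.** -/
theorem exists_dat {N k : ℕ} (hq : Nat.card F = 3 * k + 1) (hN : N = 3 * k ^ 2 + 3 * k + 1) :
    ∃ (T : Subgroup (_root_.Matrix.SpecialLinearGroup (Fin 3) F)) (z : _root_.Matrix.SpecialLinearGroup (Fin 3) F), Dat T z N ∧ z ≠ 1 := by
  have hF : 1 < Nat.card F := Finite.one_lt_card
  have hk : 0 < k := by omega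
  have hn : Nat.card F ^ 2 + Nat.card F + 1 = 3 * N := by rw [hq, hN]; ring
  have hNn : N ∣ Nat.card F ^ 2 + Nat.card F + 1 := by rw [hn]; exact dvd_mul_left _ _
  obtain b : Basis (Fin 3) F (EE (F := F) p) :=
    (Module.finBasis F (EE (F := F) p)).reindex (finCongr (FiniteField.finrank_extension F p 3))
  -- nonscalar elements
  have hns : ∀ u : (EE (F := F) p)ˣ, u ^ N = 1 → u ≠ 1 → (u : EE (F := F) p) ∉ Set.range (algebraMap F (EE (F := F) p)) := by
    rintro u hu hu1 ⟨a, ha⟩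
    have ha0 : a ≠ 0 := by
      rintro rfl
      rw [map_zero] at ha
      exact u.ne_zero ha.symm
    have : Fintype F := Fintype.ofFinite F
    have h1 : a ^ (Nat.card F - 1) = 1 := by
      rw [Nat.card_eq_fintype_card]
      exact FiniteField.pow_card_sub_one_eq_one a ha0
    have h2 : u ^ (Nat.card F - 1) = 1 := by
      apply Units.ext
      rw [Units.val_pow_eq_pow_val, ← ha, ← map_pow, h1, map_one, Units.val_one]
    have h3 : u ^ Nat.gcd N (Nat.card F - 1) = 1 := pow_gcd_eq_one.2 ⟨hu, h2⟩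
    have h4 : Nat.gcd N (Nat.card F - 1) = 1 := by
      rw [hq, hN]
      have e : 3 * k ^ 2 + 3 * k + 1 = 1 + (3 * k + 1 - 1) * (k + 1) := by
        rw [Nat.add_sub_cancel]; ring
      rw [e]
      simp only [_root_.add_tsub_cancel_right, _root_.dvd_mul_right, _root_.Nat.gcd_add_right_left_of_dvd, _root_.Nat.gcd_one_left]
    rw [h4, pow_one] at h3
    exact hu1 h3
  -- the Frobenius map on the torus
  have hfr : ∀ u : (EE (F := F) p)ˣ, u ^ N = 1 → u ≠ 1 → u ^ Nat.card F ≠ u ∧ u ^ (Nat.card F ^ 2) ≠ u ∧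
      u ^ (Nat.card F ^ 2) ≠ u ^ Nat.card F := by
    intro u hu hu1
    have h0 : ∀ m : ℕ, Nat.Coprime N m → u ^ m = 1 → False := by
      intro m hm h
      have h3 : u ^ Nat.gcd N m = 1 := pow_gcd_eq_one.2 ⟨hu, h⟩
      rw [hm, pow_one] at h3
      exact hu1 h3
    have h1 : u ^ (3 * k) ≠ 1 := by
      refine fun h => h0 _ ?_ h
      rw [hN]
      have e : 3 * k ^ 2 + 3 * k + 1 = 1 + (3 * k) * (k + 1) := by ring
      rw [e]
      simp
    have h2 : u ^ ((3 * k) * (3 * k + 2)) ≠ 1 := by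
      -- 3 N = (3k)(3k+2) + (3k+3)... : use `u^(3N) = 1`
      intro h
      have h3 : u ^ (3 * k + 3) = 1 := by
        have h4 : u ^ (3 * N) = 1 := by rw [mul_comm, pow_mul, hu, one_pow]
        have e : 3 * N = (3 * k) * (3 * k + 2) + (3 * k + 3) := by rw [hN]; ring
        rw [e, pow_add, h, one_mul] at h4
        exact h4
      refine h0 _ ?_ h3
      rw [hN]
      have e : 3 * k ^ 2 + 3 * k + 1 = 1 + (3 * k + 3) * k := by ring
      rw [e]
      simp
    refine ⟨?_, ?_, ?_⟩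
    · rw [hq, pow_succ]
      intro h
      exact h1 (mul_eq_right.1 h)
    · intro h
      apply h2
      have e : Nat.card F ^ 2 = (3 * k) * (3 * k + 2) + 1 := by rw [hq]; ring
      rw [e, pow_succ] at h
      exact mul_eq_right.1 h
    · intro h
      have e : Nat.card F ^ 2 = Nat.card F * Nat.card F := pow_two _
      rw [e, pow_mul] at h
      have h5 : u ^ Nat.card F = (u ^ Nat.card F) ^ (3 * k) * u ^ Nat.card F := by
        rw [← pow_succ, ← hq, h]
      have h6 : (u ^ Nat.card F) ^ (3 * k) = 1 := (mul_eq_right.1 h5.symm)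
      have h7 : u ^ (Nat.card F * (3 * k)) = 1 := by rw [pow_mul, h6]
      refine h0 _ ?_ h7
      rw [hN, hq]
      apply Nat.Coprime.mul_right
      · have e : 3 * k ^ 2 + 3 * k + 1 = (3 * k + 1) + (3 * k ^ 2) := by ring
        rw [e, Nat.coprime_self_add_left]
        apply Nat.Coprime.mul_left
        · rw [Nat.coprime_comm]; simp
        · apply Nat.Coprime.pow_left
          rw [Nat.coprime_comm]; simp
      · have e : 3 * k ^ 2 + 3 * k + 1 = 1 + (3 * k) * (k + 1) := by ring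
        rw [e]
        simp
  obtain ⟨ζ, hζ3, hζ1⟩ : ∃ ζ : F, ζ ^ 3 = 1 ∧ ζ ≠ 1 := by
    have h3 : 3 ∣ Nat.card Fˣ := by
      rw [Nat.card_units, hq, Nat.add_sub_cancel]
      exact dvd_mul_right _ _
    have : Fact (Nat.Prime 3) := ⟨Nat.prime_three⟩
    obtain ⟨ζ, hζ⟩ := exists_prime_orderOf_dvd_card' 3 h3
    refine ⟨ζ, ?_, ?_⟩
    · have h4 := pow_orderOf_eq_one ζ
      rw [hζ] at h4
      rw [← Units.val_pow_eq_pow_val, h4, Units.val_one]
    · intro h
      have h4 : ζ = 1 := Units.ext h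
      rw [h4, orderOf_one] at hζ
      norm_num at hζ
  let z : _root_.Matrix.SpecialLinearGroup (Fin 3) F := ⟨Matrix.scalar (Fin 3) ζ, by
    rw [Matrix.scalar_apply, Matrix.det_diagonal, Fin.prod_univ_three, ← hζ3]; ring⟩
  have hzc : ∀ A : Matrix (Fin 3) (Fin 3) F, A * (z : Matrix (Fin 3) (Fin 3) F) = (z : Matrix (Fin 3) (Fin 3) F) * A :=
    fun A => (Matrix.scalar_commute ζ (fun r' => mul_comm _ _) A).symm
  let T := (tor p b N hNn).range
  have hmem : ∀ u : (EE (F := F) p)ˣ, u ^ N = 1 → ∃ t : _root_.Matrix.SpecialLinearGroup (Fin 3) F, t ∈ T ∧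
      (t : Matrix (Fin 3) (Fin 3) F) = Mx b (u : EE (F := F) p) := fun u hu => ⟨_, ⟨⟨u, hu⟩, rfl⟩, rfl⟩
  refine ⟨T, z, ⟨?_, ?_, ?_, ?_, ?_, ?_⟩, ?_⟩
  · rw [← card_ker (F := F) p N hNn]
    exact (Nat.card_congr (MonoidHom.ofInjective (tor_injective p b N hNn)).toEquiv).symm
  · intro g
    exact Subtype.ext (hzc _)
  · apply Subtype.ext
    show ((z : Matrix (Fin 3) (Fin 3) F)) ^ 3 = 1
    show (Matrix.scalar (Fin 3) ζ) ^ 3 = 1
    rw [← map_pow, hζ3, map_one]
  · rw [hN]; omega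
  · rintro _ ⟨u, rfl⟩ ht1
    have hu : (u : (EE (F := F) p)ˣ) ^ N = 1 := u.2
    have hu1 : (u : (EE (F := F) p)ˣ) ≠ 1 := by
      intro h
      apply ht1
      have : u = 1 := Subtype.ext h
      rw [this, map_one]
    have e : Subgroup.centralizer ({tor p b N hNn u} : Set (_root_.Matrix.SpecialLinearGroup (Fin 3) F)) =
        (tor p b (3 * N) (by rw [hn])).range := by
      ext g
      rw [Subgroup.mem_centralizer_singleton_iff]
      constructor
      · intro h
        have h1 := congrArg Subtype.val h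
        obtain ⟨v, hv⟩ := mem_of_comm b (hns _ hu hu1) (g := (g : Matrix (Fin 3) (Fin 3) F)) h1
        have hnorm : Algebra.norm F v = 1 := by
          rw [Algebra.norm_eq_matrix_det b, ← hv, g.2]
        have hv0 : v ≠ 0 := by
          rintro rfl
          rw [Algebra.norm_zero] at hnorm
          exact zero_ne_one hnorm
        have hv3 : (Units.mk0 v hv0) ^ (3 * N) = 1 := by
          apply Units.ext
          rw [Units.val_pow_eq_pow_val, Units.val_mk0, Units.val_one]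
          have h2 := FiniteField.algebraMap_norm_eq_pow (K := F) (K' := EE (F := F) p) (x := v)
          rw [hnorm, map_one, card_EE] at h2
          rw [div_eq hF, hn] at h2
          exact h2.symm
        exact ⟨⟨Units.mk0 v hv0, hv3⟩, Subtype.ext hv.symm⟩
      · rintro ⟨v, rfl⟩
        apply Subtype.ext
        show Mx b _ * Mx b _ = Mx b _ * Mx b _
        rw [← map_mul, ← map_mul, mul_comm]
    rw [e, ← Nat.card_congr (MonoidHom.ofInjective (tor_injective p b (3 * N) (by rw [hn]))).toEquiv,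
      card_ker p (3 * N) (by rw [hn])]
  · rintro _ ⟨u, rfl⟩ ht1
    have hu : (u : (EE (F := F) p)ˣ) ^ N = 1 := u.2
    have hu1 : (u : (EE (F := F) p)ˣ) ≠ 1 := by
      intro h
      apply ht1
      have : u = 1 := Subtype.ext h
      rw [this, map_one]
    obtain ⟨h12, h13, h23⟩ := hfr _ hu hu1
    set f := tor p b N hNn with hf
    -- conjugates
    have hc1 : ∀ v : (powMonoidHom N : (EE (F := F) p)ˣ →* (EE (F := F) p)ˣ).ker, IsConj (f v) (f (v ^ Nat.card F)) := by
      intro v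
      obtain ⟨g, hg⟩ := exists_conj p b ((v : (EE (F := F) p)ˣ) : EE (F := F) p)
      rw [isConj_iff]
      refine ⟨g, ?_⟩
      rw [mul_inv_eq_iff_eq_mul]
      apply Subtype.ext
      show (g : Matrix (Fin 3) (Fin 3) F) * Mx b _ = Mx b _ * (g : Matrix (Fin 3) (Fin 3) F)
      rw [hg]
      rfl
    have hset : {s : _root_.Matrix.SpecialLinearGroup (Fin 3) F | s ∈ T ∧ IsConj (f u) s} =
        {f u, f (u ^ Nat.card F), f (u ^ (Nat.card F ^ 2))} := by
      ext s
      simp only [Set.mem_ofPred_eq, Set.mem_insert_iff, Set.mem_singleton_iff]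
      constructor
      · rintro ⟨⟨v, rfl⟩, hc⟩
        obtain ⟨g, hg⟩ := isConj_iff.1 hc
        have h1 := congrArg Subtype.val hg
        have h2 : ((g⁻¹ : _root_.Matrix.SpecialLinearGroup (Fin 3) F) : Matrix (Fin 3) (Fin 3) F) * (g : Matrix (Fin 3) (Fin 3) F) = 1 :=
          congrArg Subtype.val (inv_mul_cancel g)
        rcases isConj_cases p b h2 h1 with h | h | h
        · left; congr 1; exact Subtype.ext (Units.ext h)
        · right; left; congr 1; exact Subtype.ext (Units.ext h)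
        · right; right; congr 1; exact Subtype.ext (Units.ext h)
      · rintro (rfl | rfl | rfl)
        · exact ⟨⟨u, rfl⟩, IsConj.refl _⟩
        · exact ⟨⟨_, rfl⟩, hc1 u⟩
        · refine ⟨⟨_, rfl⟩, (hc1 u).trans ?_⟩
          rw [pow_two, pow_mul]
          exact hc1 _
    have hinj := tor_injective p b N hNn
    have hcard : Set.ncard {s : _root_.Matrix.SpecialLinearGroup (Fin 3) F | s ∈ T ∧ IsConj (f u) s} = 3 := by
      rw [hset, Set.ncard_eq_three]
      refine ⟨_, _, _, ?_, ?_, ?_, rfl⟩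
      · intro h
        exact h12 (congrArg Subtype.val (hinj h)).symm
      · intro h
        exact h13 (congrArg Subtype.val (hinj h)).symm
      · intro h
        exact h23 (congrArg Subtype.val (hinj h)).symm
    exact hcard
  · intro h
    apply hζ1
    have h1 := congrArg (fun g : _root_.Matrix.SpecialLinearGroup (Fin 3) F => (g : Matrix (Fin 3) (Fin 3) F) 0 0) h
    simpa [z] using h1

end Fin

end Cfsg.Agent.H142.T3
end

-- part: H142/T3/Arith
section
/-!
# The arithmetic of the degrees of `SL₃(q)`, `q ≡ 1 mod 3` (helper142, S4855)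

`q = 3 k + 1`, `N = (q² + q + 1) / 3 = 3 k² + 3 k + 1`, `μ = k (k + 1)`, `d₀ = (q - 1)² (q + 1) / 3 = 9 k³ + 6 k²`.
-/

set_option autoImplicit false
set_option linter.unusedSectionVars false

namespace Cfsg.Agent.H142.T3

open Cfsg.Agent.H691.T3
open scoped Classical

/-- the value of `u` -/
theorem u_cases {k : ℕ} (hk : 0 < k) {d : ℕ} (hd : d ∈ DT (3 * k + 1)) {u : ℤ}
    (hN : (3 * k ^ 2 + 3 * k + 1 : ℤ) ∣ 3 * u + d)
    (hu : u ^ 2 ≤ (3 * k ^ 2 + 3 * k + 1) * (k * (k + 1))) :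
    (d = 27 * k ^ 3 + 18 * k ^ 2 ∧ u = -1) ∨ (d = 9 * k ^ 2 + 9 * k + 2 ∧ u = -(k * (k + 1))) ∨
      ((d = (3 * k + 1) ^ 3 ∨ d = 9 * k ^ 3 + 6 * k ^ 2 ∨ d = 1) ∧ u = k * (k + 1)) ∨
      (u = 0 ∧ d ≠ 27 * k ^ 3 + 18 * k ^ 2 ∧ d ≠ 9 * k ^ 2 + 9 * k + 2 ∧ d ≠ (3 * k + 1) ^ 3 ∧
        d ≠ 9 * k ^ 3 + 6 * k ^ 2 ∧ d ≠ 1) := by
  obtain ⟨μ, hμ⟩ : ∃ μ : ℤ, μ = k * (k + 1) := ⟨_, rfl⟩
  have hk' : (1 : ℤ) ≤ k := by exact_mod_cast hk
  have hμ2 : 2 ≤ μ := by rw [hμ]; nlinarith only [hk]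
  have hNμ : (3 * k ^ 2 + 3 * k + 1 : ℤ) = 3 * μ + 1 := by rw [hμ]; ring
  rw [hNμ] at hN hu
  rw [← hμ] at hu ⊢
  have hu1 : u ≤ 2 * μ := by
    by_contra h
    have h1 : 2 * μ + 1 ≤ u := by omega
    nlinarith only [hu, hμ2, h]
  have hu2 : -(2 * μ) ≤ u := by
    by_contra h
    have h1 : 2 * μ + 1 ≤ -u := by omega
    nlinarith only [hu, hu1, h]
  -- `N ∣ 3 u + r`
  have key : ∀ r t : ℤ, (d : ℤ) = r + (3 * μ + 1) * t → (3 * μ + 1) ∣ 3 * u + r := by
    intro r t h
    rw [h] at hN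
    have : 3 * u + r = 3 * u + (r + (3 * μ + 1) * t) - (3 * μ + 1) * t := by ring
    rw [this]
    exact dvd_sub hN (dvd_mul_right _ _)
  have hE : (∃ t : ℤ, (d : ℤ) = (3 * μ + 1) * t) → u = 0 := by
    rintro ⟨t, ht⟩
    obtain ⟨j, hj⟩ := key 0 t (by rw [ht]; ring)
    have h1 : (3 * μ + 1) * j = 3 * u := by rw [← hj]; ring
    have h2 : 3 ∣ j := by
      have : j = 3 * (u - μ * j) := by linear_combination (-1 : ℤ) * (-h1)
      exact ⟨_, this⟩
    obtain ⟨i, rfl⟩ := h2
    have h3 : u = (3 * μ + 1) * i := by linarith only [hj]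
    have h4 : i = 0 := by
      by_contra h0
      rcases lt_or_gt_of_ne h0 with h | h
      · have : i ≤ -1 := by omega
        nlinarith only [hu1, hu2, hj, h]
      · have : 1 ≤ i := by omega
        nlinarith only [hμ2, hu1, hj, h]
    rw [h3, h4, mul_zero]
  have hB : (∃ t : ℤ, (d : ℤ) = -1 + (3 * μ + 1) * t) → u = -μ := by
    rintro ⟨t, ht⟩
    obtain ⟨j, hj⟩ := key (-1) t ht
    have h1 : -1 ≤ j := by
      by_contra h
      have : j ≤ -2 := by omega
      nlinarith only [hu1, hu2, hj, h]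
    have h2 : j ≤ 1 := by
      by_contra h
      have : 2 ≤ j := by omega
      nlinarith only [hμ2, hu1, hj, h]
    have h3 : j = -1 ∨ j = 0 ∨ j = 1 := by omega
    rcases h3 with rfl | rfl | rfl <;> omega
  have hC : (∃ t : ℤ, (d : ℤ) = 1 + (3 * μ + 1) * t) → u = μ := by
    rintro ⟨t, ht⟩
    obtain ⟨j, hj⟩ := key 1 t ht
    have h1 : -1 ≤ j := by
      by_contra h
      have : j ≤ -2 := by omega
      nlinarith only [hu1, hu2, hj, h]
    have h2 : j ≤ 1 := by
      by_contra h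
      have : 2 ≤ j := by omega
      nlinarith only [hμ2, hu1, hj, h]
    have h3 : j = -1 ∨ j = 0 ∨ j = 1 := by omega
    rcases h3 with rfl | rfl | rfl <;> omega
  have hA : (∃ t : ℤ, (d : ℤ) = 3 + (3 * μ + 1) * t) → u = -1 := by
    rintro ⟨t, ht⟩
    obtain ⟨j, hj⟩ := key 3 t ht
    have h2 : 3 ∣ j := by
      have : j = 3 * (u + 1 - μ * j) := by linear_combination (-1 : ℤ) * hj
      exact ⟨_, this⟩
    obtain ⟨i, rfl⟩ := h2
    have h3 : u + 1 = (3 * μ + 1) * i := by linarith only [hj]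
    have h4 : i = 0 := by
      by_contra h0
      rcases lt_or_gt_of_ne h0 with h | h
      · have : i ≤ -1 := by omega
        nlinarith only [hu1, hu2, hj, h]
      · have : 1 ≤ i := by omega
        nlinarith only [hμ2, hu1, hj, h]
    rw [h4, mul_zero] at h3
    omega
  have hE' : (∃ t : ℤ, (d : ℤ) = (3 * μ + 1) * t) → (u = 0 ∧ d ≠ 27 * k ^ 3 + 18 * k ^ 2 ∧ d ≠ 9 * k ^ 2 + 9 * k + 2 ∧
      d ≠ (3 * k + 1) ^ 3 ∧ d ≠ 9 * k ^ 3 + 6 * k ^ 2 ∧ d ≠ 1) := by
    intro ht
    have h0 := hE ht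
    refine ⟨h0, ?_, ?_, ?_, ?_, ?_⟩
    · rintro rfl
      have := hA ⟨9 * k - 3, by push_cast; rw [hμ]; ring⟩
      omega
    · rintro rfl
      have := hB ⟨3, by push_cast; rw [hμ]; ring⟩
      omega
    · rintro rfl
      have := hC ⟨9 * k, by push_cast; rw [hμ]; ring⟩
      omega
    · rintro rfl
      have := hC ⟨3 * k - 1, by push_cast; rw [hμ]; ring⟩
      omega
    · rintro rfl
      have := hC ⟨0, by push_cast; ring⟩
      omega
  have hq1 : 3 * k + 1 - 1 = 3 * k := by (clear * -; omega)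
  unfold DT at hd
  rw [Set.mem_ofPred_eq, hq1] at hd
  rcases hd with h | h | h | h | h | ⟨-, h | h⟩ | ⟨-, h⟩ | ⟨-, h | h⟩
  · right; right; left
    exact ⟨Or.inr (Or.inr h), hC ⟨0, by rw [h]; push_cast; ring⟩⟩
  · right; left
    have h' : d = 9 * k ^ 2 + 9 * k + 2 := by rw [h]; ring
    exact ⟨h', hB ⟨3, by rw [h']; push_cast; rw [hμ]; ring⟩⟩
  · right; right; left
    exact ⟨Or.inl h, hC ⟨9 * k, by rw [h]; push_cast; rw [hμ]; ring⟩⟩
  · right; right; right
    refine hE' ⟨9 * k, ?_⟩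
    have h' : (d : ℤ) + 1 = (3 * k + 1) ^ 3 := by exact_mod_cast h
    rw [hμ]
    linear_combination h'
  · left
    have h' : d = 27 * k ^ 3 + 18 * k ^ 2 := by rw [h]; ring
    exact ⟨h', hA ⟨9 * k - 3, by rw [h']; push_cast; rw [hμ]; ring⟩⟩
  · right; right; right
    refine hE' ⟨3, ?_⟩
    rw [h, hμ]; push_cast; ring
  · right; right; right
    refine hE' ⟨3 * (3 * k + 1), ?_⟩
    rw [h, hμ]; push_cast; ring
  · right; right; right
    refine hE' ⟨3 * (3 * k + 2), ?_⟩
    rw [h, hμ]; push_cast; ring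
  · right; right; right
    refine hE' ⟨3 * k + 2, ?_⟩
    have h' : 3 * (d : ℤ) = (3 * k + 1 + 1) * ((3 * k + 1) ^ 2 + (3 * k + 1) + 1) := by exact_mod_cast h
    have h'' : 3 * (d : ℤ) = 3 * ((3 * μ + 1) * (3 * k + 2)) := by rw [h', hμ]; ring
    linarith only [h'']
  · right; right; left
    have h' : d = 9 * k ^ 3 + 6 * k ^ 2 := by
      have : 3 * d = 3 * (9 * k ^ 3 + 6 * k ^ 2) := by rw [h]; ring
      omega
    exact ⟨Or.inr (Or.inl h'), hC ⟨3 * k - 1, by rw [h']; push_cast; rw [hμ]; ring⟩⟩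

theorem fin_cases (b c e f : ℕ) (P d0 A : ℤ) (hd15 : 15 ≤ d0) (hA20 : 20 ≤ A) (hdA : 2 * A < 3 * d0 + 2)
    (hP : 2 * d0 ≤ P) (hs3 : b + c + e + f ≤ 3)
    (e5 : 9 * P + 3 * d0 - 3 * P * (b + c + e + f) = -A * b + (3 * d0 + A - 1) * c + d0 * e + f) :
    b + c + e + f = 3 ∧ ((f = 0 → 0 < e) ∧ (0 < f → e = 0)) := by
  have hb3 : b ≤ 3 := by omega
  have hc3 : c ≤ 3 := by omega
  have he3 : e ≤ 3 := by omega
  have hf3 : f ≤ 3 := by omega
  interval_cases b <;> interval_cases c <;> try (clear * - he3 hf3 hs3 e5; omega)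
  all_goals interval_cases e <;> try (clear * - hf3 hs3; omega)
  all_goals interval_cases f <;> try omega

theorem small_sum {a s μ : ℤ} (ha : 0 ≤ a) (h : a = μ * (3 * μ + 1 - μ * s)) (hμ : 2 ≤ μ) (hs : 4 ≤ s) : False := by
  have h1 : μ * 4 ≤ μ * s := mul_le_mul_of_nonneg_left hs (by omega)
  have h2 : 3 * μ + 1 - μ * s < 0 := by omega
  have h3 : μ * (3 * μ + 1 - μ * s) < 0 := mul_neg_of_pos_of_neg (by omega) h2
  omega

set_option maxHeartbeats 1000000 in
/-- the equations for the numbers of characters -/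
theorem counts {ι : Type*} (I : Finset ι) (deg : ι → ℕ) (m : ι → ℤ) {k : ℕ} (hk : 0 < k)
    (hdeg : ∀ χ ∈ I, deg χ ∈ DT (3 * k + 1))
    (hm : ∀ χ ∈ I, (3 * k ^ 2 + 3 * k + 1 : ℤ) ∣ m χ + deg χ ∧ 3 ∣ m χ)
    (h2 : ∑ χ ∈ I, m χ ^ 2 = 3 * (3 * k ^ 2 + 3 * k + 1) * ((3 * k ^ 2 + 3 * k + 1) - 1))
    (h1 : ∑ χ ∈ I, m χ * deg χ = 0) :
    ((∃ χ ∈ I, deg χ = 1) ∨ ∃ χ ∈ I, deg χ = 9 * k ^ 3 + 6 * k ^ 2) ∧
      ¬ ((∃ χ ∈ I, deg χ = 1) ∧ ∃ χ ∈ I, deg χ = 9 * k ^ 3 + 6 * k ^ 2) := by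
  obtain ⟨μ, hμ⟩ : ∃ μ : ℤ, μ = k * (k + 1) := ⟨_, rfl⟩
  have hk' : (1 : ℤ) ≤ k := by exact_mod_cast hk
  have hμ2 : 2 ≤ μ := by rw [hμ]; nlinarith only [hk]
  have hNμ : (3 * k ^ 2 + 3 * k + 1 : ℤ) = 3 * μ + 1 := by rw [hμ]; ring
  have hex : ∀ χ : ι, ∃ u : ℤ, χ ∈ I → m χ = 3 * u := by
    intro χ
    by_cases h : χ ∈ I
    · obtain ⟨u, hu⟩ := (hm χ h).2
      exact ⟨u, fun _ => hu⟩
    · exact ⟨0, fun h' => absurd h' h⟩
  choose u hu using hex
  have hsu : ∑ χ ∈ I, u χ ^ 2 = (3 * μ + 1) * μ := by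
    have : ∑ χ ∈ I, m χ ^ 2 = 9 * ∑ χ ∈ I, u χ ^ 2 := by
      rw [Finset.mul_sum]
      refine Finset.sum_congr rfl fun χ hχ => ?_
      rw [hu χ hχ]; ring
    rw [this, hNμ] at h2
    linarith only [h2]
  have hsd : ∑ χ ∈ I, u χ * deg χ = 0 := by
    have : ∑ χ ∈ I, m χ * deg χ = 3 * ∑ χ ∈ I, u χ * deg χ := by
      rw [Finset.mul_sum]
      refine Finset.sum_congr rfl fun χ hχ => ?_
      rw [hu χ hχ]; ring
    rw [this] at h1
    omega
  have hcase : ∀ χ ∈ I, (deg χ = 27 * k ^ 3 + 18 * k ^ 2 ∧ u χ = -1) ∨ (deg χ = 9 * k ^ 2 + 9 * k + 2 ∧ u χ = -μ) ∨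
      ((deg χ = (3 * k + 1) ^ 3 ∨ deg χ = 9 * k ^ 3 + 6 * k ^ 2 ∨ deg χ = 1) ∧ u χ = μ) ∨
      (u χ = 0 ∧ deg χ ≠ 27 * k ^ 3 + 18 * k ^ 2 ∧ deg χ ≠ 9 * k ^ 2 + 9 * k + 2 ∧ deg χ ≠ (3 * k + 1) ^ 3 ∧
        deg χ ≠ 9 * k ^ 3 + 6 * k ^ 2 ∧ deg χ ≠ 1) := by
    intro χ hχ
    rw [hμ]
    refine u_cases hk (hdeg χ hχ) ?_ ?_
    · rw [← hu χ hχ]
      exact (hm χ hχ).1
    · rw [hNμ, ← hμ, ← hsu]
      exact Finset.single_le_sum (f := fun χ => u χ ^ 2) (fun i _ => sq_nonneg _) hχ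
  -- the degrees
  obtain ⟨d0, hd0⟩ : ∃ d0 : ℕ, d0 = 9 * k ^ 3 + 6 * k ^ 2 := ⟨_, rfl⟩
  obtain ⟨A, hA⟩ : ∃ A : ℕ, A = 9 * k ^ 2 + 9 * k + 2 := ⟨_, rfl⟩
  have hC : (3 * k + 1) ^ 3 = 3 * d0 + A - 1 := by
    have : (3 * k + 1) ^ 3 + 1 = 3 * d0 + A := by rw [hd0, hA]; ring
    (clear * - this; omega)
  have h3d : 27 * k ^ 3 + 18 * k ^ 2 = 3 * d0 := by rw [hd0]; ring
  have hd15 : 15 ≤ d0 := by
    rw [hd0]
    have h1 : 1 ≤ k ^ 2 := Nat.one_le_pow _ _ hk
    have h2 : 1 ≤ k ^ 3 := Nat.one_le_pow _ _ hk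
    omega
  have hA20 : 20 ≤ A := by
    rw [hA]
    have h1 : 1 ≤ k ^ 2 := Nat.one_le_pow _ _ hk
    omega
  have hdA : 2 * A < 3 * d0 + 2 ∧ d0 ≠ A := by
    rcases Nat.lt_or_ge 1 k with h | h
    · have h2 : 2 * k ^ 2 ≤ k ^ 3 := by
        rw [pow_succ k 2, mul_comm]
        exact Nat.mul_le_mul_left _ h
      have h3 : 2 * k ≤ k ^ 2 := by rw [pow_two]; exact Nat.mul_le_mul_right _ h
      constructor
      · rw [hd0, hA]; (clear * - hd0 hd15 h2 h3; omega)
      · rw [hd0, hA]; (clear * -; omega)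
    · have h1 : k = 1 := by (clear * - hk h; omega)
      rw [hd0, hA, h1]
      norm_num
  rw [h3d, ← hA, ← hd0, hC] at hcase
  rw [← hd0]
  -- the numbers
  obtain ⟨a, ha'⟩ : ∃ a, a = (I.filter fun χ => deg χ = 3 * d0).card := ⟨_, rfl⟩
  obtain ⟨b, hb'⟩ : ∃ b, b = (I.filter fun χ => deg χ = A).card := ⟨_, rfl⟩
  obtain ⟨c, hc'⟩ : ∃ c, c = (I.filter fun χ => deg χ = 3 * d0 + A - 1).card := ⟨_, rfl⟩
  obtain ⟨e, he'⟩ : ∃ e, e = (I.filter fun χ => deg χ = d0).card := ⟨_, rfl⟩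
  obtain ⟨f, hf'⟩ : ∃ f, f = (I.filter fun χ => deg χ = 1).card := ⟨_, rfl⟩
  have ha : ∑ χ ∈ I, (if deg χ = 3 * d0 then (1 : ℤ) else 0) = a := by rw [Finset.sum_boole, ha']
  have hb : ∑ χ ∈ I, (if deg χ = A then (1 : ℤ) else 0) = b := by rw [Finset.sum_boole, hb']
  have hc : ∑ χ ∈ I, (if deg χ = 3 * d0 + A - 1 then (1 : ℤ) else 0) = c := by rw [Finset.sum_boole, hc']
  have he : ∑ χ ∈ I, (if deg χ = d0 then (1 : ℤ) else 0) = e := by rw [Finset.sum_boole, he']
  have hf : ∑ χ ∈ I, (if deg χ = 1 then (1 : ℤ) else 0) = f := by rw [Finset.sum_boole, hf']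
  have e1 : (a : ℤ) + μ ^ 2 * (b + c + e + f) = (3 * μ + 1) * μ := by
    rw [← hsu, ← ha, ← hb, ← hc, ← he, ← hf, ← Finset.sum_add_distrib, ← Finset.sum_add_distrib,
      ← Finset.sum_add_distrib, Finset.mul_sum, ← Finset.sum_add_distrib]
    refine Finset.sum_congr rfl fun χ hχ => ?_
    rcases hcase χ hχ with ⟨h, h'⟩ | ⟨h, h'⟩ | ⟨h | h | h, h'⟩ | ⟨h', n1, n2, n3, n4, n5⟩
    · rw [h', if_pos h, if_neg (by (clear * - hA h; omega)), if_neg (by (clear * - hA h; omega)), if_neg (by (clear * - hd15 h; omega)), if_neg (by omega)]; ring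
    · rw [h', if_neg (by (clear * - hA h; omega)), if_pos h, if_neg (by (clear * - hA20 h; omega)), if_neg (by (clear * - hd0 hA h; omega)), if_neg (by (clear * - hA20 h; omega))]; ring
    · rw [h', if_neg (by (clear * - hA h; omega)), if_neg (by (clear * - hA h; omega)), if_pos h, if_neg (by (clear * - hd15 h; omega)), if_neg (by (clear * - hA20 h; omega))]; ring
    · rw [h', if_neg (by (clear * - hd15 h; omega)), if_neg (by (clear * - hd0 hA h; omega)), if_neg (by (clear * - hd15 h; omega)), if_pos h, if_neg (by omega)]; ring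
    · rw [h', if_neg (by omega), if_neg (by (clear * - hA h; omega)), if_neg (by (clear * - hA20 h; omega)), if_neg (by omega), if_pos h]; ring
    · rw [h', if_neg n1, if_neg n2, if_neg n3, if_neg n4, if_neg n5]; ring
  have e2 : -(3 * d0 : ℤ) * a + μ * (-(A : ℤ) * b + (3 * d0 + A - 1) * c + d0 * e + f) = 0 := by
    rw [← hsd, ← ha, ← hb, ← hc, ← he, ← hf, Finset.mul_sum, Finset.mul_sum, Finset.mul_sum, Finset.mul_sum,
      ← Finset.sum_add_distrib, ← Finset.sum_add_distrib, ← Finset.sum_add_distrib, Finset.mul_sum,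
      ← Finset.sum_add_distrib]
    refine Finset.sum_congr rfl fun χ hχ => ?_
    rcases hcase χ hχ with ⟨h, h'⟩ | ⟨h, h'⟩ | ⟨h | h | h, h'⟩ | ⟨h', n1, n2, n3, n4, n5⟩
    · rw [h', if_pos h, if_neg (by (clear * - hμ hNμ hA h; omega)), if_neg (by (clear * - hA h; omega)), if_neg (by (clear * - hd15 h; omega)), if_neg (by omega), h]
      push_cast; ring
    · rw [h', if_neg (by (clear * - hμ hNμ hA h; omega)), if_pos h, if_neg (by (clear * - hμ hNμ hA20 hdA h; omega)), if_neg (by (clear * - hd0 hA h; omega)), if_neg (by (clear * - hA20 h; omega)), h]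
      ring
    · rw [h', if_neg (by (clear * - hA h; omega)), if_neg (by (clear * - hμ hNμ hdA h; omega)), if_pos h, if_neg (by (clear * - hdA h; omega)), if_neg (by (clear * - hA20 h; omega)), h]
      have : ((3 * d0 + A - 1 : ℕ) : ℤ) = 3 * d0 + A - 1 := by
        rw [Nat.cast_sub (by (clear * - hA20; omega))]; push_cast; ring
      rw [this]; ring
    · rw [h', if_neg (by (clear * - hd15 h; omega)), if_neg (by (clear * - hd0 hA h; omega)), if_neg (by (clear * - hd15 h; omega)), if_pos h, if_neg (by omega), h]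
      ring
    · rw [h', if_neg (by omega), if_neg (by omega), if_neg (by (clear * - hA20 h; omega)), if_neg (by omega), if_pos h, h]
      push_cast; ring
    · rw [h', if_neg n1, if_neg n2, if_neg n3, if_neg n4, if_neg n5]; ring
  -- elimination of `a`
  have hμ0 : μ ≠ 0 := by omega
  have e3 : (a : ℤ) = μ * (3 * μ + 1 - μ * (b + c + e + f)) := by linear_combination e1
  have e4 : 3 * (d0 : ℤ) * (3 * μ + 1 - μ * (b + c + e + f)) =
      -(A : ℤ) * b + (3 * d0 + A - 1) * c + d0 * e + f := by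
    apply mul_left_cancel₀ hμ0
    rw [e3] at e2
    linear_combination (-1 : ℤ) * e2
  have hs3 : b + c + e + f ≤ 3 := by
    by_contra hcon
    have h4 : (4 : ℤ) ≤ b + c + e + f := by
      have : 4 ≤ b + c + e + f := by (clear * - hcon; omega)
      exact_mod_cast this
    exact small_sum (Int.natCast_nonneg a) e3 hμ2 h4
  have hP : (2 : ℤ) * d0 ≤ d0 * μ := by
    rw [mul_comm]
    exact mul_le_mul_of_nonneg_left hμ2 (Int.natCast_nonneg d0)
  have hmain : b + c + e + f = 3 ∧ ((f = 0 → 0 < e) ∧ (0 < f → e = 0)) := by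
    obtain ⟨P, hP'⟩ : ∃ P : ℤ, P = d0 * μ := ⟨_, rfl⟩
    rw [← hP'] at hP
    have e5 : 9 * P + 3 * d0 - 3 * P * (b + c + e + f) = -(A : ℤ) * b + (3 * d0 + A - 1) * c + d0 * e + f := by
      rw [← e4, hP']; ring
    refine fin_cases b c e f P d0 A (by exact_mod_cast hd15) (by exact_mod_cast hA20) ?_ hP hs3 e5
    exact_mod_cast hdA.1
  obtain ⟨hs, hm1, hm2⟩ := hmain
  have hef : ∀ d : ℕ, 0 < (I.filter fun χ => deg χ = d).card ↔ ∃ χ ∈ I, deg χ = d := by
    intro d
    rw [Finset.card_pos]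
    constructor
    · rintro ⟨χ, hχ⟩
      exact ⟨χ, (Finset.mem_filter.1 hχ).1, (Finset.mem_filter.1 hχ).2⟩
    · rintro ⟨χ, h, h'⟩
      exact ⟨χ, Finset.mem_filter.2 ⟨h, h'⟩⟩
  constructor
  · rcases Nat.eq_zero_or_pos f with h | h
    · exact Or.inr ((hef d0).1 (he' ▸ hm1 h))
    · exact Or.inl ((hef 1).1 (hf' ▸ h))
  · rintro ⟨h, h'⟩
    have h5 := hm2 (hf' ▸ (hef 1).2 h)
    have h6 : 0 < e := he' ▸ (hef d0).2 h'
    omega

end Cfsg.Agent.H142.T3
end

-- part: H142/T3/Third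
section
/-!
# The degree `(q - 1)² (q + 1) / 3` of `SL₃(q)` and `PSL₃(q)`, `q ≡ 1 mod 3` (helper142, S4855)
-/

set_option autoImplicit false
set_option linter.unusedSectionVars false

namespace Cfsg.Agent.H142.T3

open Cfsg Matrix Cfsg.Agent.Characters Cfsg.Agent.H686.CharKit Cfsg.Agent.H691.T3
open scoped Classical

variable {F : Type} [Field F] [Fintype F]

theorem exists_k (h3 : 3 ∣ Fintype.card F - 1) : ∃ k : ℕ, 0 < k ∧ Fintype.card F = 3 * k + 1 := by
  have h1 : 1 < Fintype.card F := Fintype.one_lt_card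
  obtain ⟨k, hk⟩ := h3
  exact ⟨k, by omega, by omega⟩

/-- the two alternatives, over every central character -/
theorem exists_counts (h : charDegrees (_root_.Matrix.SpecialLinearGroup (Fin 3) F) ⊆ DT (Fintype.card F)) {k : ℕ} (hk : 0 < k)
    (hq : Fintype.card F = 3 * k + 1) [Fintype (IrrCharacter (_root_.Matrix.SpecialLinearGroup (Fin 3) F))] :
    ∃ z : _root_.Matrix.SpecialLinearGroup (Fin 3) F, z ≠ 1 ∧ z ^ 3 = 1 ∧ (∀ g, g * z = z * g) ∧ ∀ ω : ℂ, ω ^ 3 = 1 →
      ((∃ χ ∈ Ix z ω, charDegree (χ : _root_.Matrix.SpecialLinearGroup (Fin 3) F → ℂ) = 1) ∨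
        ∃ χ ∈ Ix z ω, charDegree (χ : _root_.Matrix.SpecialLinearGroup (Fin 3) F → ℂ) = 9 * k ^ 3 + 6 * k ^ 2) ∧
      ¬ ((∃ χ ∈ Ix z ω, charDegree (χ : _root_.Matrix.SpecialLinearGroup (Fin 3) F → ℂ) = 1) ∧
        ∃ χ ∈ Ix z ω, charDegree (χ : _root_.Matrix.SpecialLinearGroup (Fin 3) F → ℂ) = 9 * k ^ 3 + 6 * k ^ 2) := by
  obtain ⟨p, hp⟩ := CharP.exists F
  have hp' : Fact p.Prime := ⟨CharP.char_is_prime F p⟩
  obtain ⟨T, z, D, hz⟩ := exists_dat (F := F) p (by rw [Nat.card_eq_fintype_card]; exact hq) (rfl : 3 * k ^ 2 + 3 * k + 1 = _)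
  refine ⟨z, hz, D.z3, D.central, fun ω hω => ?_⟩
  obtain ⟨m, hm, h2, h1⟩ := D.main hz hω
  refine counts (Ix z ω) (fun χ => charDegree (χ : _root_.Matrix.SpecialLinearGroup (Fin 3) F → ℂ)) m hk ?_ ?_ ?_ h1
  · intro χ _
    rw [← hq]
    exact h ⟨χ, rfl⟩
  · intro χ _
    have := hm χ
    push_cast at this
    exact this
  · rw [h2]
    push_cast
    ring

theorem sl3_third (h : charDegrees (_root_.Matrix.SpecialLinearGroup (Fin 3) F) ⊆ DT (Fintype.card F)) (h3 : 3 ∣ Fintype.card F - 1)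
    {d : ℕ} (hd : 3 * d = (Fintype.card F - 1) ^ 2 * (Fintype.card F + 1)) :
    d ∈ charDegrees (_root_.Matrix.SpecialLinearGroup (Fin 3) F) := by
  obtain ⟨k, hk, hq⟩ := exists_k h3
  have hfin : Finite (IrrCharacter (_root_.Matrix.SpecialLinearGroup (Fin 3) F)) := Core.finite_irr
  have : Fintype (IrrCharacter (_root_.Matrix.SpecialLinearGroup (Fin 3) F)) := Fintype.ofFinite _
  obtain ⟨z, hz, hz3, hzc, hall⟩ := exists_counts h hk hq
  have hω : (Complex.exp (2 * Real.pi * Complex.I / 3)) ^ 3 = 1 := by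
    have := (Complex.isPrimitiveRoot_exp 3 (by norm_num)).pow_eq_one
    simpa only [_root_.Nat.cast_ofNat] using this
  have hω1 : Complex.exp (2 * Real.pi * Complex.I / 3) ≠ 1 := by
    have := (Complex.isPrimitiveRoot_exp 3 (by norm_num)).ne_one (by norm_num)
    simpa using this
  obtain ⟨h4, -⟩ := hall _ hω
  have hd0 : d = 9 * k ^ 3 + 6 * k ^ 2 := by
    rw [hq] at hd
    have h5 : 3 * k + 1 - 1 = 3 * k := by omega
    rw [h5] at hd
    have h6 : 3 * d = 3 * (9 * k ^ 3 + 6 * k ^ 2) := by rw [hd]; ring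
    omega
  rcases h4 with ⟨χ, hχ, h5⟩ | ⟨χ, -, h5⟩
  · exfalso
    rw [mem_Ix] at hχ
    have h6 : (χ : _root_.Matrix.SpecialLinearGroup (Fin 3) F → ℂ) 1 = 1 := by rw [← charDegree_irr, h5, Nat.cast_one]
    obtain ⟨f, hf⟩ := Characters.Linear.exists_hom_of_isIrrCharacter χ.2 h6
    have h7 : commutator (_root_.Matrix.SpecialLinearGroup (Fin 3) F) = ⊤ := LieClassical.SLGen.commutator_eq_top (by simp)
    have h8 : f z = 1 := by
      have : commutator (_root_.Matrix.SpecialLinearGroup (Fin 3) F) ≤ f.ker := Abelianization.commutator_subset_ker f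
      exact this (h7 ▸ Subgroup.mem_top z)
    rw [h6, mul_one, hf] at hχ
    apply hω1
    rw [← hχ]
    show ((f z : ℂˣ) : ℂ) = 1
    rw [h8, Units.val_one]
  · exact ⟨χ, by rw [h5, hd0]⟩

theorem psl3_third (h : charDegrees (_root_.Matrix.SpecialLinearGroup (Fin 3) F) ⊆ DT (Fintype.card F)) (h3 : 3 ∣ Fintype.card F - 1)
    {d : ℕ} (hd : d ∈ charDegrees (ProjectiveSpecialLinearGroup (Fin 3) F)) :
    3 * d ≠ (Fintype.card F - 1) ^ 2 * (Fintype.card F + 1) := by
  intro hd3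
  obtain ⟨k, hk, hq⟩ := exists_k h3
  have hfin : Finite (IrrCharacter (_root_.Matrix.SpecialLinearGroup (Fin 3) F)) := Core.finite_irr
  have : Fintype (IrrCharacter (_root_.Matrix.SpecialLinearGroup (Fin 3) F)) := Fintype.ofFinite _
  obtain ⟨z, hz, hz3, hzc, hall⟩ := exists_counts h hk hq
  obtain ⟨-, h4⟩ := hall 1 (one_pow 3)
  have hd0 : d = 9 * k ^ 3 + 6 * k ^ 2 := by
    rw [hq] at hd3
    have h5 : 3 * k + 1 - 1 = 3 * k := by omega
    rw [h5] at hd3
    have h6 : 3 * d = 3 * (9 * k ^ 3 + 6 * k ^ 2) := by rw [hd3]; ring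
    omega
  apply h4
  constructor
  · refine ⟨⟨1, Core.isIrr_one⟩, ?_, ?_⟩
    · rw [mem_Ix]
      simp
    · have := charDegree_irr (⟨1, Core.isIrr_one⟩ : IrrCharacter (_root_.Matrix.SpecialLinearGroup (Fin 3) F))
      have h8 : (charDegree ((⟨1, Core.isIrr_one⟩ : IrrCharacter (_root_.Matrix.SpecialLinearGroup (Fin 3) F)) :
          _root_.Matrix.SpecialLinearGroup (Fin 3) F → ℂ) : ℂ) = 1 := this
      exact_mod_cast h8
  · obtain ⟨ψ, hψ⟩ := hd
    have hzmem : z ∈ Subgroup.center (_root_.Matrix.SpecialLinearGroup (Fin 3) F) :=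
      Subgroup.mem_center_iff.2 hzc
    obtain ⟨χ, hχ⟩ : ∃ χ : IrrCharacter (_root_.Matrix.SpecialLinearGroup (Fin 3) F),
        χ = infl (Subgroup.center (_root_.Matrix.SpecialLinearGroup (Fin 3) F)) ψ := ⟨_, rfl⟩
    have h8 : ∀ g, (χ : _root_.Matrix.SpecialLinearGroup (Fin 3) F → ℂ) g =
        (ψ : ProjectiveSpecialLinearGroup (Fin 3) F → ℂ) (QuotientGroup.mk' (Subgroup.center _) g) := by
      intro g; rw [hχ]; rfl
    refine ⟨χ, ?_, ?_⟩
    · have h9 : QuotientGroup.mk' (Subgroup.center (_root_.Matrix.SpecialLinearGroup (Fin 3) F)) z = 1 :=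
        (QuotientGroup.eq_one_iff z).2 hzmem
      rw [mem_Ix, one_mul, h8, h8, h9, map_one]
    · rw [← hd0, ← hψ]
      have e1 := charDegree_irr χ
      have e2 := charDegree_irr ψ
      rw [h8, map_one] at e1
      have e3 := e1.trans e2.symm
      exact_mod_cast e3

end Cfsg.Agent.H142.T3
end

-- part: H287/SL3/Perf
section
/-!
# S4855, `q = 2` (helper287), first part: `G'` is perfect; a lemma on the simple quotients of `G'`
-/

set_option autoImplicit false

namespace Cfsg.Agent.H287.SLThree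

open Cfsg Cfsg.Agent.Characters Cfsg.Agent.Characters.Core Cfsg.Agent.H681 Cfsg.Agent.H681.DegBasic
open Cfsg.Agent.H686.CharKit Cfsg.Agent.H691

universe u v

theorem D_sub : ({1, 3, 6, 7, 8} : Set ℕ) ⊆ DS 7 := by
  intro d hd
  simp only [Set.mem_insert_iff, Set.mem_singleton_iff] at hd
  rcases hd with rfl | rfl | rfl | rfl | rfl
  · exact Or.inl rfl
  · exact Or.inr (Or.inr (Or.inr (Or.inr (Or.inr (by norm_num)))))
  · exact Or.inr (Or.inr (Or.inl (by norm_num)))
  · exact Or.inr (Or.inl rfl)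
  · exact Or.inr (Or.inr (Or.inr (Or.inl (by norm_num))))

/-- **The derived subgroup is perfect.** -/
theorem perfect_derived {G : Type u} [Group G] [Finite G] (hD : charDegrees G = {1, 3, 6, 7, 8}) :
    ⁅commutator G, commutator G⁆ = commutator G := by
  classical
  have := Fintype.ofFinite G
  by_contra hcon
  obtain ⟨r, f, hr, hf, hc⟩ := H279.PerfDer.cases_of_not_perfect hcon
  have mem : ∀ n : ℕ, n ∈ charDegrees G ↔ (n = 1 ∨ n = 3 ∨ n = 6 ∨ n = 7 ∨ n = 8) := by
    intro n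
    rw [hD]
    simp only [Set.mem_insert_iff, Set.mem_singleton_iff]
  have m3 : 3 ∈ charDegrees G := (mem 3).2 (by norm_num)
  have m7 : 7 ∈ charDegrees G := (mem 7).2 (by norm_num)
  have m8 : 8 ∈ charDegrees G := (mem 8).2 (by norm_num)
  have r7 : r ∣ 7 → r = 7 := fun h => (Nat.prime_dvd_prime_iff_eq hr (by norm_num)).1 h
  have r3 : r ∣ 3 → r = 3 := fun h => (Nat.prime_dvd_prime_iff_eq hr (by norm_num)).1 h
  have r8 : r ∣ 8 → r = 2 := fun h =>
    (Nat.prime_dvd_prime_iff_eq hr (by norm_num)).1 (hr.dvd_of_dvd_pow (by simpa using h : r ∣ 2 ^ 3))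
  rcases hc with ⟨-, hc⟩ | ⟨hfr, N, hN, hNf, hc⟩
  · rcases hc _ m7 with h1 | h1
    · have h2 := r7 h1
      rcases hc _ m8 with h3 | h3
      · have := r8 h3; omega
      · rw [mem] at h3; omega
    · rw [mem] at h1; omega
  · have := Fintype.ofFinite N
    have hbel : ∀ n ∈ charDegrees G, ∃ d ∈ charDegrees N, d ∣ n ∧ n / d ∣ f := by
      intro n hn
      obtain ⟨χ, hχ, hχn⟩ := mem_charDegrees.1 hn
      obtain ⟨ψ, d, hψ, hψd, -, hd1, hd2⟩ := exists_constituent N hχ hχn
      rw [hNf] at hd2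
      exact ⟨d, mem_charDegrees.2 ⟨ψ, hψ, hψd⟩, hd1, hd2⟩
    have hc' : ∀ d ∈ charDegrees N, r ∣ d ∨ f * d ∈ charDegrees G := by
      intro d hd
      obtain ⟨ψ, hψ, hψd⟩ := mem_charDegrees.1 hd
      exact hc ψ hψ d hψd
    have hfm : f ∈ charDegrees G := by
      rcases hc' 1 _root_.Cfsg.Agent.H681.DegBasic.one_mem with h1 | h1
      · exact absurd (Nat.dvd_one.1 h1) hr.one_lt.ne'
      · rwa [mul_one] at h1
    -- degrees coprime to `f`
    have key : ∀ n ∈ charDegrees G, n.Coprime f → 2 ≤ n → ¬ (f * n ∈ charDegrees G) → r ∣ n := by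
      intro n hn hnc hn2 hno
      obtain ⟨d, hd, hd1, hd3⟩ := hbel n hn
      have h1 : n / d = 1 := Nat.eq_one_of_dvd_coprimes (hnc.coprime_dvd_left (Nat.div_dvd_of_dvd hd1)) dvd_rfl hd3
      have h2 : d = n := by
        have := Nat.div_mul_cancel hd1
        rw [h1, one_mul] at this
        exact this
      subst h2
      rcases hc' d hd with h3 | h3
      · exact h3
      · exact absurd h3 hno
    rw [mem] at hfm
    rcases hfm with rfl | rfl | rfl | rfl | rfl
    · omega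
    · have h1 := r7 (key 7 m7 (by norm_num) (by norm_num) (by rw [mem]; norm_num))
      have h2 := r8 (key 8 m8 (by norm_num) (by norm_num) (by rw [mem]; norm_num))
      omega
    · have h1 := r7 (key 7 m7 (by norm_num) (by norm_num) (by rw [mem]; norm_num))
      obtain ⟨d, hd, hd1, hd3⟩ := hbel 8 m8
      have hd8 : d ≤ 8 := Nat.le_of_dvd (by norm_num) hd1
      have h4 := hc' d hd
      rw [mem, h1] at h4
      interval_cases d <;> simp_all only [_root_.ne_eq, _root_.dvd_refl, _root_.Set.mem_insert_iff, _root_.Set.mem_singleton_iff, _root_.implies_true, _root_.OfNat.ofNat_ne_one, _root_.Nat.reduceEqDiff, _root_.or_self, _root_.or_false, _root_.or_true, _root_.Nat.succ_ne_self, _root_.imp_self, _root_.Nat.reduceDvd, _root_.isUnit_iff_eq_one, _root_.IsUnit.dvd, _root_.Nat.one_lt_ofNat, _root_.mul_eq_one, _root_.false_and, _root_.OfNat.ofNat_ne_zero, _root_.not_false_eq_true, _root_.mul_eq_left₀, _root_.false_or, _root_.forall_eq_or_imp, _root_.Nat.dvd_one,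 ↓ _root_.ExistsAndEq.existsAndEq, _root_.Order.lt_one_iff, _root_.Nat.div_self, _root_.and_self, _root_.and_true, _root_.forall_eq, _root_.not_or, _root_.and_imp, _root_.Nat.coprime_one_left_eq_true, _root_.Nat.not_ofNat_le_one, _root_.mul_one, _root_.not_true_eq_false, _root_.Nat.reduceLeDiff, _root_.Nat.reduceMul, _root_.imp_false, _root_.Nat.reduceGcd, _root_.Nat.coprime_self, _root_.zero_dvd_iff, _root_.true_and, _root_.Nat.div_one, _root_.Nat.reduceDiv, _root_.Nat.ofNat_pos, _root_.Std.le_refl]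
    · have h2 := r8 (key 8 m8 (by norm_num) (by norm_num) (by rw [mem]; norm_num))
      have h3 := r3 (key 3 m3 (by norm_num) (by norm_num) (by rw [mem]; norm_num))
      omega
    · have h1 := r7 (key 7 m7 (by norm_num) (by norm_num) (by rw [mem]; norm_num))
      have h3 := r3 (key 3 m3 (by norm_num) (by norm_num) (by rw [mem]; norm_num))
      omega

/-- **The characteristic divides the order of every simple quotient of `G'`.** -/
theorem p_dvd {G : Type u} [Group G] [Finite G] {p f : ℕ} (hp : p.Prime) (hf : f ≠ 0)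
    (hD : charDegrees G ⊆ DS (p ^ f)) (hq : p ^ f ∈ charDegrees G) (N : Subgroup G) [N.Normal]
    (hNp : commutator N = ⊤) (hG : commutator G = N)
    (h1 : p ^ f ≠ 1) (R : Subgroup N) [hR : R.Normal] (hna : ¬ IsMulCommutative (N ⧸ R)) :
    p ∣ Nat.card (N ⧸ R) := by
  classical
  by_contra hcon
  have hcop : ∀ m, m ∣ Nat.card (N ⧸ R) → ∀ k, m ∣ p ^ k → m = 1 := by
    intro m hm k hk
    obtain ⟨j, -, rfl⟩ := (Nat.dvd_prime_pow hp).1 hk
    rcases Nat.eq_zero_or_pos j with rfl | hj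
    · exact pow_zero p
    · exact (hcon ((dvd_pow_self p hj.ne').trans hm)).elim
  obtain ⟨θ, hθ, hθd, hθ1⟩ := H686.SlCentral.exists_under N hNp hG hq h1
  -- restriction to `R`
  obtain ⟨φ, hφ, hoφ⟩ := H672.exists_under (f := R.subtype) hθ
  obtain ⟨h2, h3⟩ := H672.charDegree_dvd_of_over R hθ hφ hoφ
  have h4 : charDegree θ / charDegree φ = 1 := by
    refine hcop _ ?_ f (dvd_trans (Nat.div_dvd_of_dvd h2) hθd)
    rw [Subgroup.index_eq_card] at h3
    exact h3
  have h5 : charDegree φ = charDegree θ := by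
    obtain ⟨k, hk⟩ := h2
    rw [hk, Nat.mul_div_cancel_left _ (H672.charDegree_pos hφ)] at h4
    rw [hk, h4, mul_one]
  have hθR : IsIrrCharacter R (θ ∘ R.subtype) := by
    rw [H672.eq_of_over_of_charDegree_eq hθ hφ hoφ h5]
    exact hφ
  -- Gallagher
  obtain ⟨b, hb, hb1⟩ := PDvd.exists_nonlinear hna
  have h6 : b * charDegree θ ∈ charDegrees N :=
    gallagher (QuotientGroup.mk' R) (QuotientGroup.mk'_surjective R) R
      (fun k hk => (QuotientGroup.eq_one_iff k).2 hk) hθ hθR (H672.coe_charDegree hθ).symm hb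
  obtain ⟨ψ, hψ⟩ := h6
  obtain ⟨d, hd, hψd⟩ := H686.SlCentral.exists_dvd N ψ.2
  rw [hψ] at hψd
  have hpd : p ∣ charDegree θ := by
    obtain ⟨j, -, hj⟩ := (Nat.dvd_prime_pow hp).1 hθd
    rw [hj]
    refine dvd_pow_self p ?_
    rintro rfl
    exact hθ1 (by rw [hj, pow_zero])
  have h7 : d = p ^ f := PDvd.eq_of_dvd_mem hp hf (hD hd) ((dvd_mul_of_dvd_right hpd b).trans hψd)
  rw [h7] at hψd
  exact hb1 (hcop b (dvd_card hb) f ((Dvd.intro _ rfl).trans hψd))

end Cfsg.Agent.H287.SLThree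
end

-- part: H287/SL3/Inner
section
/-!
# S4855, `q = 2` (helper287), second part: perfect central extensions of `PSL₂(7)` in a group with degrees `1, 3, 6, 7, 8`
-/

set_option autoImplicit false

namespace Cfsg.Agent.H287.SLThree

open Cfsg Cfsg.Agent.Characters Cfsg.Agent.Characters.Core Cfsg.Agent.H681 Cfsg.Agent.H681.DegBasic
open Cfsg.Agent.H686.CharKit Cfsg.Agent.H691 Cfsg.Agent.H672
open Cfsg.Agent.Lib.SL2Mat Cfsg.Agent.Lib.AutSL2 Cfsg.Agent.Classification.QDW.TypeHom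
open scoped commutatorElement

universe u v

instance fact7 : Fact (Nat.Prime 7) := ⟨by norm_num⟩

local notation "SL7" => Matrix.SpecialLinearGroup (Fin 2) (ZMod 7)
local notation "PSL7" => Matrix.ProjectiveSpecialLinearGroup (Fin 2) (ZMod 7)

theorem card7 : Fintype.card (ZMod 7) = 7 := ZMod.card 7

/-- the unipotent element -/
def uu : SL7 := mk 1 1 0 1 (by ring)

theorem uu_pow : uu ^ 7 = 1 := by
  apply Subtype.ext
  decide +kernel

/-- an automorphism of `SL₂(7)` which maps `u` to a conjugate is inner -/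
theorem inner_of_isConj_uu (α : MulAut SL7) (h : IsConj (α uu) uu) : ∃ s : SL7, ∀ x, α x = s * x * s⁻¹ := by
  have h1 : typ α = 1 := by
    have : Subsingleton (ZMod 7 ≃+* ZMod 7) := ⟨fun a b => by
      ext x
      obtain ⟨k, rfl⟩ := ZMod.natCast_zmod_surjective x
      rw [map_natCast, map_natCast]⟩
    exact Subsingleton.elim _ _
  obtain ⟨g, rfl⟩ := (typ_eq_one_iff α).1 h1
  obtain ⟨c, hc⟩ := isConj_iff.1 h.symm
  -- `c u c⁻¹ = g u g⁻¹`
  have hm : c.1 * uu.1 * (c⁻¹).1 = g.1 * uu.1 * g⁻¹.1 := by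
    have := congrArg Subtype.val hc
    rw [conjGL_val] at this
    exact this
  set k : Matrix (Fin 2) (Fin 2) (ZMod 7) := (c⁻¹).1 * g.1 with hk
  have hcc : (c⁻¹).1 * c.1 = 1 := by
    have := congrArg Subtype.val (inv_mul_cancel c)
    exact this
  have hku : k * uu.1 = uu.1 * k := by
    have e1 : (c⁻¹).1 * (c.1 * uu.1 * (c⁻¹).1) * g.1 = (c⁻¹).1 * (g.1 * uu.1 * g⁻¹.1) * g.1 := by rw [hm]
    have e2 : (c⁻¹).1 * (c.1 * uu.1 * (c⁻¹).1) * g.1 = ((c⁻¹).1 * c.1) * uu.1 * k := by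
      rw [hk]; simp only [Matrix.mul_assoc]
    have e3 : (c⁻¹).1 * (g.1 * uu.1 * g⁻¹.1) * g.1 = k * uu.1 * (g⁻¹.1 * g.1) := by
      rw [hk]; simp only [Matrix.mul_assoc]
    rw [e2, e3, hcc, Matrix.one_mul, inv_val_mul_val, Matrix.mul_one] at e1
    exact e1.symm
  have hu : uu.1 = !![1, 1; 0, 1] := rfl
  rw [hu] at hku
  have h00 := congrFun (congrFun hku 0) 0
  have h01 := congrFun (congrFun hku 0) 1
  simp only [Matrix.mul_apply, Fin.sum_univ_two] at h00 h01
  simp only [_root_.Fin.isValue, _root_.Matrix.of_apply, _root_.Matrix.cons_val', _root_.Matrix.cons_val_zero, _root_.Matrix.cons_val_fin_one, _root_.mul_one, _root_.Matrix.cons_val_one, _root_.MulZeroClass.mul_zero, _root_.add_zero, _root_.one_mul, _root_.left_eq_add] at h00 h01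
  have hdet : g.1.det = (k 0 0) ^ 2 := by
    have e1 : k.det = g.1.det := by
      rw [hk, Matrix.det_mul, (c⁻¹).2, one_mul]
    rw [← e1, Matrix.det_fin_two]
    have h10 : k 1 0 = 0 := by
      first
        | exact h00
        | linear_combination h00
        | linear_combination (-1 : ZMod 7) * h00
    have h11 : k 1 1 = k 0 0 := by
      first
        | linear_combination h01
        | linear_combination (-1 : ZMod 7) * h01
    rw [h10, h11]; ring
  have hd : k 0 0 ≠ 0 := by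
    intro h0
    have hne : g.1.det ≠ 0 := (Matrix.GeneralLinearGroup.det g).ne_zero
    rw [hdet, h0] at hne
    simp at hne
  exact Cfsg.Agent.Lib.AutSL2Out.conjGL_of_det_sq g (k 0 0) hd hdet

/-- the projection -/
abbrev pr : SL7 →* PSL7 := QuotientGroup.mk' (Subgroup.center SL7)

theorem pr_surj : Function.Surjective pr := QuotientGroup.mk'_surjective _

theorem ker_pr : pr.ker = Subgroup.center SL7 := QuotientGroup.ker_mk' _

theorem center_cases {x : SL7} (hx : x ∈ Subgroup.center SL7) : x = 1 ∨ x = H984.SLTwo.z0 :=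
  Cfsg.Agent.H672.SL2Graph.mem_center_cases hx

theorem z0_mem : (H984.SLTwo.z0 : SL7) ∈ Subgroup.center SL7 := by
  rw [Subgroup.mem_center_iff]
  intro g
  have h : ((H984.SLTwo.z0 : SL7) : Matrix (Fin 2) (Fin 2) (ZMod 7)) = -1 := by
    rw [H984.SLTwo.z0, H984.SLTwo.coe_upp]
    decide
  apply Matrix.SpecialLinearGroup.ext
  intro i j
  rw [Matrix.SpecialLinearGroup.coe_mul, Matrix.SpecialLinearGroup.coe_mul, h]
  simp

theorem z0_ne : (H984.SLTwo.z0 : SL7) ≠ 1 := by
  intro h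
  have h1 := congrArg (fun x : SL7 => (x : Matrix (Fin 2) (Fin 2) (ZMod 7)) 0 0) h
  simp only [H984.SLTwo.z0, H984.SLTwo.coe_upp] at h1
  revert h1
  decide

theorem sl_perfect : commutator SL7 = ⊤ := TwoFusion.SLTwoFacts.commutator_eq_top (by rw [card7]; norm_num)

theorem center_psl : Subgroup.center PSL7 = ⊥ :=
  (Cfsg.Agent.Omega.Lie.PairRee.psl_facts (F := ZMod 7) (by rw [Nat.card_eq_fintype_card, card7]; norm_num)).2.1

/-- two homomorphisms of a perfect group which agree modulo a central kernel are equal -/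
theorem hom_ext_of_central {S : Type*} [Group S] {N : Type*} [Group N] {Q : Type*} [Group Q] (hS : commutator S = ⊤)
    (f : N →* Q) (hf : f.ker ≤ Subgroup.center N) (φ ψ : S →* N) (h : ∀ x, f (φ x) = f (ψ x)) : φ = ψ := by
  have hc : ∀ x, φ x * (ψ x)⁻¹ ∈ Subgroup.center N := fun x => hf (by
    rw [MonoidHom.mem_ker, map_mul, map_inv, h, mul_inv_cancel])
  let δ : S →* Subgroup.center N :=
    { toFun := fun x => ⟨φ x * (ψ x)⁻¹, hc x⟩
      map_one' := Subtype.ext (by simp only [_root_.map_one, _root_.inv_one, _root_.mul_one, _root_.OneMemClass.coe_one])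
      map_mul' := fun x y => Subtype.ext (by
        change φ (x * y) * (ψ (x * y))⁻¹ = φ x * (ψ x)⁻¹ * (φ y * (ψ y)⁻¹)
        have h1 := Subgroup.mem_center_iff.1 (hc y) (φ x)
        rw [map_mul, map_mul, mul_inv_rev]
        calc φ x * φ y * ((ψ y)⁻¹ * (ψ x)⁻¹) = φ x * (φ y * (ψ y)⁻¹) * (ψ x)⁻¹ := by group
          _ = φ y * (ψ y)⁻¹ * φ x * (ψ x)⁻¹ := by rw [h1]
          _ = φ y * (ψ y)⁻¹ * (φ x * (ψ x)⁻¹) := by group
          _ = φ x * (ψ x)⁻¹ * (φ y * (ψ y)⁻¹) := (Subgroup.mem_center_iff.1 (hc y) _).symm) }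
  have h1 : commutator S ≤ δ.ker := by
    rw [commutator_def, Subgroup.commutator_le]
    intro x _ y _
    rw [MonoidHom.mem_ker, map_commutatorElement, commutatorElement_eq_one_iff_mul_comm]
    exact Subtype.ext (Subgroup.mem_center_iff.1 (δ y).2 _)
  ext x
  have h2 : x ∈ δ.ker := h1 (hS ▸ Subgroup.mem_top x)
  have h3 : φ x * (ψ x)⁻¹ = 1 := congrArg Subtype.val (MonoidHom.mem_ker.1 h2)
  exact mul_inv_eq_one.1 h3

/-- no odd or characteristic covers of `SL₂(7)` -/
theorem noPCov {r : ℕ} (hr : r.Prime) : H67.NoPCov r SL7 := by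
  have hc : Nat.card (ZMod 7) = 7 := by rw [Nat.card_eq_fintype_card, card7]
  refine H60.MultA.noPCov_SL ⟨le_rfl, fun _ => by omega, by
          simp only [Set.mem_insert_iff, Set.mem_singleton_iff, Prod.mk.injEq, not_or, not_and]
          refine ⟨fun _ => by omega, fun _ => by omega, by norm_num, by norm_num, by norm_num⟩⟩ hr

/-! ### the degrees -/

/-- the degrees of the characters of `PSL₂(7)` -/
theorem degree_psl {ψ : PSL7 → ℂ} (hψ : IsIrrCharacter PSL7 ψ) :
    charDegree ψ = 1 ∨ charDegree ψ = 3 ∨ 6 ≤ charDegree ψ := by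
  have hodd : Odd (Fintype.card (ZMod 7)) := by rw [card7]; decide
  have h1 : IsIrrCharacter SL7 (ψ ∘ pr) := isIrr_comp pr pr_surj hψ
  have h2 : (ψ ∘ pr) 1 = ((charDegree ψ : ℕ) : ℂ) := by
    rw [coe_charDegree hψ, Function.comp_apply, map_one]
  have h3 := (S2299.result hodd).1 _ h1
  rw [h2, card7] at h3
  have e4 : (7 + 1) / 2 = 4 := by norm_num
  have e5 : (7 - 1) / 2 = 3 := by norm_num
  rw [e4, e5] at h3
  have h7 : charDegree ψ = 1 ∨ charDegree ψ = 7 ∨ charDegree ψ = 8 ∨ charDegree ψ = 6 ∨ charDegree ψ = 4 ∨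
      charDegree ψ = 3 := by
    rcases h3 with h | h | h | h | h | h
    · left; exact_mod_cast h
    · right; left; exact_mod_cast h
    · right; right; left
      have : ((charDegree ψ : ℕ) : ℂ) = ((8 : ℕ) : ℂ) := by rw [h]; norm_num
      exact_mod_cast this
    · right; right; right; left
      have : ((charDegree ψ : ℕ) : ℂ) = ((6 : ℕ) : ℂ) := by rw [h]; norm_num
      exact_mod_cast this
    · right; right; right; right; left; exact_mod_cast h
    · right; right; right; right; right; exact_mod_cast h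
  by_cases h4 : charDegree ψ = 4
  · exfalso
    have h5 := H686.SLHalf.halves_plus (F := ZMod 7) (by
      have := ZMod.ringChar_zmod_n 7
      rw [this]; norm_num) (m := 3) (by rw [card7]) (by norm_num) h1 (fun g => by
        have : pr (H984.SLTwo.z0 * g) = pr g := by
          rw [map_mul]
          have h6 : pr (H984.SLTwo.z0 : SL7) = 1 := by
            rw [← MonoidHom.mem_ker, ker_pr]; exact z0_mem
          rw [h6, one_mul]
        rw [Function.comp_apply, Function.comp_apply, this]) (by rw [h2, h4])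
    exact absurd h5 (by decide)
  · omega

end Cfsg.Agent.H287.SLThree
end

-- part: H287/SL3/Two
section
/-!
# S4855, `q = 2` (helper287), third part: `G = G' × C(G')`, `G' ≅ PSL₂(7)`
-/

set_option autoImplicit false

namespace Cfsg.Agent.H287.SLThree

open Cfsg Cfsg.Agent.Characters Cfsg.Agent.Characters.Core Cfsg.Agent.H681 Cfsg.Agent.H681.DegBasic
open Cfsg.Agent.H691 Cfsg.Agent.H672
open Cfsg.Agent.H279.CentProd
open scoped commutatorElement

universe u v

local notation "SL7" => Matrix.SpecialLinearGroup (Fin 2) (ZMod 7)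
local notation "PSL7" => Matrix.ProjectiveSpecialLinearGroup (Fin 2) (ZMod 7)

section inv

variable {G : Type u} [Group G] [Finite G] {N : Subgroup G} [hN : N.Normal]

/-- If there are two characters of a given degree of a group `S` with quotient `N` and one is invariant, both are. -/
theorem inertia_of_card_two' {S : Type*} [Group S] [Finite S] (η : S →* N) (hη : Function.Surjective η) {c : ℂ}
    (h : Nat.card {χ : IrrCharacter S // (χ : S → ℂ) 1 = c} = 2) {θ' : N → ℂ} (hθ' : IsIrrCharacter N θ')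
    (hc' : θ' 1 = c) (hinv : inertia N θ' = ⊤) {θ : N → ℂ} (hθ : IsIrrCharacter N θ)
    (hc : θ 1 = c) : inertia N θ = ⊤ := by
  rw [Subgroup.eq_top_iff']
  intro g
  rw [mem_inertia]
  by_cases hne : θ = θ'
  · subst hne
    have := (hinv ▸ Subgroup.mem_top g : g ∈ inertia N θ)
    exact mem_inertia.1 this
  have hinj : ∀ a b : N → ℂ, a ∘ η = b ∘ η → a = b := by
    intro a b hab
    funext n
    obtain ⟨s, rfl⟩ := hη n
    exact congrFun hab s
  let mkI : ∀ a : N → ℂ, IsIrrCharacter N a → a 1 = c → {χ : IrrCharacter S // (χ : S → ℂ) 1 = c} :=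
    fun a ha ha1 => ⟨⟨a ∘ η, isIrr_comp η hη ha⟩, by simpa only [_root_.Function.comp_apply, _root_.map_one] using ha1⟩
  have hmk : ∀ a ha ha1 b hb hb1, mkI a ha ha1 = mkI b hb hb1 → a = b := by
    intro a ha ha1 b hb hb1 hab
    exact hinj _ _ (congrArg (fun x => (x.1 : S → ℂ)) hab)
  have hg1 : (θ ∘ (MulAut.conjNormal g : MulAut N)) 1 = c := by simpa only [_root_.Function.comp_apply, _root_.map_one] using hc
  obtain ⟨x, y, hxy, huniv⟩ := Nat.card_eq_two_iff.1 h
  have hall : ∀ z : {χ : IrrCharacter S // (χ : S → ℂ) 1 = c}, z = x ∨ z = y := by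
    intro z
    have : z ∈ ({x, y} : Set _) := huniv ▸ Set.mem_univ z
    simpa using this
  have h1 := hall (mkI θ hθ hc)
  have h2 := hall (mkI θ' hθ' hc')
  have h3 := hall (mkI _ (isIrr_conj' hθ g) hg1)
  have hne' : mkI θ hθ hc ≠ mkI θ' hθ' hc' := fun h' => hne (hmk _ hθ hc _ hθ' hc' h')
  have h4 : mkI _ (isIrr_conj' hθ g) hg1 = mkI θ hθ hc ∨ mkI _ (isIrr_conj' hθ g) hg1 = mkI θ' hθ' hc' := by
    rcases h1 with h1 | h1 <;> rcases h2 with h2 | h2 <;> rcases h3 with h3 | h3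
    · exact absurd (h1.trans h2.symm) hne'
    · exact absurd (h1.trans h2.symm) hne'
    · exact Or.inl (h3.trans h1.symm)
    · exact Or.inr (h3.trans h2.symm)
    · exact Or.inr (h3.trans h2.symm)
    · exact Or.inl (h3.trans h1.symm)
    · exact absurd (h1.trans h2.symm) hne'
    · exact absurd (h1.trans h2.symm) hne'
  rcases h4 with h4 | h4
  · exact hmk _ (isIrr_conj' hθ g) hg1 _ hθ hc h4
  · exfalso
    have h5 := hmk _ (isIrr_conj' hθ g) hg1 _ hθ' hc' h4
    have h6 : g⁻¹ ∈ inertia N θ' := hinv ▸ Subgroup.mem_top _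
    have h7 := mem_inertia.1 h6
    apply hne
    rw [← h7, ← h5]
    funext n
    simp

/-- large degrees: invariance -/
theorem inertia_of_large' {M : ℕ} (hM : ∀ d ∈ charDegrees G, d ≤ M) {θ : N → ℂ} (hθ : IsIrrCharacter N θ)
    (hd : M < 2 * charDegree θ) : inertia N θ = ⊤ := by
  obtain ⟨χ, hχ, hover⟩ := exists_over_subtype N hθ
  have h1 := index_mul_charDegree_dvd N hχ hθ hover
  have h2 : charDegree χ ∈ charDegrees G := ⟨⟨χ, hχ⟩, rfl⟩
  have h3 := hM _ h2
  have h4 := pos_of_mem h2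
  have h5' := Nat.le_of_dvd h4 h1
  rw [← Subgroup.index_eq_one]
  by_contra hne
  have h6 : (inertia N θ).index ≠ 0 := Subgroup.index_ne_zero_of_finite
  have h7 : 2 ≤ (inertia N θ).index := by omega
  have h8 : 2 * charDegree θ ≤ (inertia N θ).index * charDegree θ := Nat.mul_le_mul_right _ h7
  omega

/-- linear characters of a perfect group are trivial -/
theorem eq_one_of_linear {S : Type*} [Group S] [Finite S] (hS : commutator S = ⊤) {θ : S → ℂ}
    (hθ : IsIrrCharacter S θ) (h1 : θ 1 = 1) : θ = 1 := by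
  obtain ⟨f, rfl⟩ := Linear.exists_hom_of_isIrrCharacter hθ h1
  funext n
  have h4 : commutator S ≤ f.ker := Abelianization.commutator_subset_ker f
  have h5 : f n = 1 := h4 (by rw [hS]; trivial)
  simp [h5]

end inv

section main

variable {G : Type u} [Group G] [Finite G] {N : Subgroup G} [hN : N.Normal]

/-- **Invariance**: all characters of `PSL₂(7)`. -/
theorem inertia_psl (hD : charDegrees G = {1, 3, 6, 7, 8}) (hNp : commutator N = ⊤) (hG : commutator G = N)
    (f : N →* PSL7) (hf : Function.Surjective f) (η : SL7 →* N) (hη : Function.Surjective η)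
    {ψ : PSL7 → ℂ} (hψ : IsIrrCharacter PSL7 ψ) : inertia N (ψ ∘ f) = ⊤ := by
  classical
  have hθ : IsIrrCharacter N (ψ ∘ f) := isIrr_comp f hf hψ
  have hdeg : charDegree (ψ ∘ f) = charDegree ψ := by
    apply charDegree_of_eq
    rw [Function.comp_apply, map_one, coe_charDegree hψ]
  have mem : ∀ n : ℕ, n ∈ charDegrees G ↔ (n = 1 ∨ n = 3 ∨ n = 6 ∨ n = 7 ∨ n = 8) := by
    intro n
    rw [hD]
    simp only [Set.mem_insert_iff, Set.mem_singleton_iff]
  rcases degree_psl hψ with h1 | h3 | h6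
  · have h2 : ψ ∘ f = 1 := eq_one_of_linear hNp hθ (by
      rw [← coe_charDegree hθ, hdeg, h1, Nat.cast_one])
    rw [h2, Subgroup.eq_top_iff']
    intro g
    rw [mem_inertia]
    rfl
  · -- degree three
    have hmem : 3 ∈ charDegrees G := (mem 3).2 (by norm_num)
    obtain ⟨χ, hχ, hχd⟩ := mem_charDegrees.1 hmem
    obtain ⟨θ', hθ', hover⟩ := exists_under (f := N.subtype) hχ
    have hdvd := (charDegree_dvd_of_over N hχ hθ' hover).1
    rw [charDegree_of_eq hχd] at hdvd
    have hd' : charDegree θ' = 3 := by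
      rcases (Nat.dvd_prime Nat.prime_three).1 hdvd with h4 | h4
      · exfalso
        have h5 : θ' = 1 := eq_one_of_linear hNp hθ' (by
          rw [← coe_charDegree hθ', h4, Nat.cast_one])
        subst h5
        have h6 := degree_one_of_over_one (N := N) hG.le hχ hover
        rw [hχd] at h6
        norm_num at h6
      · exact h4
    have hres : χ ∘ N.subtype = θ' := by
      refine eq_of_over_of_charDegree_eq hχ hθ' hover ?_
      rw [charDegree_of_eq hχd, hd']
    have hinv : inertia N θ' = ⊤ := by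
      rw [Subgroup.eq_top_iff']
      intro g
      rw [mem_inertia, ← hres]
      exact Cfsg.Agent.Characters.Clifford.restrict_comp_conjNormal (isIrr_isClassFunction hχ) g
    have hcard : Nat.card {χ : IrrCharacter SL7 // (χ : SL7 → ℂ) 1 = ((3 : ℕ) : ℂ)} = 2 := by
      have hodd : Odd (Fintype.card (ZMod 7)) := by rw [card7]; decide
      have h6 := ((S2299.result hodd).2 (by rw [card7]; norm_num)).2.2.2.2.2
      rw [card7] at h6
      exact h6
    exact inertia_of_card_two' η hη hcard hθ' (by rw [← coe_charDegree hθ', hd']) hinv hθ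
      (by rw [← coe_charDegree hθ, hdeg, h3])
  · refine inertia_of_large' (M := 8) (fun d hd => ?_) hθ (by omega)
    rw [mem] at hd
    omega

/-- **`G = N C_G(N)`.** -/
theorem sup_eq_top' (hD : charDegrees G = {1, 3, 6, 7, 8}) (hNp : commutator N = ⊤) (hG : commutator G = N)
    (f : N →* PSL7) (hf : Function.Surjective f) (hfc : f.ker ≤ Subgroup.center N) (η : SL7 →* N)
    (hη : Function.Surjective η) (hfη : f.comp η = pr) : N ⊔ Subgroup.centralizer (N : Set G) = ⊤ := by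
  classical
  rw [Subgroup.eq_top_iff']
  intro g
  have hfη' : ∀ x, f (η x) = pr x := fun x => DFunLike.congr_fun hfη x
  -- elements over the centre of `PSL₂(7)`
  have hker : ∀ n : N, n ∈ Subgroup.center N → f n = 1 := by
    intro n hn
    have h1 : f n ∈ Subgroup.center PSL7 := by
      rw [Subgroup.mem_center_iff]
      intro y
      obtain ⟨m, rfl⟩ := hf y
      rw [← map_mul, ← map_mul, Subgroup.mem_center_iff.1 hn m]
    rwa [center_psl, Subgroup.mem_bot] at h1
  -- the automorphism of `SL₂(7)`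
  let c : MulAut N := MulAut.conjNormal g
  let f' : SL7 →* PSL7 := f.comp (c.toMonoidHom.comp η)
  have hf' : Function.Surjective f' := hf.comp (c.surjective.comp hη)
  have hf'c : f'.ker ≤ Subgroup.center SL7 := by
    intro x hx
    have h1 : c (η x) ∈ f.ker := hx
    have h2 : c (η x) ∈ Subgroup.center N := hfc h1
    have h3 : η x ∈ Subgroup.center N := by
      rw [Subgroup.mem_center_iff]
      intro y
      apply c.injective
      rw [map_mul, map_mul]
      exact Subgroup.mem_center_iff.1 h2 (c y)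
    have h4 := hker _ h3
    rw [hfη', ← MonoidHom.mem_ker, ker_pr] at h4
    exact h4
  obtain ⟨α₀, hα₀, hfα⟩ := H686.SLCover.exists_surj sl_perfect sl_perfect f' hf' hf'c pr pr_surj
    (by rw [ker_pr]) (fun r hr _ => noPCov hr)
  have hα₀' : Function.Injective α₀ := Finite.injective_iff_surjective.2 hα₀
  let α : MulAut SL7 := MulEquiv.ofBijective α₀ ⟨hα₀', hα₀⟩
  have key : ∀ x, c (η (α x)) = η x := by
    have h1 := hom_ext_of_central sl_perfect f hfc ((c.toMonoidHom.comp η).comp α₀) η (fun x => by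
      have h2 := DFunLike.congr_fun hfα x
      rw [hfη']
      exact h2)
    intro x
    exact DFunLike.congr_fun h1 x
  -- fusion of `u`
  have hconj : IsConj (pr (α uu)) (pr uu) := by
    apply Cfsg.Agent.Characters.GaloisIrr.isConj_of_forall_irr
    intro ψ hψ
    have h1 : g ∈ inertia N (ψ ∘ f) := by
      rw [inertia_psl hD hNp hG f hf η hη hψ]; exact Subgroup.mem_top g
    have h2 := congrFun (mem_inertia.1 h1) (η (α uu))
    have h3 : (ψ ∘ f) (c (η (α uu))) = (ψ ∘ f) (η (α uu)) := h2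
    rw [key, Function.comp_apply, Function.comp_apply, hfη', hfη'] at h3
    exact h3.symm
  have hconj' : IsConj (α uu) uu := by
    obtain ⟨t, ht⟩ := isConj_iff.1 hconj
    obtain ⟨s, rfl⟩ := pr_surj t
    rw [← map_inv, ← map_mul, ← map_mul] at ht
    have h1 : (s * α uu * s⁻¹)⁻¹ * uu ∈ Subgroup.center SL7 := by
      rw [← ker_pr, MonoidHom.mem_ker, map_mul, map_inv, ht, inv_mul_cancel]
    rcases center_cases h1 with h2 | h2
    · exact isConj_iff.2 ⟨s, (inv_mul_eq_one.1 h2)⟩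
    · exfalso
      have h3 : (s * α uu * s⁻¹) * H984.SLTwo.z0 = uu := by rw [← h2]; group
      have h4 : (s * α uu * s⁻¹) ^ 7 = 1 := by
        rw [conj_pow, ← map_pow, uu_pow, map_one, mul_one, mul_inv_cancel]
      have h5 : Commute (s * α uu * s⁻¹) H984.SLTwo.z0 := Subgroup.mem_center_iff.1 z0_mem _
      have h6 : uu ^ 7 = (H984.SLTwo.z0 : SL7) ^ 7 := by rw [← h3, h5.mul_pow, h4, one_mul]
      rw [uu_pow] at h6
      have h7 : (H984.SLTwo.z0 : SL7) ^ 2 = 1 := by rw [pow_two]; exact H984.SLTwo.z0_mul_self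
      have h8 : (H984.SLTwo.z0 : SL7) ^ 7 = H984.SLTwo.z0 := by
        rw [pow_succ, pow_mul _ 2 3, h7, one_pow, one_mul]
      exact z0_ne (h8.symm.trans h6.symm)
  obtain ⟨s, hs⟩ := inner_of_isConj_uu α hconj'
  -- `g η(s)` centralizes `N`
  have hmem : g * (η s : G) ∈ Subgroup.centralizer (N : Set G) := by
    rw [Subgroup.mem_centralizer_iff]
    intro n hn
    obtain ⟨x, hx⟩ := hη ⟨n, hn⟩
    have h0 : η (α x) = η s * ⟨n, hn⟩ * (η s)⁻¹ := by
      rw [hs, map_mul, map_mul, map_inv, hx]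
    have h1 := congrArg Subtype.val (key x)
    rw [h0, hx] at h1
    have h2 : g * ((η s : G) * n * (η s : G)⁻¹) * g⁻¹ = n := by
      have h3 : (((c (η s * ⟨n, hn⟩ * (η s)⁻¹) : N)) : G) = g * ((η s : G) * n * (η s : G)⁻¹) * g⁻¹ := by
        rw [MulAut.conjNormal_apply]; rfl
      rw [← h3]; exact h1
    calc n * (g * (η s : G)) = g * ((η s : G) * n * (η s : G)⁻¹) * g⁻¹ * (g * (η s : G)) := by rw [h2]
      _ = g * (η s : G) * n := by group
  have hg : g = (g * (η s : G)) * ((η s : G))⁻¹ := by group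
  rw [hg]
  exact Subgroup.mul_mem _ (Subgroup.mem_sup_right hmem) (Subgroup.mem_sup_left (N.inv_mem (η s).2))

end main

end Cfsg.Agent.H287.SLThree
end

-- part: H287/SL3/Three
section
/-!
# S4855, `q = 2` (helper287), fourth part: the centralizer of `G'` is abelian, `G' ≅ PSL₂(7)`
-/

set_option autoImplicit false

namespace Cfsg.Agent.H287.SLThree

open Cfsg Cfsg.Agent.Characters Cfsg.Agent.Characters.Core Cfsg.Agent.H681 Cfsg.Agent.H681.DegBasic
open Cfsg.Agent.H691 Cfsg.Agent.H672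
open Cfsg.Agent.H279.CentProd
open scoped commutatorElement

universe u v

local notation "SL7" => Matrix.SpecialLinearGroup (Fin 2) (ZMod 7)
local notation "PSL7" => Matrix.ProjectiveSpecialLinearGroup (Fin 2) (ZMod 7)

section main

variable {G : Type u} [Group G] [Finite G] {N : Subgroup G} [hN : N.Normal]

/-- If the derived subgroup is `SL₂(7)` then its centralizer is abelian. -/
theorem centralizer_comm_sl (hM : ∀ n ∈ charDegrees G, n ≤ 8) (hG : commutator G = N) (e : N ≃* SL7)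
    (hsup : N ⊔ Subgroup.centralizer (N : Set G) = ⊤) (a b : Subgroup.centralizer (N : Set G)) :
    a * b = b * a := by
  classical
  subst hG
  by_contra hab
  have hnc : ¬ ∀ a b : Subgroup.centralizer (commutator G : Set G), a * b = b * a := fun h => hab (h a b)
  rw [S0187.result] at hnc
  push Not at hnc
  obtain ⟨ψ, hψ1⟩ := hnc
  -- an element of the derived subgroup of the centralizer outside the kernel
  obtain ⟨c, hc, hcψ⟩ : ∃ c ∈ commutator (Subgroup.centralizer (commutator G : Set G)),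
      (ψ : Subgroup.centralizer (commutator G : Set G) → ℂ) c ≠
        (ψ : Subgroup.centralizer (commutator G : Set G) → ℂ) 1 := by
    by_contra hcon
    push Not at hcon
    obtain ⟨χ', h1, h2⟩ := Cfsg.Agent.OddOrderCharacters.PF9.Reducible.exists_of_surjective
      (QuotientGroup.mk' (commutator (Subgroup.centralizer (commutator G : Set G))))
      (QuotientGroup.mk'_surjective _) ψ.2 (fun g hg => hcon g ((QuotientGroup.eq_one_iff g).1 hg))
    have hab' : ∀ a b : (Subgroup.centralizer (commutator G : Set G)) ⧸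
        commutator (Subgroup.centralizer (commutator G : Set G)), a * b = b * a :=
      fun a b => mul_comm (G := Abelianization (Subgroup.centralizer (commutator G : Set G))) a b
    have h3 := S0187.result.1 hab' ⟨χ', h1⟩
    apply hψ1
    rw [← h2 1, map_one]
    exact h3
  have hcG : (c : G) ∈ commutator G := by
    have h1 : ∀ C : Subgroup G, (commutator C).map C.subtype ≤ commutator G := by
      intro C
      rw [commutator_def C, Subgroup.map_commutator, commutator_def]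
      exact Subgroup.commutator_mono le_top le_top
    exact h1 _ ⟨c, hc, rfl⟩
  have hcz : ∀ n : G, n ∈ commutator G → n * c = c * n := fun n hn =>
    Subgroup.mem_centralizer_iff.1 c.2 n hn
  set z : commutator G := ⟨c, hcG⟩ with hz
  have hcne : c ≠ 1 := fun h => hcψ (by rw [h])
  have hzne : e z ≠ 1 := by
    intro h
    have h1 : z = 1 := e.injective (by rw [h, map_one])
    apply hcne
    apply Subtype.ext
    exact congrArg (fun x : commutator G => (x : G)) h1
  have hzc : e z ∈ Subgroup.center SL7 := by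
    rw [Subgroup.mem_center_iff]
    intro x
    have h1 : e.symm x * z = z * e.symm x := Subtype.ext (hcz _ (e.symm x).2)
    have h2 := congrArg e h1
    simpa only [_root_.map_mul, _root_.MulEquiv.apply_symm_apply] using h2
  have hcases : ∀ x ∈ Subgroup.center SL7, x = 1 ∨ x = e z := by
    intro x hx
    rcases Cfsg.Agent.H672.SL2Graph.mem_center_cases hx with h1 | h1
    · exact Or.inl h1
    · rcases Cfsg.Agent.H672.SL2Graph.mem_center_cases hzc with h2 | h2
      · exact absurd h2 hzne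
      · exact Or.inr (h1.trans h2.symm)
  -- the field is odd
  have hodd : Odd (Fintype.card (ZMod 7)) := by rw [card7]; decide
  obtain ⟨θ, hθ, hθ1, hθz⟩ := exists_faithful (F := ZMod 7) (by rw [card7]; norm_num) hodd
  obtain ⟨hzz, hθz'⟩ := hθz (e z) hzc hzne
  have hcc : c * c = 1 := by
    have h1 : z * z = 1 := e.injective (by rw [map_mul, hzz, map_one])
    apply Subtype.ext
    exact congrArg (fun x : commutator G => (x : G)) h1
  have hccen : c ∈ Subgroup.center (Subgroup.centralizer (commutator G : Set G)) := by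
    rw [Subgroup.mem_center_iff]
    intro x
    apply Subtype.ext
    exact (Subgroup.mem_centralizer_iff.1 x.2 c hcG).symm
  -- the value of `ψ` at `c`
  have hψc : (ψ : Subgroup.centralizer (commutator G : Set G) → ℂ) c =
      -(ψ : Subgroup.centralizer (commutator G : Set G) → ℂ) 1 := by
    have := Fintype.ofFinite (Subgroup.centralizer (commutator G : Set G))
    obtain ⟨w, -, hw⟩ := Cfsg.Agent.CharDeep.DegreeBound.exists_omega ψ.2 hccen
    have h1 := hw 1
    rw [one_mul] at h1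
    have h2 := hw c
    rw [hcc, h1] at h2
    have hne := isIrr_apply_one_ne_zero ψ.2
    have h3 : (w - 1) * (w + 1) = 0 := by
      have h4 : w * w = 1 := by
        apply mul_right_cancel₀ hne
        rw [one_mul, mul_assoc]
        exact h2.symm
      linear_combination h4
    rcases mul_eq_zero.1 h3 with h4 | h4
    · exfalso
      apply hcψ
      rw [h1, sub_eq_zero.1 h4, one_mul]
    · rw [h1, eq_neg_of_add_eq_zero_left h4]; ring
  -- the product character
  have hθ' : IsIrrCharacter (commutator G) (θ ∘ e) := isIrr_comp e.toMonoidHom e.surjective hθ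
  have hprod := Cfsg.Agent.S0188.isIrr_outer hθ' ψ.2
  obtain ⟨χ, hχ, hχ'⟩ := Cfsg.Agent.OddOrderCharacters.PF9.Reducible.exists_of_surjective
    (Cfsg.Agent.Blocks.CentralProduct.mulHom (commutator G))
    (Cfsg.Agent.Blocks.CentralProduct.mulHom_surjective hsup) hprod (by
      rintro ⟨n, x⟩ hnx
      rw [Cfsg.Agent.Blocks.CentralProduct.mulHom_apply] at hnx
      have hnx' : (n : G) * (x : G) = 1 := hnx
      have hn : (n : G) = (x : G)⁻¹ := eq_inv_of_mul_eq_one_left hnx'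
      have hncen : e n ∈ Subgroup.center SL7 := by
        rw [Subgroup.mem_center_iff]
        intro y
        have h1 : e.symm y * n = n * e.symm y := by
          apply Subtype.ext
          rw [Subgroup.coe_mul, Subgroup.coe_mul, hn]
          exact Subgroup.mem_centralizer_iff.1 (Subgroup.inv_mem _ x.2) _ (e.symm y).2
        have h2 := congrArg e h1
        simpa only [_root_.map_mul, _root_.MulEquiv.apply_symm_apply] using h2
      change θ (e n) * (ψ : Subgroup.centralizer (commutator G : Set G) → ℂ) x =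
        θ (e 1) * (ψ : Subgroup.centralizer (commutator G : Set G) → ℂ) 1
      rw [map_one]
      rcases hcases _ hncen with h1 | h1
      · have h2 : n = 1 := e.injective (by rw [h1, map_one])
        have h3 : x = 1 := by
          apply Subtype.ext
          rw [h2] at hnx'
          simpa only [_root_.OneMemClass.coe_one, _root_.OneMemClass.coe_eq_one, _root_.one_mul] using hnx'
        rw [h1, h3]
      · have h2 : n = z := e.injective h1
        have h3 : x = c := by
          apply Subtype.ext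
          rw [h2] at hnx'
          have h4 : (c : G) * (x : G) = 1 := hnx'
          have h5' : (c : G) * (c : G) = 1 := congrArg Subtype.val hcc
          exact mul_left_cancel (h4.trans h5'.symm)
        rw [h1, h3, hθz', hψc]; ring)
  have hχ1 : χ 1 = θ 1 * (ψ : Subgroup.centralizer (commutator G : Set G) → ℂ) 1 := by
    have h1 := hχ' 1
    rw [map_one] at h1
    rw [h1]
    change θ (e 1) * _ = _
    rw [map_one]
    rfl
  obtain ⟨m, hm0, hm⟩ := isIrr_apply_one ψ.2
  have hm1 : m ≠ 1 := by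
    rintro rfl
    exact hψ1 (by rw [hm, Nat.cast_one])
  have hmem : (7 + 1) * m ∈ charDegrees G := by
    refine mem_charDegrees.2 ⟨χ, hχ, ?_⟩
    rw [hχ1, hθ1, hm, card7]; push_cast; ring
  have hle := hM _ hmem
  omega

omit [Finite G] hN in
/-- The centralizer of a centreless derived subgroup is abelian. -/
theorem centralizer_comm_of_center (hG : commutator G = N) (hZ : Subgroup.center N = ⊥)
    (a b : Subgroup.centralizer (N : Set G)) : a * b = b * a := by
  have h1 : ((a * b * a⁻¹ * b⁻¹ : Subgroup.centralizer (N : Set G)) : G) ∈ Subgroup.centralizer (N : Set G) :=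
    (a * b * a⁻¹ * b⁻¹ : Subgroup.centralizer (N : Set G)).2
  have h2 : ((a * b * a⁻¹ * b⁻¹ : Subgroup.centralizer (N : Set G)) : G) ∈ N :=
    hG.le (Subgroup.commutator_mem_commutator (Subgroup.mem_top (a : G)) (Subgroup.mem_top (b : G)))
  have h3 : (⟨_, h2⟩ : N) ∈ Subgroup.center N := by
    rw [Subgroup.mem_center_iff]
    intro n
    exact Subtype.ext (Subgroup.mem_centralizer_iff.1 h1 n n.2)
  rw [hZ, Subgroup.mem_bot] at h3
  have h4 : a * b * a⁻¹ * b⁻¹ = 1 := Subtype.ext (congrArg (fun x : N => (x : G)) h3)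
  exact commutatorElement_eq_one_iff_mul_comm.1 h4

/-- **The extension is the simple group `PSL₂(7)`**, and the centralizer is abelian. -/
theorem final (hD : charDegrees G = {1, 3, 6, 7, 8}) (hNp : commutator N = ⊤) (hG : commutator G = N)
    (f : N →* PSL7) (hf : Function.Surjective f) (hfc : f.ker ≤ Subgroup.center N) :
    Nonempty (N ≃* PSL7) ∧ IsMulCommutative (Subgroup.centralizer (N : Set G)) ∧
      N ⊔ Subgroup.centralizer (N : Set G) = ⊤ := by
  classical
  obtain ⟨η, hη, hfη⟩ := H686.SLCover.exists_surj hNp sl_perfect f hf hfc pr pr_surj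
    (by rw [ker_pr]) (fun r hr _ => noPCov hr)
  have hsup := sup_eq_top' hD hNp hG f hf hfc η hη hfη
  have hfη' : ∀ x, f (η x) = pr x := fun x => DFunLike.congr_fun hfη x
  by_cases hinj : Function.Injective η
  · exfalso
    let e : N ≃* SL7 := (MulEquiv.ofBijective η ⟨hinj, hη⟩).symm
    have hab := centralizer_comm_sl (fun d hd => by
      rw [hD] at hd
      simp only [Set.mem_insert_iff, Set.mem_singleton_iff] at hd
      omega) hG e hsup
    have h1 := Back.charDegrees_of_central N (Subgroup.centralizer (N : Set G)) ⟨⟨hab⟩⟩ le_rfl hsup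
    have h2 : 4 ∈ charDegrees SL7 := by
      rw [Back.cd_sl (by rw [card7]; norm_num), card7]
      exact Or.inr (Or.inr (Or.inr (Or.inr (Or.inl (by norm_num)))))
    have h3 : 4 ∈ charDegrees G := by
      rw [h1]
      exact H681.DegBasic.charDegrees_comp e.toMonoidHom e.surjective h2
    rw [hD] at h3
    simp only [Set.mem_insert_iff, Set.mem_singleton_iff] at h3
    omega
  · -- the kernel of `η` is the centre
    obtain ⟨x, hx, hx1⟩ : ∃ x, η x = 1 ∧ x ≠ 1 := by
      by_contra hcon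
      push Not at hcon
      exact hinj ((injective_iff_map_eq_one η).2 hcon)
    have hxc : x ∈ Subgroup.center SL7 := by
      have h1 := hfη' x
      rw [hx, map_one] at h1
      rw [← ker_pr, MonoidHom.mem_ker, ← h1]
    have hxz : x = H984.SLTwo.z0 := (center_cases hxc).resolve_left hx1
    have hfinj : Function.Injective f := by
      rw [injective_iff_map_eq_one]
      intro n hn
      obtain ⟨y, rfl⟩ := hη n
      rw [hfη', ← MonoidHom.mem_ker, ker_pr] at hn
      rcases center_cases hn with h1 | h1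
      · rw [h1, map_one]
      · rw [h1, ← hxz, hx]
    let e : N ≃* PSL7 := MulEquiv.ofBijective f ⟨hfinj, hf⟩
    have hZ : Subgroup.center N = ⊥ := by
      rw [eq_bot_iff]
      intro n hn
      have h1 : e n ∈ Subgroup.center PSL7 := by
        rw [Subgroup.mem_center_iff]
        intro y
        obtain ⟨m, rfl⟩ := e.surjective y
        rw [← map_mul, ← map_mul, Subgroup.mem_center_iff.1 hn m]
      rw [center_psl, Subgroup.mem_bot] at h1
      rw [Subgroup.mem_bot]
      exact e.injective (h1.trans (map_one e).symm)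
    exact ⟨⟨e⟩, ⟨⟨centralizer_comm_of_center hG hZ⟩⟩, hsup⟩

end main

end Cfsg.Agent.H287.SLThree
end

-- part: H287/SL3/Main
section
/-!
# S4855, `q = 2` (helper287): the statement
-/

set_option autoImplicit false

open scoped commutatorElement

namespace Cfsg.Agent.H287.SLThree

open Cfsg Cfsg.Agent.Characters Cfsg.Agent.Characters.Core Cfsg.Agent.H681.DegBasic Cfsg.Agent.H686.CharKit
open Cfsg.Agent.H691 Cfsg.Agent.H691.Lie Cfsg.Agent.H691.Spor

universe u v

/-- `SL₃(2) ≅ PSL₂(7)` -/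
theorem sl_three_two {F : Type v} [Field F] [Fintype F] (h2 : Fintype.card F = 2) :
    Nonempty (Matrix.ProjectiveSpecialLinearGroup (Fin 2) (ZMod 7) ≃* Matrix.SpecialLinearGroup (Fin 3) F) := by
  classical
  have hs : IsSimpleGroup (Matrix.ProjectiveSpecialLinearGroup (Fin 3) F) :=
    LieClassical.SLGen.psl_isSimpleGroup (by simp)
  obtain ⟨e⟩ := S0495.result (G := Matrix.ProjectiveSpecialLinearGroup (Fin 3) F)
    (H3.CenT.card_psl_three_two h2) (F := ZMod 7) card7
  have hc : Subgroup.center (Matrix.SpecialLinearGroup (Fin 3) F) = ⊥ := by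
    rw [eq_bot_iff]
    intro x hx
    obtain ⟨r, hr, hrx⟩ := Matrix.SpecialLinearGroup.mem_center_iff.1 hx
    have hr0 : r ≠ 0 := by
      rintro rfl
      simp at hr
    have h1 : Fintype.card Fˣ = 1 := by rw [Fintype.card_units, h2]
    have hr1 : r = 1 := by
      have h3 := (Fintype.card_le_one_iff_subsingleton.1 h1.le).elim (Units.mk0 r hr0) 1
      exact congrArg Units.val h3
    rw [Subgroup.mem_bot]
    apply Subtype.ext
    rw [← hrx, hr1]
    simp
  have e1 : Matrix.SpecialLinearGroup (Fin 3) F ≃* Matrix.ProjectiveSpecialLinearGroup (Fin 3) F :=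
    MulEquiv.ofBijective (QuotientGroup.mk' (Subgroup.center (Matrix.SpecialLinearGroup (Fin 3) F)))
      ⟨by
        rw [← MonoidHom.ker_eq_bot_iff, QuotientGroup.ker_mk']
        exact hc, QuotientGroup.mk'_surjective _⟩
  exact ⟨(e1.trans e).symm⟩

/-- **S4855, `q = 2`**, modulo the classification and the data on sporadic groups. -/
theorem two_case (T : Cfsg.Agent.H691.Spor.TPs.{u})
    (hCF : ∀ (S : Type u) [Group S] [Finite S] [IsSimpleGroup S], IsKnownSimple' S)
    {G : Type u} [Group G] [Finite G] {F : Type v} [Field F] [Fintype F] (h2 : Fintype.card F = 2)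
    (hD : charDegrees G = {1, 3, 6, 7, 8}) :
    ∃ K A : Subgroup G, Nonempty (K ≃* Matrix.SpecialLinearGroup (Fin 3) F) ∧ IsMulCommutative A ∧
      A ≤ Subgroup.centralizer (K : Set G) ∧ K ⊔ A = ⊤ := by
  classical
  have hsub : charDegrees G ⊆ DS (7 ^ 1) := by
    rw [hD, pow_one]
    exact D_sub
  have h7 : 7 ^ 1 ∈ charDegrees G := by
    rw [hD]
    simp
  have hp : Nat.Prime 7 := by norm_num
  have hperf : ⁅commutator G, commutator G⁆ = commutator G := perfect_derived hD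
  obtain ⟨N, hN⟩ : ∃ N : Subgroup G, N = commutator G := ⟨_, rfl⟩
  have iN : N.Normal := by rw [hN]; infer_instance
  rw [← hN] at hperf
  have hNp : commutator N = ⊤ := by
    have h1 : (commutator N).map N.subtype = ⁅N, N⁆ := Subgroup.map_subtype_commutator N
    rw [hperf] at h1
    rw [eq_top_iff]
    intro x _
    have h2 : (x : G) ∈ (commutator N).map N.subtype := by rw [h1]; exact x.2
    obtain ⟨y, hy, hyx⟩ := h2
    have : y = x := Subtype.ext hyx
    rwa [← this]
  -- `N` is nontrivial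
  have hNnt : Nontrivial N := by
    obtain ⟨θ, hθ, -, hθ1⟩ := H686.SlCentral.exists_under N hNp hN.symm h7 (by norm_num)
    by_contra hcon
    rw [not_nontrivial_iff_subsingleton] at hcon
    apply hθ1
    have h1 := dvd_card (⟨⟨θ, hθ⟩, rfl⟩ : charDegree θ ∈ charDegrees N)
    rw [Nat.card_of_subsingleton (1 : N)] at h1
    exact Nat.dvd_one.1 h1
  obtain ⟨R₀, hR₀, hs⟩ := H677.CodMain.exists_simple_quotient (G := N)
  have hna : ¬ IsMulCommutative (N ⧸ R₀) := by
    have h1 : commutator (N ⧸ R₀) = ⊤ := by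
      rw [commutator_def, ← Subgroup.map_top_of_surjective _ (QuotientGroup.mk'_surjective R₀),
        ← Subgroup.map_commutator, ← commutator_def, hNp]
    exact Main.not_comm_of_perfect h1
  have hpd : 7 ∣ Nat.card (N ⧸ R₀) := p_dvd hp one_ne_zero hsub h7 N hNp hN.symm (by norm_num) R₀ hna
  have hE : ∀ (A : Type u) [Group A] [Finite A] (S : Subgroup A), AS A S → HasExt A S := by
    intro A _ _ S hAS
    have := hAS.simple
    exact Ident.known_hasExt T hAS (hCF S)
  have hRn : (R₀.map N.subtype).Normal :=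
    ExtChar.top_of_hasExt N hN.ge R₀ hs hna hE (by norm_num) hsub
  set R : Subgroup G := R₀.map N.subtype with hR
  have hRN : R ≤ N := by
    rintro _ ⟨n, -, rfl⟩
    exact n.2
  have hRsub : R.subgroupOf N = R₀ := by
    ext n
    rw [Subgroup.mem_subgroupOf]
    constructor
    · rintro ⟨m, hm, h⟩
      have : m = n := Subtype.ext h
      rwa [← this]
    · exact fun h => ⟨n, h, rfl⟩
  have hs' : IsSimpleGroup (N ⧸ R.subgroupOf N) :=
    (QuotientGroup.quotientMulEquivOfEq hRsub).isSimpleGroup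
  have hna' : ¬ IsMulCommutative (N ⧸ R.subgroupOf N) := fun hc =>
    hna ⟨⟨fun a b => (QuotientGroup.quotientMulEquivOfEq hRsub).symm.injective
      (by rw [map_mul, map_mul]; exact hc.is_comm.comm _ _)⟩⟩
  obtain ⟨hAS, e₁, -⟩ := AExt.exists_AS hRN hs' hna' hN.ge
  -- the socle is `PSL₂(7)`
  have hpS : 7 ∣ Nat.card (N.map (QuotientGroup.mk' (AExt.KK N R))) := by
    rw [← Nat.card_congr e₁.toEquiv, Nat.card_congr (QuotientGroup.quotientMulEquivOfEq hRsub).toEquiv]
    exact hpd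
  have hDA : charDegrees (G ⧸ AExt.KK N R) ⊆ DS (7 ^ 1) := fun d hd =>
    hsub (charDegrees_comp (QuotientGroup.mk' (AExt.KK N R)) (QuotientGroup.mk'_surjective _) hd)
  have hknown : IsKnownSimple' (N.map (QuotientGroup.mk' (AExt.KK N R))) := by
    have := hAS.simple
    exact hCF _
  obtain ⟨K, iK, iK', hKc, ⟨e₂⟩⟩ := Ident.ident T hAS hp (by norm_num) hpS hDA hknown
  have eF : K ≃+* ZMod 7 := FiniteField.ringEquivOfCardEq (by rw [hKc, card7, pow_one])
  let e : (N ⧸ R.subgroupOf N) ≃* Matrix.ProjectiveSpecialLinearGroup (Fin 2) (ZMod 7) :=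
    (e₁.trans e₂).trans (LieClassical.FieldTransfer.pslCongr eF)
  have hRc : R ≤ Subgroup.centralizer (N : Set G) :=
    H669.SlTwoE.central_of_psl (F := ZMod 7) (by rw [card7]; norm_num)
      (by rw [card7]; rw [pow_one] at hsub; exact hsub) N R hRN hperf e
  let f : N →* Matrix.ProjectiveSpecialLinearGroup (Fin 2) (ZMod 7) :=
    e.toMonoidHom.comp (QuotientGroup.mk' (R.subgroupOf N))
  have hf : Function.Surjective f := e.surjective.comp (QuotientGroup.mk'_surjective _)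
  have hfc : f.ker ≤ Subgroup.center N := by
    intro x hx
    have h1 : e (QuotientGroup.mk x) = 1 := hx
    have h2 : (QuotientGroup.mk x : N ⧸ R.subgroupOf N) = 1 := by
      rwa [EmbeddingLike.map_eq_one_iff] at h1
    have h3 : (x : G) ∈ R := (QuotientGroup.eq_one_iff x).1 h2
    have h4 := Subgroup.mem_centralizer_iff.1 (hRc h3)
    rw [Subgroup.mem_center_iff]
    intro y
    exact Subtype.ext (h4 y y.2)
  obtain ⟨⟨e₃⟩, h6, h8⟩ := final hD hNp hN.symm f hf hfc
  obtain ⟨e₄⟩ := sl_three_two h2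
  exact ⟨N, Subgroup.centralizer (N : Set G), ⟨e₃.trans e₄⟩, h6, le_rfl, h8⟩

end Cfsg.Agent.H287.SLThree
end
end

-- part: H691/T3/Main
section
prune_inst 0xf01003303e40020000000504000060106800049010040000408008000000000000004000028020040008000000000000000000800000000000000000000001000000000020000000020018000000010000000000000000000000000000000004004010002
set_option linter.all false
open scoped Cfsg.Agent.FastGrp

-- part: H953/InvA
section
/-!
# Exceptional characters of a CC-subgroup fixed by an automorphism (helper953, task 2532 of helper691, S4855)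
-/

set_option autoImplicit false

namespace Cfsg.Agent.H953.InvT

open Cfsg Cfsg.Agent.H678.CCExact Cfsg.Agent.Characters.CCBasic Cfsg.Agent.Characters.CCEstimates
  Cfsg.Agent.Characters.CCValues
open scoped ComplexConjugate

universe u

variable {G : Type u} [Group G] [Fintype G]

theorem sum_normSq [Fintype (IrrCharacter G)] (x : G) :
    ∑ ψ : IrrCharacter G, Complex.normSq ((ψ : G → ℂ) x) = Nat.card (Subgroup.centralizer ({x} : Set G)) := by
  classical
  have h := Cfsg.Agent.S0145.sum_irr_mul_conj (G := G) x x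
  rw [if_pos (IsConj.refl x)] at h
  have h2 : (∑ ψ : IrrCharacter G, Complex.normSq ((ψ : G → ℂ) x) : ℝ) = ((Nat.card (Subgroup.centralizer ({x} : Set G)) : ℝ) : ℂ).re := by
    rw [Complex.ofReal_natCast, ← h, Complex.re_sum]
    refine Finset.sum_congr rfl fun ψ _ => ?_
    rw [Complex.mul_conj, Complex.ofReal_re]
  rw [h2, Complex.ofReal_re]

theorem sum_cross [Fintype (IrrCharacter G)] {x y : G} (h : ¬ IsConj x y) :
    ∑ ψ : IrrCharacter G, ((ψ : G → ℂ) x * conj ((ψ : G → ℂ) y)).re = 0 := by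
  classical
  have h1 := Cfsg.Agent.S0145.sum_irr_mul_conj (G := G) x y
  rw [if_neg h] at h1
  rw [← Complex.re_sum, h1, Complex.zero_re]

/-- **Characters invariant under `β` force `β x ~ x`.** -/
theorem conj_of_inv [Fintype (IrrCharacter G)] {A : Subgroup G} (hA : IsCC A) {s e : ℕ} (D : CCData A s e)
    (hsq : ∑ ψ : IrrCharacter G, D.f ψ ^ 2 = e) (h2 : 2 * e < Nat.card A) (β : G ≃* G)
    (hinv : ∀ ψ ∈ D.R, (ψ : G → ℂ) ∘ β = ψ) {x : G} (hx : x ∈ A) (hx1 : x ≠ 1) : IsConj x (β x) := by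
  classical
  by_contra hc
  have hxx := sum_normSq x
  have hyy := sum_normSq (β x)
  have hxy := sum_cross hc
  have hcx : Nat.card (Subgroup.centralizer ({x} : Set G)) = Nat.card A := by rw [hA.cent x hx hx1]
  have hcy : Nat.card (Subgroup.centralizer ({β x} : Set G)) = Nat.card A := by
    rw [← hcx]
    refine (Nat.card_congr ((Subgroup.centralizer ({x} : Set G)).equivMapOfInjective β.toMonoidHom β.injective).toEquiv).symm ▸ ?_
    congr 1
    have : Subgroup.centralizer ({β x} : Set G) = (Subgroup.centralizer ({x} : Set G)).map β.toMonoidHom := by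
      ext y
      obtain ⟨z, rfl⟩ := β.surjective y
      rw [Subgroup.mem_centralizer_singleton_iff]
      constructor
      · intro h
        refine ⟨z, ?_, rfl⟩
        rw [SetLike.mem_coe, Subgroup.mem_centralizer_singleton_iff]
        apply β.injective
        rw [map_mul, map_mul, h]
      · rintro ⟨w, hw, hwz⟩
        have : w = z := β.injective hwz
        subst this
        rw [SetLike.mem_coe, Subgroup.mem_centralizer_singleton_iff] at hw
        rw [← map_mul, ← map_mul, hw]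
    rw [this]
  rw [hcx] at hxx
  rw [hcy] at hyy
  -- the total
  have htot : ∑ ψ : IrrCharacter G, Complex.normSq ((ψ : G → ℂ) x + (ψ : G → ℂ) (β x)) = 2 * Nat.card A := by
    have h3 : ∀ ψ : IrrCharacter G, Complex.normSq ((ψ : G → ℂ) x + (ψ : G → ℂ) (β x)) =
        Complex.normSq ((ψ : G → ℂ) x) + Complex.normSq ((ψ : G → ℂ) (β x)) +
          2 * ((ψ : G → ℂ) x * conj ((ψ : G → ℂ) (β x))).re := fun ψ => Complex.normSq_add _ _
    rw [Finset.sum_congr rfl fun ψ _ => h3 ψ, Finset.sum_add_distrib, Finset.sum_add_distrib, ← Finset.mul_sum,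
      hxx, hyy, hxy]
    ring
  -- the exceptional part
  have hR : ∀ ψ ∈ D.R, (ψ : G → ℂ) (β x) = (ψ : G → ℂ) x := fun ψ hψ => congrFun (hinv ψ hψ) x
  have hsR : ∑ ψ ∈ D.R, Complex.normSq ((ψ : G → ℂ) x) = Nat.card A - e := by
    have h4 : ∑ ψ : IrrCharacter G, Complex.normSq ((ψ : G → ℂ) x) =
        ∑ ψ ∈ D.R, Complex.normSq ((ψ : G → ℂ) x) + ∑ ψ ∈ D.Rᶜ, Complex.normSq ((ψ : G → ℂ) x) :=
      (Finset.sum_add_sum_compl _ _).symm
    have h5 : ∑ ψ ∈ D.Rᶜ, Complex.normSq ((ψ : G → ℂ) x) = e := by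
      have h6 : ∑ ψ ∈ D.Rᶜ, D.f ψ ^ 2 = (e : ℤ) := by
        have h10 : ∑ ψ ∈ D.R, D.f ψ ^ 2 = 0 := Finset.sum_eq_zero (fun ψ hψ => by rw [D.hf0 ψ hψ]; ring)
        rw [← hsq, ← Finset.sum_add_sum_compl D.R, h10, zero_add]
      have h7 : ((∑ ψ ∈ D.Rᶜ, D.f ψ ^ 2 : ℤ) : ℝ) = e := by rw [h6]; norm_cast
      rw [← h7]
      push_cast
      refine Finset.sum_congr rfl fun ψ hψ => ?_
      rw [D.hf ψ (Finset.mem_compl.1 hψ) x hx hx1, Complex.normSq_intCast, sq]
    rw [h5, hxx] at h4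
    linarith only [h4]
  have hle : ∑ ψ ∈ D.R, Complex.normSq ((ψ : G → ℂ) x + (ψ : G → ℂ) (β x)) ≤ 2 * Nat.card A := by
    rw [← htot]
    exact Finset.sum_le_sum_of_subset_of_nonneg (Finset.subset_univ _) fun ψ _ _ => Complex.normSq_nonneg _
  have h8 : ∑ ψ ∈ D.R, Complex.normSq ((ψ : G → ℂ) x + (ψ : G → ℂ) (β x)) = 4 * (Nat.card A - e) := by
    rw [← hsR, Finset.mul_sum]
    refine Finset.sum_congr rfl fun ψ hψ => ?_
    rw [hR ψ hψ, ← two_mul, Complex.normSq_mul]
    norm_num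
  rw [h8] at hle
  have h9 : (2 * e : ℝ) < Nat.card A := by exact_mod_cast h2
  linarith only [hle, h9]


open Cfsg.Agent.H678.SuzChar (const)

/-- the error term is `0` or `ε` -/
theorem c_cases [Fintype (IrrCharacter G)] {A : Subgroup G} {s e : ℕ} (D : CCData A s e) (hs : 2 ≤ s) (he : e ≤ 3)
    (h1 : 1 ≤ ∑ ψ : IrrCharacter G, D.f ψ ^ 2) :
    D.c = 0 ∨ D.c = D.ε := by
  have h4 := D.sq
  have hs' : (2 : ℤ) ≤ s := by exact_mod_cast hs
  have he' : (e : ℤ) ≤ 3 := by exact_mod_cast he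
  obtain ⟨x, hx⟩ : ∃ x, x = D.ε * D.c := ⟨_, rfl⟩
  have hx2 : D.c ^ 2 = x ^ 2 := by
    rw [hx]
    rcases D.hε with h | h <;> rw [h] <;> ring
  have h5 : (2 : ℤ) * D.ε * D.c = 2 * x := by rw [hx]; ring
  rw [hx2, h5] at h4
  have h6 : (s : ℤ) * x ^ 2 ≤ 2 + 2 * x := by linarith only [he, h1, h4]
  have h7 : 2 * x ^ 2 ≤ 2 + 2 * x := le_trans (mul_le_mul_of_nonneg_right hs' (sq_nonneg x)) h6
  have h8 : x ≤ 1 := by nlinarith only [h7]
  have h9 : 0 ≤ x := by nlinarith only [h7]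
  have h10 : x = 0 ∨ x = 1 := by omega
  rcases D.hε with h | h
  · rw [h] at hx
    rcases h10 with h11 | h11
    · left; linarith only [hx, h9, h11]
    · right; rw [h]; linarith only [hx, h8, h11]
  · rw [h] at hx
    rcases h10 with h11 | h11
    · left; linarith only [hx, h9, h11]
    · right; rw [h]; linarith only [hx, h8, h11]

/-- **Nonexceptional characters from degrees.** `T` contains the principal character and characters of degree congruent
to `±1`, `e = |T|`. -/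
theorem data_of [Fintype (IrrCharacter G)] {A : Subgroup G} {s e : ℕ} (D : CCData A s e) (hs : 2 ≤ s) (he2 : 2 ≤ e)
    (he : e ≤ 3) (ha : e + 3 ≤ Nat.card A) (hA : A ≠ ⊥) (T : Finset (IrrCharacter G)) (w : IrrCharacter G → ℤ)
    (hw : ∀ ψ ∈ T, w ψ = 1 ∨ w ψ = -1) (hwd : ∀ ψ ∈ T, (Nat.card A : ℤ) ∣ charDegree (ψ : G → ℂ) - w ψ)
    (hT : T.card = e) :
    ∑ ψ : IrrCharacter G, D.f ψ ^ 2 = e ∧ ∑ ψ ∈ T, (charDegree (ψ : G → ℂ) : ℤ) * w ψ = D.d ∨
    ∑ ψ : IrrCharacter G, D.f ψ ^ 2 = e ∧ ∑ ψ ∈ T, (charDegree (ψ : G → ℂ) : ℤ) * w ψ = -D.d := by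
  classical
  obtain ⟨o2, p2⟩ := const D hA (ψ := one G) (z := 1) (fun a _ _ => by rw [coe_one]; simp)
  have ha6 : (e : ℤ) + 3 ≤ Nat.card A := by exact_mod_cast ha
  have hc := c_cases D hs he (by
    have h3 := Finset.single_le_sum (f := fun ψ => D.f ψ ^ 2) (fun ψ _ => sq_nonneg _) (Finset.mem_univ (one G))
    simp only [p2] at h3
    linarith only [h3])
  have hsq := D.sq
  have hs' : (2 : ℤ) ≤ s := by exact_mod_cast hs
  have he' : (e : ℤ) ≤ 3 := by exact_mod_cast he
  have he2' : (2 : ℤ) ≤ e := by exact_mod_cast he2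
  have hle : ∑ ψ : IrrCharacter G, D.f ψ ^ 2 ≤ e := by
    rcases hc with h | h
    · rw [h] at hsq
      linarith only [hsq]
    · rw [h] at hsq
      have h5 : D.ε ^ 2 = 1 := by rcases D.hε with h | h <;> rw [h] <;> norm_num
      have h6 : (2 : ℤ) * D.ε * D.ε = 2 := by linear_combination 2 * h5
      rw [h5, h6] at hsq
      linarith only [hs, hsq]
  have hnot : ∀ ψ ∈ T, ψ ∉ D.R := by
    intro ψ hψ hR
    have h3 := D.ddvd
    rw [← D.deg ψ hR] at h3
    have h4 := dvd_sub (hwd ψ hψ) h3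
    have h5 : (charDegree (ψ : G → ℂ) : ℤ) - w ψ - (charDegree (ψ : G → ℂ) - (D.ε * e + D.c)) =
      D.ε * e + D.c - w ψ := by ring
    rw [h5] at h4
    have h6 : D.ε * e + D.c - w ψ ≠ 0 ∧ |D.ε * e + D.c - w ψ| < Nat.card A := by
      rw [abs_lt]
      rcases D.hε with hε | hε <;> rw [hε] at hc ⊢ <;> rcases hc with hc | hc <;> rw [hc] <;>
        rcases hw ψ hψ with hw' | hw' <;> rw [hw'] <;> refine ⟨?_, ?_, ?_⟩ <;> (clear * - he2 he hT hsq ha; omega)
    exact h6.1 (Int.eq_zero_of_abs_lt_dvd h4 h6.2)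
  have hf : ∀ ψ ∈ T, D.f ψ = w ψ := by
    intro ψ hψ
    have h3 := dvd_sub (hwd ψ hψ) (D.dvd ψ (hnot ψ hψ))
    have h5 : (charDegree (ψ : G → ℂ) : ℤ) - w ψ - (charDegree (ψ : G → ℂ) - D.f ψ) = D.f ψ - w ψ := by ring
    rw [h5] at h3
    have h4 := Finset.single_le_sum (f := fun ψ => D.f ψ ^ 2) (fun ψ _ => sq_nonneg _) (Finset.mem_univ ψ)
    have h6 : D.f ψ ^ 2 ≤ e := le_trans h4 hle
    have h7 : D.f ψ ≤ 2 := by nlinarith only [he, hle, h4]
    have h8 : -2 ≤ D.f ψ := by nlinarith only [he, hle, h4]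
    have h9 : D.f ψ - w ψ = 0 := by
      apply Int.eq_zero_of_abs_lt_dvd h3
      rw [abs_lt]
      rcases hw ψ hψ with hw' | hw' <;> rw [hw'] <;> constructor <;> (clear * - he2 he ha hT hsq h7 h8; omega)
    omega
  have hTs : ∑ ψ ∈ T, D.f ψ ^ 2 = e := by
    rw [Finset.sum_congr rfl (g := fun _ => (1 : ℤ))]
    · simp [hT]
    · intro ψ hψ
      rw [hf ψ hψ]
      rcases hw ψ hψ with h | h <;> rw [h] <;> norm_num
  have hsplit := Finset.sum_add_sum_compl T (fun ψ => D.f ψ ^ 2)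
  have hge : 0 ≤ ∑ ψ ∈ Tᶜ, D.f ψ ^ 2 := Finset.sum_nonneg fun ψ _ => sq_nonneg _
  have heq : ∑ ψ : IrrCharacter G, D.f ψ ^ 2 = e := by
    have h3 : (e : ℤ) ≤ ∑ ψ : IrrCharacter G, D.f ψ ^ 2 := by
      rw [← hsplit, hTs]
      linarith only [hge]
    linarith only [hle, hTs, hsplit, hge]
  have hzero : ∑ ψ ∈ Tᶜ, D.f ψ ^ 2 = 0 := by
    have h3 := hsplit
    rw [hTs] at h3
    linarith only [hle, hTs, hsplit, hge]
  have hz : ∀ ψ ∈ Tᶜ, D.f ψ = 0 := by
    intro ψ hψ
    have h3 := (Finset.sum_eq_zero_iff_of_nonneg (fun ψ _ => sq_nonneg (D.f ψ))).1 hzero ψ hψ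
    exact pow_eq_zero_iff (two_ne_zero) |>.1 h3
  have hsd := D.sd
  have hTd : ∑ ψ : IrrCharacter G, (charDegree (ψ : G → ℂ) : ℤ) * D.f ψ = ∑ ψ ∈ T, (charDegree (ψ : G → ℂ) : ℤ) * w ψ := by
    rw [← Finset.sum_add_sum_compl T, Finset.sum_eq_zero (s := Tᶜ) (fun ψ hψ => by rw [hz ψ hψ, mul_zero]), add_zero]
    exact Finset.sum_congr rfl fun ψ hψ => by rw [hf ψ hψ]
  rw [hTd] at hsd
  rcases hc with h | h
  · rw [h] at hsd
    rcases D.hε with hε | hε <;> rw [hε] at hsd
    · left; exact ⟨heq, by linarith only [hsd]⟩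
    · right; exact ⟨heq, by linarith only [hsd]⟩
  · rw [h] at hsq hsd
    have h5 : D.ε ^ 2 = 1 := by rcases D.hε with h | h <;> rw [h] <;> norm_num
    have h6 : (2 : ℤ) * D.ε * D.ε = 2 := by linear_combination 2 * h5
    rw [h5, h6, heq] at hsq
    have hs2 : (s : ℤ) = 2 := by linarith only [hsq]
    rw [hs2] at hsd
    rcases D.hε with hε | hε <;> rw [hε] at hsd
    · right; exact ⟨heq, by linarith only [hsd]⟩
    · left; exact ⟨heq, by linarith only [hsd]⟩

end Cfsg.Agent.H953.InvT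
end

-- part: H953/InvB
section
/-!
# Automorphisms of `PSL₃(F)` and elements of the Singer torus (helper953, task 2532 of helper691, S4855): arithmetic
-/

set_option autoImplicit false

namespace Cfsg.Agent.H953.InvT

open Module Matrix

/-- ring endomorphisms of a finite field -/
theorem frob {E : Type*} [Field E] [Finite E] {p m : ℕ} [hp : Fact p.Prime] [CharP E p] (hE : Nat.card E = p ^ m)
    (τ : E →+* E) : ∃ j < m, ∀ x, τ x = x ^ p ^ j := by
  let _ : Algebra (ZMod p) E := ZMod.algebra E p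
  have hfin : finrank (ZMod p) E = m := by
    have h := Module.natCard_eq_pow_finrank (K := ZMod p) (V := E)
    rw [hE, Nat.card_zmod] at h
    exact (Nat.pow_right_injective hp.out.two_le h).symm
  let τ' : E →ₐ[ZMod p] E := { τ with
    commutes' := fun r => by
      have : (τ.comp (algebraMap (ZMod p) E)) = algebraMap (ZMod p) E := Subsingleton.elim _ _
      exact RingHom.congr_fun this r }
  have hb : Function.Bijective τ' := Finite.injective_iff_bijective.1 τ.injective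
  obtain ⟨n, hn⟩ := (FiniteField.bijective_frobeniusAlgEquivOfAlgebraic_pow (ZMod p) E).2 (AlgEquiv.ofBijective τ' hb)
  refine ⟨n.1, ?_, fun x => ?_⟩
  · have := n.2
    omega
  · have h1 := AlgEquiv.congr_fun hn x
    have h2 : ∀ k : ℕ, (FiniteField.frobeniusAlgEquivOfAlgebraic (ZMod p) E ^ k) x = x ^ p ^ k := by
      intro k
      induction k with
      | zero => simp
      | succ k ih =>
        rw [pow_succ', AlgEquiv.mul_apply, ih, FiniteField.coe_frobeniusAlgEquivOfAlgebraic, ZMod.card]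
        ring
    have h3 : τ x = (FiniteField.frobeniusAlgEquivOfAlgebraic (ZMod p) E ^ (n : ℕ)) x := h1.symm
    rw [h3, h2]

variable {ι : Type} [Fintype ι] [DecidableEq ι] {F : Type*} [Field F] {E : Type*} [Field E] [Algebra F E]

/-- a semilinear embedding which respects the image of `E` -/
theorem exists_tau [Nonempty ι] (φ : E →ₐ[F] Matrix ι ι F) (σ : F ≃+* F) (θ : E →+* Matrix ι ι F)
    (hθ : ∀ c : F, θ (algebraMap F E c) = φ (algebraMap F E (σ c))) {ω₀ ω₁ : E}
    (h0 : Algebra.adjoin F {ω₀} = ⊤) (h1 : θ ω₀ = φ ω₁) :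
    ∃ τ : E →+* E, (∀ a, θ a = φ (τ a)) ∧ τ ω₀ = ω₁ ∧ ∀ c : F, τ (algebraMap F E c) = algebraMap F E (σ c) := by
  have hφ : Function.Injective φ := φ.toRingHom.injective
  have hr : ∀ a : E, ∃ b : E, θ a = φ b := by
    intro a
    have ha : a ∈ Algebra.adjoin F {ω₀} := by rw [h0]; trivial
    induction ha using Algebra.adjoin_induction with
    | mem x hx =>
      rw [Set.mem_singleton_iff] at hx
      exact ⟨ω₁, by rw [hx, h1]⟩
    | algebraMap r => exact ⟨_, hθ r⟩
    | add x y _ _ hx hy =>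
      obtain ⟨b, hb⟩ := hx
      obtain ⟨c, hc⟩ := hy
      exact ⟨b + c, by rw [map_add, map_add, hb, hc]⟩
    | mul x y _ _ hx hy =>
      obtain ⟨b, hb⟩ := hx
      obtain ⟨c, hc⟩ := hy
      exact ⟨b * c, by rw [map_mul, map_mul, hb, hc]⟩
  choose t ht using hr
  let τ : E →+* E :=
    { toFun := t
      map_one' := hφ (by rw [← ht, map_one, map_one])
      map_mul' := fun a b => hφ (by rw [← ht, map_mul, map_mul, ht, ht])
      map_zero' := hφ (by rw [← ht, map_zero, map_zero])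
      map_add' := fun a b => hφ (by rw [← ht, map_add, map_add, ht, ht]) }
  refine ⟨τ, ht, hφ ?_, fun c => hφ ?_⟩
  · exact (ht ω₀).symm.trans h1
  · exact (ht _).symm.trans (hθ c)

/-- an element outside `F` generates an extension of prime degree -/
theorem adjoin_top [FiniteDimensional F E] (hp : (finrank F E).Prime) {ω : E} (h : ∀ c : F, ω ≠ algebraMap F E c) :
    Algebra.adjoin F {ω} = ⊤ := by
  have hs : IntermediateField.adjoin F {ω} = ⊤ := by
    have h1 : finrank F (IntermediateField.adjoin F {ω}) ∣ finrank F E := by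
      rw [← Module.finrank_mul_finrank F (IntermediateField.adjoin F {ω}) E]
      exact dvd_mul_right _ _
    rcases (Nat.dvd_prime hp).1 h1 with h2 | h2
    · exfalso
      have h3 := IntermediateField.finrank_eq_one_iff.1 h2
      have h4 : ω ∈ IntermediateField.adjoin F {ω} := IntermediateField.mem_adjoin_simple_self F ω
      rw [h3, IntermediateField.mem_bot] at h4
      obtain ⟨c, hc⟩ := h4
      exact h c hc.symm
    · exact IntermediateField.eq_of_le_of_finrank_eq le_top (by rw [h2, IntermediateField.finrank_top'])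
  have h5 := IntermediateField.adjoin_simple_toSubalgebra_of_isAlgebraic (Algebra.IsAlgebraic.isAlgebraic (R := F) ω)
  rw [← h5, hs, IntermediateField.top_toSubalgebra]

theorem decomp {p f j : ℕ} (hp : 2 ≤ p) (hj : j < 3 * f) : ∃ s i : ℕ, s < 3 ∧ i < f ∧ j = f * s + i ∧
    p ^ j = (p ^ f) ^ s * p ^ i ∧ 2 * p ^ i ≤ p ^ f ∧ 1 ≤ p ^ i := by
  have hf : 0 < f := by omega
  refine ⟨j / f, j % f, ?_, Nat.mod_lt _ hf, (Nat.div_add_mod j f).symm, ?_, ?_, Nat.one_le_pow _ _ (by omega)⟩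
  · exact Nat.div_lt_of_lt_mul (by rw [mul_comm]; exact hj)
  · rw [← pow_mul, ← pow_add, Nat.div_add_mod]
  · have h1 : j % f + 1 ≤ f := Nat.mod_lt _ hf
    calc 2 * p ^ (j % f) ≤ p * p ^ (j % f) := Nat.mul_le_mul_right _ hp
      _ = p ^ (j % f + 1) := by rw [pow_succ, mul_comm]
      _ ≤ p ^ f := Nat.pow_le_pow_right (by omega) h1

theorem not_dvd_of_lt {n a : ℤ} (h0 : 0 < a) (h1 : a < n) : ¬ n ∣ a := fun h => by
  have := Int.le_of_dvd h0 h
  omega

theorem arith_plus {p f j : ℕ} (hp : 2 ≤ p) (hq : 3 ≤ p ^ f) (hj : j < 3 * f)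
    (h : (((p ^ f : ℕ) : ℤ) ^ 2 + (p ^ f : ℕ) + 1) ∣ 3 * ((p : ℤ) ^ j - 1)) : j = 0 ∨ (p ^ f = 4 ∧ j = 3) := by
  obtain ⟨s, i, hs, hi, hji, hpj, hu, hu1⟩ := decomp hp hj
  have hpj' : (p : ℤ) ^ j = ((p ^ f : ℕ) : ℤ) ^ s * ((p ^ i : ℕ) : ℤ) := by exact_mod_cast hpj
  rw [hpj'] at h
  have hqz : (3 : ℤ) ≤ ((p ^ f : ℕ) : ℤ) := by exact_mod_cast hq
  have huz : 2 * ((p ^ i : ℕ) : ℤ) ≤ ((p ^ f : ℕ) : ℤ) := by exact_mod_cast hu
  have hu1z : 1 ≤ ((p ^ i : ℕ) : ℤ) := by exact_mod_cast hu1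
  have hi0 : ((p ^ i : ℕ) : ℤ) = 1 → i = 0 := by
    intro h1
    have h2 : p ^ i = 1 := by exact_mod_cast h1
    by_contra h3
    have := Nat.one_lt_pow h3 (show 1 < p by omega)
    omega
  generalize hQ : ((p ^ f : ℕ) : ℤ) = q at *
  generalize hU : ((p ^ i : ℕ) : ℤ) = u at *
  interval_cases s
  · rw [pow_zero, one_mul] at h
    left
    by_cases h1 : u = 1
    · have := hi0 h1
      subst this
      omega
    · exact absurd h (not_dvd_of_lt (by omega) (by nlinarith only [huz]))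
  · right
    have h1 : (q ^ 2 + q + 1) ∣ 3 * (q + 1 + u) := by
      have h2 : 3 * (q + 1 + u) = q ^ 2 * (3 * (q ^ 1 * u - 1)) + (q ^ 2 + q + 1) * (3 - 3 * (q - 1) * u) := by ring
      rw [h2]
      exact dvd_add (Dvd.dvd.mul_left h _) (dvd_mul_right _ _)
    have h2 := Int.le_of_dvd (by linarith only [hqz, hu1z]) h1
    have h3 : q ≤ 4 := by
      by_contra hc
      have : 5 ≤ q := by omega
      nlinarith only [huz, h2, hc]
    have h4 : q = 3 ∨ q = 4 := by omega
    rcases h4 with h4 | h4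
    · exfalso
      subst h4
      have : u = 1 := by omega
      subst this
      norm_num at h1
    · subst h4
      have h5 : u = 1 ∨ u = 2 := by (clear * - hu hu1 hU hQ; omega)
      rcases h5 with h5 | h5
      · subst h5
        norm_num at h1
      · have h6 : p ^ f = 4 := by exact_mod_cast hQ
        have h7 : p ^ i = 2 := by rw [h5] at hU; exact_mod_cast hU
        have hpp : p = 2 := by
          have h8 : i ≠ 0 := by
            rintro rfl
            simp at h7
          have h9 : p ∣ 2 := by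
            rw [← h7]
            exact dvd_pow_self p h8
          have := Nat.le_of_dvd (by norm_num) h9
          omega
        subst hpp
        have hf2 : f = 2 := Nat.pow_right_injective (le_refl 2) (by simpa using h6)
        have hi1 : i = 1 := Nat.pow_right_injective (le_refl 2) (by simpa using h7)
        refine ⟨h6, ?_⟩
        omega
  · exfalso
    have h1 : (q ^ 2 + q + 1) ∣ 3 * (q - u) := by
      have h2 : 3 * (q - u) = (q ^ 2 + q + 1) * (3 * (q - 1) * u) - q * (3 * (q ^ 2 * u - 1)) := by ring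
      rw [h2]
      exact dvd_sub (dvd_mul_right _ _) (Dvd.dvd.mul_left h _)
    exact not_dvd_of_lt (by linarith only [hqz, huz]) (by nlinarith only [hu1z]) h1

theorem arith_minus {p f j : ℕ} (hp : 2 ≤ p) (hq : 3 ≤ p ^ f) (hj : j < 3 * f) :
    ¬ (((p ^ f : ℕ) : ℤ) ^ 2 + (p ^ f : ℕ) + 1) ∣ 3 * ((p : ℤ) ^ j + 1) := by
  intro h
  obtain ⟨s, i, hs, hi, hji, hpj, hu, hu1⟩ := decomp hp hj
  have hpj' : (p : ℤ) ^ j = ((p ^ f : ℕ) : ℤ) ^ s * ((p ^ i : ℕ) : ℤ) := by exact_mod_cast hpj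
  rw [hpj'] at h
  have hqz : (3 : ℤ) ≤ ((p ^ f : ℕ) : ℤ) := by exact_mod_cast hq
  have huz : 2 * ((p ^ i : ℕ) : ℤ) ≤ ((p ^ f : ℕ) : ℤ) := by exact_mod_cast hu
  have hu1z : 1 ≤ ((p ^ i : ℕ) : ℤ) := by exact_mod_cast hu1
  generalize ((p ^ f : ℕ) : ℤ) = q at *
  generalize ((p ^ i : ℕ) : ℤ) = u at *
  interval_cases s
  · rw [pow_zero, one_mul] at h
    exact not_dvd_of_lt (by linarith only [hu1z]) (by nlinarith only [hqz, huz]) h
  · have h1 : (q ^ 2 + q + 1) ∣ 3 * (q + 1 - u) := by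
      have h2 : 3 * (q + 1 - u) = (q ^ 2 + q + 1) * (3 + 3 * (q - 1) * u) - q ^ 2 * (3 * (q ^ 1 * u + 1)) := by ring
      rw [h2]
      exact dvd_sub (dvd_mul_right _ _) (Dvd.dvd.mul_left h _)
    exact not_dvd_of_lt (by linarith only [hqz, huz]) (by nlinarith only [hqz, hu1z]) h1
  · have h1 : (q ^ 2 + q + 1) ∣ 3 * (u + q) := by
      have h2 : 3 * (u + q) = q * (3 * (q ^ 2 * u + 1)) - (q ^ 2 + q + 1) * (3 * (q - 1) * u) := by ring
      rw [h2]
      exact dvd_sub (Dvd.dvd.mul_left h _) (dvd_mul_right _ _)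
    rcases eq_or_lt_of_le hqz with h3 | h3
    · have h4 : u = 1 := by omega
      rw [← h3, h4] at h1
      norm_num at h1
    · exact not_dvd_of_lt (by linarith only [hu1z, h3]) (by nlinarith only [hqz, huz, h3]) h1


section mat

variable (φ : E →ₐ[F] Matrix ι ι F) (σ : F ≃+* F) (K : GL ι F)

/-- conjugation and a field automorphism -/
noncomputable def th1 : E →+* Matrix ι ι F where
  toFun a := (K : Matrix ι ι F) * (φ a).map σ * ((K⁻¹ : GL ι F) : Matrix ι ι F)
  map_one' := by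
    rw [map_one, Matrix.map_one _ (map_zero σ) (map_one σ), mul_one]
    exact K.mul_inv
  map_mul' a b := by
    have h1 : (φ (a * b)).map σ = (φ a).map σ * (φ b).map σ := by
      rw [map_mul]
      exact Matrix.map_mul (f := (σ : F →+* F))
    have h2 : ((K⁻¹ : GL ι F) : Matrix ι ι F) * (K : Matrix ι ι F) = 1 := K.inv_mul
    rw [h1]
    calc (K : Matrix ι ι F) * ((φ a).map σ * (φ b).map σ) * ((K⁻¹ : GL ι F) : Matrix ι ι F) =
        (K : Matrix ι ι F) * (φ a).map σ * 1 * ((φ b).map σ * ((K⁻¹ : GL ι F) : Matrix ι ι F)) := by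
          rw [mul_one]
          simp only [mul_assoc]
      _ = _ := by
          rw [← h2]
          simp only [mul_assoc]
  map_zero' := by
    rw [map_zero, Matrix.map_zero _ (map_zero σ), mul_zero, zero_mul]
  map_add' a b := by
    rw [map_add, Matrix.map_add _ (map_add σ), mul_add, add_mul]

/-- the same with the transpose -/
noncomputable def th2 : E →+* Matrix ι ι F where
  toFun a := (K : Matrix ι ι F) * (φ a)ᵀ.map σ * ((K⁻¹ : GL ι F) : Matrix ι ι F)
  map_one' := by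
    rw [map_one, Matrix.transpose_one, Matrix.map_one _ (map_zero σ) (map_one σ), mul_one]
    exact K.mul_inv
  map_mul' a b := by
    have h1 : (φ (a * b))ᵀ.map σ = (φ a)ᵀ.map σ * (φ b)ᵀ.map σ := by
      rw [mul_comm a b, map_mul, Matrix.transpose_mul]
      exact Matrix.map_mul (f := (σ : F →+* F))
    have h2 : ((K⁻¹ : GL ι F) : Matrix ι ι F) * (K : Matrix ι ι F) = 1 := K.inv_mul
    rw [h1]
    calc (K : Matrix ι ι F) * ((φ a)ᵀ.map σ * (φ b)ᵀ.map σ) * ((K⁻¹ : GL ι F) : Matrix ι ι F) =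
        (K : Matrix ι ι F) * (φ a)ᵀ.map σ * 1 * ((φ b)ᵀ.map σ * ((K⁻¹ : GL ι F) : Matrix ι ι F)) := by
          rw [mul_one]
          simp only [mul_assoc]
      _ = _ := by
          rw [← h2]
          simp only [mul_assoc]
  map_zero' := by
    rw [map_zero, Matrix.transpose_zero, Matrix.map_zero _ (map_zero σ), mul_zero, zero_mul]
  map_add' a b := by
    rw [map_add, Matrix.transpose_add, Matrix.map_add _ (map_add σ), mul_add, add_mul]

theorem phi_algebraMap (c : F) : φ (algebraMap F E c) = Matrix.diagonal fun _ => c := by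
  rw [AlgHom.commutes]
  ext i j
  rw [Matrix.algebraMap_matrix_apply, Matrix.diagonal_apply]
  rfl

theorem th1_alg (c : F) : th1 φ σ K (algebraMap F E c) = φ (algebraMap F E (σ c)) := by
  change (K : Matrix ι ι F) * (φ (algebraMap F E c)).map σ * ((K⁻¹ : GL ι F) : Matrix ι ι F) = _
  rw [phi_algebraMap, phi_algebraMap, Matrix.diagonal_map (map_zero σ)]
  have h : (Matrix.diagonal fun _ : ι => σ c) = (σ c) • (1 : Matrix ι ι F) := by
    rw [Matrix.smul_one_eq_diagonal]
  change (K : Matrix ι ι F) * (Matrix.diagonal fun _ : ι => σ c) * ((K⁻¹ : GL ι F) : Matrix ι ι F) = _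
  rw [h, Matrix.mul_smul, Matrix.smul_mul, mul_one]
  congr 1
  exact K.mul_inv

theorem th2_alg (c : F) : th2 φ σ K (algebraMap F E c) = φ (algebraMap F E (σ c)) := by
  change (K : Matrix ι ι F) * (φ (algebraMap F E c))ᵀ.map σ * ((K⁻¹ : GL ι F) : Matrix ι ι F) = _
  rw [phi_algebraMap, phi_algebraMap, Matrix.diagonal_transpose, Matrix.diagonal_map (map_zero σ)]
  have h : (Matrix.diagonal fun _ : ι => σ c) = (σ c) • (1 : Matrix ι ι F) := by
    rw [Matrix.smul_one_eq_diagonal]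
  change (K : Matrix ι ι F) * (Matrix.diagonal fun _ : ι => σ c) * ((K⁻¹ : GL ι F) : Matrix ι ι F) = _
  rw [h, Matrix.mul_smul, Matrix.smul_mul, mul_one]
  congr 1
  exact K.mul_inv

end mat


section cases

variable [Finite F] [FiniteDimensional F E] {p f : ℕ} [hp : Fact p.Prime] [CharP F p] (hF : Nat.card F = p ^ f)
  (hq : 3 ≤ p ^ f) (hfr : finrank F E = 3) (φ : E →ₐ[F] Matrix ι ι F) (σ : F ≃+* F) (K : GL ι F) {ω : E}
  (hω : ∀ c : F, ω ≠ algebraMap F E c) (hord : (p ^ f) ^ 2 + p ^ f + 1 ∣ orderOf ω) {z : F} (hz : z ^ 3 = 1)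

include hF hfr in
theorem frob' (τ : E →+* E) : ∃ j < 3 * f, ∀ x, τ x = x ^ p ^ j := by
  have : CharP E p := charP_of_injective_algebraMap (algebraMap F E).injective p
  have : Finite E := Module.finite_of_finite F
  refine frob (m := 3 * f) ?_ τ
  rw [Module.natCard_eq_pow_finrank (K := F), hF, hfr, ← pow_mul, mul_comm]

include hF hq hfr hω hord hz in
theorem plus_case [Nonempty ι] (h : φ ω * (K : Matrix ι ι F) = z • ((K : Matrix ι ι F) * (φ ω).map σ)) :
    σ = RingEquiv.refl F ∨ (p ^ f = 4 ∧ ∀ c, σ c = c ^ 2) := by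
  have hz0 : z ≠ 0 := by
    rintro rfl
    norm_num at hz
  have hω0 : ω ≠ 0 := fun h0 => hω 0 (by rw [h0, map_zero])
  obtain ⟨τ, -, h1, h2⟩ := exists_tau φ σ (th1 φ σ K) (th1_alg φ σ K) (ω₀ := ω) (ω₁ := z⁻¹ • ω)
    (adjoin_top (by rw [hfr]; exact Nat.prime_three) hω) (by
      change (K : Matrix ι ι F) * (φ ω).map σ * ((K⁻¹ : GL ι F) : Matrix ι ι F) = _
      have h3 : (K : Matrix ι ι F) * (φ ω).map σ = z⁻¹ • (φ ω * (K : Matrix ι ι F)) := by
        rw [h, smul_smul, inv_mul_cancel₀ hz0, one_smul]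
      rw [h3, Matrix.smul_mul, mul_assoc, map_smul]
      have h4 : (K : Matrix ι ι F) * ((K⁻¹ : GL ι F) : Matrix ι ι F) = 1 := K.mul_inv
      rw [h4, mul_one])
  obtain ⟨j, hj, hτ⟩ := frob' hF hfr τ
  rw [hτ] at h1
  have h3 : ω ^ (3 * (p ^ j - 1)) = 1 := by
    have h5 : (ω ^ p ^ j) ^ 3 = ω ^ 3 := by
      rw [h1, smul_pow, inv_pow, hz, inv_one, one_smul]
    have h6 : ω ^ (3 * (p ^ j - 1)) * ω ^ 3 = ω ^ 3 := by
      rw [← pow_add]
      have h7 : 3 * (p ^ j - 1) + 3 = p ^ j * 3 := by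
        have := Nat.one_le_pow j p hp.out.pos
        omega
      rw [h7, pow_mul, h5]
    exact mul_right_cancel₀ (pow_ne_zero 3 hω0) (by rw [h6, one_mul])
  have h4 : (((p ^ f : ℕ) : ℤ) ^ 2 + (p ^ f : ℕ) + 1) ∣ 3 * ((p : ℤ) ^ j - 1) := by
    have h5 := hord.trans (orderOf_dvd_of_pow_eq_one h3)
    have h6 : ((3 * (p ^ j - 1) : ℕ) : ℤ) = 3 * ((p : ℤ) ^ j - 1) := by
      rw [Nat.cast_mul, Nat.cast_sub (Nat.one_le_pow j p hp.out.pos)]
      push_cast
      ring
    rw [← h6]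
    exact_mod_cast h5
  rcases arith_plus hp.out.two_le hq hj h4 with rfl | ⟨h5, rfl⟩
  · left
    ext c
    have h6 := h2 c
    rw [hτ, pow_zero, pow_one] at h6
    exact ((algebraMap F E).injective h6).symm
  · right
    refine ⟨h5, fun c => ?_⟩
    have h6 := h2 c
    rw [hτ, ← map_pow] at h6
    have h7 := ((algebraMap F E).injective h6).symm
    rw [h7]
    have h8 : p = 2 := by
      have h9 : p ∣ 2 ^ 2 := by
        rw [show (2 : ℕ) ^ 2 = 4 from rfl, ← h5]
        refine dvd_pow_self p ?_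
        rintro rfl
        norm_num at h5
      exact (Nat.prime_dvd_prime_iff_eq hp.out Nat.prime_two).1 (hp.out.dvd_of_dvd_pow h9)
    subst h8
    have h9 : c ^ 4 = c := by
      have := Fintype.ofFinite F
      have h10 := FiniteField.pow_card c
      rwa [← Nat.card_eq_fintype_card, hF, h5] at h10
    calc c ^ 2 ^ 3 = (c ^ 4) ^ 2 := by rw [← pow_mul]; norm_num
      _ = c ^ 2 := by rw [h9]

include hF hq hfr hω hord hz in
theorem minus_case [Nonempty ι] (h : φ ω * (K : Matrix ι ι F) = z • ((K : Matrix ι ι F) * (φ ω⁻¹)ᵀ.map σ)) :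
    False := by
  have hz0 : z ≠ 0 := by
    rintro rfl
    norm_num at hz
  have hω0 : ω ≠ 0 := fun h0 => hω 0 (by rw [h0, map_zero])
  have hω' : ∀ c : F, ω⁻¹ ≠ algebraMap F E c := by
    intro c hc
    apply hω c⁻¹
    rw [map_inv₀, ← hc, inv_inv]
  obtain ⟨τ, -, h1, h2⟩ := exists_tau φ σ (th2 φ σ K) (th2_alg φ σ K) (ω₀ := ω⁻¹) (ω₁ := z⁻¹ • ω)
    (adjoin_top (by rw [hfr]; exact Nat.prime_three) hω') (by
      change (K : Matrix ι ι F) * (φ ω⁻¹)ᵀ.map σ * ((K⁻¹ : GL ι F) : Matrix ι ι F) = _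
      have h3 : (K : Matrix ι ι F) * (φ ω⁻¹)ᵀ.map σ = z⁻¹ • (φ ω * (K : Matrix ι ι F)) := by
        rw [h, smul_smul, inv_mul_cancel₀ hz0, one_smul]
      rw [h3, Matrix.smul_mul, mul_assoc, map_smul]
      have h4 : (K : Matrix ι ι F) * ((K⁻¹ : GL ι F) : Matrix ι ι F) = 1 := K.mul_inv
      rw [h4, mul_one])
  obtain ⟨j, hj, hτ⟩ := frob' hF hfr τ
  rw [hτ] at h1
  have h3 : ω ^ (3 * (p ^ j + 1)) = 1 := by
    have h5 : (ω⁻¹ ^ p ^ j) ^ 3 = ω ^ 3 := by
      rw [h1, smul_pow, inv_pow, hz, inv_one, one_smul]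
    have h6 : ω ^ (3 * (p ^ j + 1)) = (ω⁻¹ ^ p ^ j) ^ 3 * (ω ^ p ^ j) ^ 3 := by
      rw [h5, ← pow_mul, ← pow_add]
      congr 1
      ring
    rw [h6, ← mul_pow, inv_pow, inv_mul_cancel₀ (pow_ne_zero _ hω0), one_pow]
  apply arith_minus hp.out.two_le hq hj
  have h5 := hord.trans (orderOf_dvd_of_pow_eq_one h3)
  have h6 : ((3 * (p ^ j + 1) : ℕ) : ℤ) = 3 * ((p : ℤ) ^ j + 1) := by
    push_cast
    ring
  rw [← h6]
  exact_mod_cast h5

end cases

end Cfsg.Agent.H953.InvT
end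

-- part: H953/InvC
section
/-!
# Automorphisms of `PSL₃(F)` fixing the characters of degree `(q - 1)² (q + 1)` and `q³ - 1` (helper953, task 2532 of
helper691, S4855)

`inndiag_of_inv`: such an automorphism is inner-diagonal.
-/

set_option autoImplicit false

namespace Cfsg.Agent.H953.InvT

open Module Matrix Cfsg

local notation "PSL3(" F ")" => Matrix.ProjectiveSpecialLinearGroup (Fin 3) F
local notation "SL3(" F ")" => Matrix.SpecialLinearGroup (Fin 3) F

section rel

variable {F : Type*} [Field F]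

theorem rel {δ : MulAut PSL3(F)} (hδ : IsInnerDiagonalAutPSL δ) (s s₁ : SL3(F))
    (hc : IsConj (QuotientGroup.mk s : PSL3(F)) (δ (QuotientGroup.mk s₁))) :
    ∃ (K : GL (Fin 3) F) (z : F), z ^ 3 = 1 ∧
      (s : Matrix (Fin 3) (Fin 3) F) * (K : Matrix (Fin 3) (Fin 3) F) =
        z • ((K : Matrix (Fin 3) (Fin 3) F) * (s₁ : Matrix (Fin 3) (Fin 3) F)) := by
  obtain ⟨g, hg⟩ := hδ
  let s₂ : SL3(F) := ⟨(g : Matrix (Fin 3) (Fin 3) F) * (s₁ : Matrix (Fin 3) (Fin 3) F) *
      ((g⁻¹ : GL (Fin 3) F) : Matrix (Fin 3) (Fin 3) F), by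
    rw [Matrix.det_mul, Matrix.det_mul, s₁.2, mul_one, ← Matrix.det_mul]
    have : (g : Matrix (Fin 3) (Fin 3) F) * ((g⁻¹ : GL (Fin 3) F) : Matrix (Fin 3) (Fin 3) F) = 1 := g.mul_inv
    rw [this, Matrix.det_one]⟩
  have h2 : δ (QuotientGroup.mk s₁) = QuotientGroup.mk s₂ := hg s₁ s₂ rfl
  rw [h2] at hc
  obtain ⟨c, hc⟩ := isConj_iff.1 hc
  obtain ⟨h, rfl⟩ := QuotientGroup.mk_surjective c
  have h3 : (QuotientGroup.mk (h * s * h⁻¹) : PSL3(F)) = QuotientGroup.mk s₂ := hc
  have h4 := (QuotientGroup.eq (s := Subgroup.center SL3(F))).1 h3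
  obtain ⟨r, hr, hrs⟩ := Matrix.SpecialLinearGroup.mem_center_iff.1 h4
  have hr3 : r ^ 3 = 1 := by simpa using hr
  have hr0 : r ≠ 0 := by
    rintro rfl
    norm_num at hr3
  have h5 : (s₂ : Matrix (Fin 3) (Fin 3) F) = r • ((h * s * h⁻¹ : SL3(F)) : Matrix (Fin 3) (Fin 3) F) := by
    have h6 : s₂ = (h * s * h⁻¹) * ((h * s * h⁻¹)⁻¹ * s₂) := by group
    rw [congrArg Subtype.val h6, Matrix.SpecialLinearGroup.coe_mul (h * s * h⁻¹), ← hrs]
    have h7 : Matrix.scalar (Fin 3) r = r • (1 : Matrix (Fin 3) (Fin 3) F) := by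
      rw [Matrix.smul_one_eq_diagonal]
      rfl
    rw [h7, Matrix.mul_smul, mul_one]
  let H : GL (Fin 3) F := (h : GL (Fin 3) F)
  refine ⟨H⁻¹ * g, r⁻¹, by rw [inv_pow, hr3, inv_one], ?_⟩
  have hH : ((H⁻¹ : GL (Fin 3) F) : Matrix (Fin 3) (Fin 3) F) = ((h⁻¹ : SL3(F)) : Matrix (Fin 3) (Fin 3) F) := by
    have : (H⁻¹ : GL (Fin 3) F) = ((h⁻¹ : SL3(F)) : GL (Fin 3) F) := (map_inv _ h).symm
    rw [this]
    rfl
  have hhi : ((h⁻¹ : SL3(F)) : Matrix (Fin 3) (Fin 3) F) * (h : Matrix (Fin 3) (Fin 3) F) = 1 := by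
    rw [← Matrix.SpecialLinearGroup.coe_mul, inv_mul_cancel, Matrix.SpecialLinearGroup.coe_one]
  have hgi : ((g⁻¹ : GL (Fin 3) F) : Matrix (Fin 3) (Fin 3) F) * (g : Matrix (Fin 3) (Fin 3) F) = 1 := g.inv_mul
  rw [Units.val_mul, hH]
  -- `g s₁ = s₂ g`
  have h8 : (g : Matrix (Fin 3) (Fin 3) F) * (s₁ : Matrix (Fin 3) (Fin 3) F) =
      (s₂ : Matrix (Fin 3) (Fin 3) F) * (g : Matrix (Fin 3) (Fin 3) F) := by
    change _ = ((g : Matrix (Fin 3) (Fin 3) F) * (s₁ : Matrix (Fin 3) (Fin 3) F) *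
      ((g⁻¹ : GL (Fin 3) F) : Matrix (Fin 3) (Fin 3) F)) * (g : Matrix (Fin 3) (Fin 3) F)
    rw [mul_assoc _ _ (g : Matrix (Fin 3) (Fin 3) F), hgi, mul_one]
  rw [mul_assoc _ (g : Matrix (Fin 3) (Fin 3) F), h8, h5]
  simp only [Matrix.SpecialLinearGroup.coe_mul, Matrix.smul_mul, Matrix.mul_smul, smul_smul, inv_mul_cancel₀ hr0,
    one_smul]
  simp only [← mul_assoc]
  rw [hhi, one_mul]

end rel


section singer

open Cfsg.Agent.H504 Cfsg.Agent.H926.Cc Cfsg.Geo Cfsg.Agent.H681.ZerosPSL3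

/-- **the Singer torus of `PSL(3, q)` and its generator** -/
theorem exists_singer {F : Type} [Field F] [Fintype F] {t : ℕ} (ht : Fintype.card F = t + 1) :
    ∃ (E : Type) (_ : Field E) (_ : Algebra F E) (_ : FiniteDimensional F E)
      (φ : E →ₐ[F] Matrix (Fin 3) (Fin 3) F) (ω : E) (s : SL3(F)) (A : Subgroup PSL3(F)),
      finrank F E = 3 ∧ (∀ c : F, ω ≠ algebraMap F E c) ∧ (t + 1) ^ 2 + (t + 1) + 1 ∣ orderOf ω ∧
      (s : Matrix (Fin 3) (Fin 3) F) = φ ω ∧ (QuotientGroup.mk s : PSL3(F)) ∈ A ∧ (QuotientGroup.mk s : PSL3(F)) ≠ 1 ∧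
      ZeroTI.CC A ∧ Nat.card A * Nat.gcd 3 t = t ^ 2 + 3 * t + 3 := by
  have ht0 : 0 < t := by
    have := Fintype.one_lt_card (α := F)
    omega
  obtain ⟨p, hp⟩ := CharP.exists F
  have : Fact p.Prime := ⟨CharP.char_is_prime F p⟩
  let E := FiniteField.Extension F p 3
  have hfr : finrank F E = 3 := FiniteField.finrank_extension F p 3
  have hfd : FiniteDimensional F E := Module.finite_of_finrank_pos (by rw [hfr]; norm_num)
  let b : Basis (Fin 3) F E := finBasisOfFinrankEq F E hfr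
  let φ : E →ₐ[F] Matrix (Fin 3) (Fin 3) F := Algebra.leftMulMatrix b
  let L := specialLinear (Fin 3) F
  have hpr : (finrank F E).Prime := by rw [hfr]; norm_num
  have h3 : 3 ≤ finrank F E := by rw [hfr]
  have hfr' : finrank F E = Fintype.card (Fin 3) := by rw [hfr, Fintype.card_fin]
  have hL : L ≤ specialLinear (Fin 3) F := le_rfl
  have hroot : RootProp φ L := rootProp_SL hpr h3 hfr' hL
  have hU : ∀ u ∈ U1 F E, toGLE φ u ∈ L := by
    intro u hu
    exact (norm_eq_one (φ := φ) hfr' (g := toGLE φ u) (a := (u : E)) rfl).2 (mem_U1.1 hu)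
  have hcZ : Nat.card (Zs L) = Nat.gcd (Fintype.card (Fin 3)) (Nat.card F - 1) := by
    refine card_Zs hL ?_
    intro c hc
    have hc' : ((c : F)) ^ 3 = 1 := by
      have := congrArg Units.val hc
      simpa using this
    refine ⟨Units.map (Matrix.scalar (Fin 3) : F →+* Matrix (Fin 3) (Fin 3) F).toMonoidHom c, ?_, ?_⟩
    · rw [Cfsg.Agent.H873.mem_specialLinear_iff]
      show Matrix.det (Matrix.scalar (Fin 3) (c : F)) = 1
      rw [Matrix.scalar_apply, Matrix.det_diagonal]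
      simpa only [_root_.Finset.prod_const, _root_.Finset.card_univ, _root_.Fintype.card_fin] using hc'
    · show Matrix.scalar (Fin 3) (c : F) = _
      rw [Matrix.smul_one_eq_diagonal]
      rfl
  have hcard := card_Dq hfr' hL hU hcZ
  rw [hfr, Nat.card_eq_fintype_card (α := F), ht, Nat.add_sub_cancel] at hcard
  have h4 : (t + 1) ^ 3 - 1 = t * (t ^ 2 + 3 * t + 3) := by
    rw [Nat.sub_eq_iff_eq_add (Nat.one_le_pow _ _ (by omega))]
    ring
  have hcard' : Nat.card (Dq φ L) * Nat.gcd 3 t = t ^ 2 + 3 * t + 3 := by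
    rw [h4] at hcard
    have h5 : t * (Nat.card (Dq φ L) * Nat.gcd 3 t) = t * (t ^ 2 + 3 * t + 3) := by
      rw [← hcard]
      ring
    exact Nat.eq_of_mul_eq_mul_left ht0 h5
  -- the generator
  have hcU := card_U1 (F := F) (E := E)
  rw [hfr, Nat.card_eq_fintype_card (α := F), ht, Nat.add_sub_cancel, h4, mul_comm t] at hcU
  have hcU' : Nat.card (U1 F E) = (t + 1) ^ 2 + (t + 1) + 1 := by
    have := Nat.eq_of_mul_eq_mul_right ht0 hcU
    rw [this]
    ring
  have : Finite E := Module.finite_of_finite F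
  obtain ⟨u, hu⟩ := IsCyclic.exists_generator (α := U1 F E)
  have hou : orderOf ((u : Eˣ) : E) = (t + 1) ^ 2 + (t + 1) + 1 := by
    rw [orderOf_units, Subgroup.orderOf_coe, orderOf_eq_card_of_forall_mem_zpowers hu, hcU']
  have hnF : ∀ c : F, ((u : Eˣ) : E) ≠ algebraMap F E c := by
    intro c hc
    have hc0 : c ≠ 0 := by
      rintro rfl
      rw [map_zero] at hc
      exact (u : Eˣ).ne_zero hc
    have h5 : ((u : Eˣ) : E) ^ t = 1 := by
      rw [hc, ← map_pow]
      have := FiniteField.pow_card_sub_one_eq_one c hc0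
      rw [ht, Nat.add_sub_cancel] at this
      rw [this, map_one]
    have h6 := Nat.le_of_dvd ht0 (orderOf_dvd_of_pow_eq_one h5)
    rw [hou] at h6
    linarith only [h6, _root_.sq_nonneg (↑t : ℤ)]
  let g : L := ⟨toGLE φ u, hU u u.2⟩
  have hg : g ∈ Cs φ L := mem_Cs.2 ⟨((u : Eˣ) : E), rfl⟩
  have hne : ∃ g ∈ L, ∃ a : E, (g : Matrix (Fin 3) (Fin 3) F) = φ a ∧ ∀ z : F, a ≠ algebraMap F E z :=
    ⟨toGLE φ u, hU u u.2, _, rfl, hnF⟩
  refine ⟨E, inferInstance, inferInstance, hfd, φ, ((u : Eˣ) : E), slE F g, (Dq φ L).map (tqE F).toMonoidHom, hfr, hnF,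
    hou ▸ dvd_rfl, rfl, ⟨QuotientGroup.mk' (Zs L) g, mk_mem_Dq.2 hg, rfl⟩, ?_,
    cc_map _ (cc_of_cc (cc_Dq hpr hfr' hroot hne)), ?_⟩
  · intro h1
    have h2 : slE F g ∈ Subgroup.center SL3(F) := (QuotientGroup.eq_one_iff _).1 h1
    obtain ⟨r, -, hrs⟩ := Matrix.SpecialLinearGroup.mem_center_iff.1 h2
    apply hnF r
    apply φ.toRingHom.injective
    change φ ((u : Eˣ) : E) = φ (algebraMap F E r)
    rw [phi_algebraMap]
    exact hrs.symm
  · rw [← hcard']
    congr 1
    exact (Nat.card_congr ((Dq φ L).equivMapOfInjective _ (tqE F).injective).toEquiv).symm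

end singer


section chars

open Cfsg.Agent.H504.ZeroTI Cfsg.Agent.H678.CCExact Cfsg.Agent.Characters.CCBasic Cfsg.Agent.Characters.CCEstimates
  Cfsg.Agent.Characters.CCValues

theorem isCC_of {G : Type*} [Group G] {A : Subgroup G} (hA : CC A) (h : A ≠ ⊥) : IsCC A := ⟨h, hA.cent⟩

theorem len_eq {G : Type*} [Group G] [Finite G] (A : Subgroup G) : len A = eIdx A := by
  have h1 := len_mul_card A
  have h2 := (A.subgroupOf (Subgroup.normalizer (A : Set G))).index_mul_card
  rw [Nat.card_congr (Subgroup.subgroupOfEquivOfLe (Subgroup.le_normalizer (H := A))).toEquiv] at h2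
  exact Nat.eq_of_mul_eq_mul_right (Nat.card_pos (α := A)) (h1.trans h2.symm)

theorem inv_conj {G : Type} [Group G] [Fintype G] {A : Subgroup G} (hA : CC A) {e s n : ℕ} (hs2 : 2 ≤ s)
    (he2 : 2 ≤ e) (he3 : e ≤ 3) (hcard : Nat.card A = e * s + 1) (hn : Nat.card G = Nat.card A * n)
    (hmod : n % Nat.card A = e) (T : Finset (IrrCharacter G)) (w : IrrCharacter G → ℤ)
    (hw : ∀ ψ ∈ T, w ψ = 1 ∨ w ψ = -1) (hwd : ∀ ψ ∈ T, (Nat.card A : ℤ) ∣ charDegree (ψ : G → ℂ) - w ψ)
    (hT : T.card = e) {d : ℕ} (hd : ∑ ψ ∈ T, (charDegree (ψ : G → ℂ) : ℤ) * w ψ = d ∨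
      ∑ ψ ∈ T, (charDegree (ψ : G → ℂ) : ℤ) * w ψ = -d) (β : G ≃* G)
    (hinv : ∀ ψ : IrrCharacter G, charDegree (ψ : G → ℂ) = d → (ψ : G → ℂ) ∘ β = ψ) {x : G} (hx : x ∈ A)
    (hx1 : x ≠ 1) : IsConj x (β x) := by
  have : Finite (IrrCharacter G) := Cfsg.Agent.Characters.Core.finite_irr
  have : Fintype (IrrCharacter G) := Fintype.ofFinite _
  have hes : 2 * 2 ≤ e * s := Nat.mul_le_mul he2 hs2
  have hbot : A ≠ ⊥ := by
    rintro rfl
    rw [Subgroup.card_bot] at hcard
    omega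
  have hCC := isCC_of hA hbot
  have hlen : len A = e := by
    rw [len_eq, Cfsg.Agent.H504.Zeros.eIdx_eq_mod hA (by omega) hn, hmod]
  obtain ⟨D⟩ := nonempty_ccData hCC hlen (s := s) (by rw [hcard, mul_comm]) hs2
  have hes2 : e * 2 ≤ e * s := Nat.mul_le_mul_left _ hs2
  have key := data_of D hs2 he2 he3 (by omega) hbot T w hw hwd hT
  have h1 : ∑ ψ : IrrCharacter G, D.f ψ ^ 2 = e ∧ D.d = d := by
    rcases key with ⟨h1, h2⟩ | ⟨h1, h2⟩ <;> rcases hd with h3 | h3 <;> rw [h3] at h2 <;> refine ⟨h1, ?_⟩ <;> omega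
  refine conj_of_inv hCC D h1.1 (by omega) β (fun ψ hψ => hinv ψ ?_) hx hx1
  rw [D.deg ψ hψ, h1.2]

end chars


section psl

open Cfsg.Agent.H504.ZeroTI Cfsg.Agent.Characters.CCValues

variable {F : Type} [Field F] [Fintype F]

/-- the order of `PSL(3, q)` through the Singer torus -/
theorem sing_num {t : ℕ} (ht : Fintype.card F = t + 1) (ht2 : 2 ≤ t) {A : Subgroup PSL3(F)}
    (hcard : Nat.card A * Nat.gcd 3 t = t ^ 2 + 3 * t + 3) :
    Nat.card PSL3(F) = Nat.card A * ((t + 1) ^ 3 * (t ^ 2 * (t + 2))) ∧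
      ((t + 1) ^ 3 * (t ^ 2 * (t + 2))) % Nat.card A = 3 ∧ ∃ m, 2 ≤ m ∧ Nat.card A = 3 * m + 1 := by
  have hG := Cfsg.Agent.HKS.EndOrd.card_psl_three ht
  set a := Nat.card A with ha
  set g := Nat.gcd 3 t with hg
  have hg0 : 0 < g := Nat.gcd_pos_of_pos_left _ (by norm_num)
  have hg3 : g = 1 ∨ g = 3 := (Nat.dvd_prime Nat.prime_three).1 (Nat.gcd_dvd_left 3 t)
  have hn : Nat.card PSL3(F) = a * ((t + 1) ^ 3 * (t ^ 2 * (t + 2))) := by
    rw [← hcard] at hG
    have : g * Nat.card PSL3(F) = g * (a * ((t + 1) ^ 3 * (t ^ 2 * (t + 2)))) := by rw [hG]; ring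
    exact Nat.eq_of_mul_eq_mul_left hg0 this
  obtain ⟨m, hm, hm9⟩ : ∃ m, a = 3 * m + 1 ∧ 2 ≤ m := by
    rcases hg3 with h | h
    · rw [h, mul_one] at hcard
      have h3 : ¬ 3 ∣ t := by
        intro h3
        have := Nat.gcd_eq_left h3
        omega
      have h5 : t % 3 = 1 ∨ t % 3 = 2 := by omega
      rcases h5 with h5 | h5
      · obtain ⟨u, hu⟩ : ∃ u, t = 3 * u + 1 := ⟨t / 3, by omega⟩
        refine ⟨(t + 1) * (u + 1), ?_, ?_⟩
        · rw [hcard, hu]; ring
        · have : 1 ≤ u := by omega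
          nlinarith only [this]
      · obtain ⟨u, hu⟩ : ∃ u, t = 3 * u + 2 := ⟨t / 3, by omega⟩
        refine ⟨(u + 1) * (t + 2), ?_, ?_⟩
        · rw [hcard, hu]; ring
        · nlinarith only []
    · obtain ⟨u, hu⟩ : 3 ∣ t := h ▸ Nat.gcd_dvd_right 3 t
      refine ⟨u ^ 2 + u, ?_, ?_⟩
      · have : a * 3 = 3 * (3 * (u ^ 2 + u) + 1) := by
          rw [← h, hcard, hu, h]; ring
        omega
      · have : 1 ≤ u := by omega
        nlinarith only [this]
  refine ⟨hn, ?_, m, hm9, hm⟩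
  obtain ⟨r, rfl⟩ : ∃ r, t = r + 1 := ⟨t - 1, by omega⟩
  have : (r + 1 + 1) ^ 3 * ((r + 1) ^ 2 * (r + 1 + 2)) =
      3 + a * (g * ((r + 1) * ((r + 1) ^ 2 * (r + 1 + 2)) + r)) := by
    have e : a * (g * ((r + 1) * ((r + 1) ^ 2 * (r + 1 + 2)) + r)) =
      (a * g) * ((r + 1) * ((r + 1) ^ 2 * (r + 1 + 2)) + r) := by ring
    rw [e, hcard]
    ring
  rw [this, Nat.add_mul_mod_self_left, Nat.mod_eq_of_lt (by omega)]

theorem exists_irr {G : Type*} [Group G] {n : ℕ} (h : n ∈ charDegrees G) :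
    ∃ χ : IrrCharacter G, charDegree (χ : G → ℂ) = n := h

theorem deg_one {G : Type*} [Group G] [Finite G] : charDegree (one G : G → ℂ) = 1 := by
  have h := Cfsg.Agent.Blocks.Basic.irr_one_eq_charDegree (_root_.Cfsg.Agent.Characters.CCValues.one G).2
  rw [coe_one, Pi.one_apply] at h
  exact_mod_cast h.symm

/-- **the elements of the Singer torus** -/
theorem sing_conj {t : ℕ} (ht : Fintype.card F = t + 1) (ht2 : 2 ≤ t) {A : Subgroup PSL3(F)} (hA : CC A)
    (hcard : Nat.card A * Nat.gcd 3 t = t ^ 2 + 3 * t + 3) (β : MulAut PSL3(F))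
    (h : ∀ θ : PSL3(F) → ℂ, IsIrrCharacter _ θ →
      charDegree θ = (Fintype.card F - 1) ^ 2 * (Fintype.card F + 1) → θ ∘ β = θ) {x : PSL3(F)} (hx : x ∈ A)
    (hx1 : x ≠ 1) : IsConj x (β x) := by
  classical
  have hfin : Finite PSL3(F) := Quotient.finite _
  have := Fintype.ofFinite PSL3(F)
  obtain ⟨hn, hmod, m, hm2, hm⟩ := sing_num ht ht2 hcard
  obtain ⟨St, hSt⟩ := exists_irr (Cfsg.Agent.H326.T3.sl3_st (F := F))
  obtain ⟨P, hP⟩ := exists_irr (Cfsg.Agent.H326.T3.sl3_two (F := F))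
  rw [ht] at hSt hP
  have d1 : charDegree (one PSL3(F) : PSL3(F) → ℂ) = 1 := deg_one
  have hne1 : _root_.Cfsg.Agent.Characters.CCValues.one PSL3(F) ≠ St := by
    intro h1
    rw [← h1, d1] at hSt
    have : 1 < (t + 1) ^ 3 := Nat.one_lt_pow (by norm_num) (by omega)
    omega
  have hne2 : _root_.Cfsg.Agent.Characters.CCValues.one PSL3(F) ≠ P := by
    intro h1
    rw [← h1, d1] at hP
    linarith only [hP, _root_.sq_nonneg (↑t : ℤ)]
  have hne3 : St ≠ P := by
    intro h1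
    rw [← h1, hSt] at hP
    nlinarith only [ht2, hP]
  have hdvd : (Nat.card A : ℤ) ∣ (t : ℤ) ^ 2 + 3 * t + 3 := by
    refine ⟨Nat.gcd 3 t, ?_⟩
    exact_mod_cast hcard.symm
  refine inv_conj (s := m) (n := (t + 1) ^ 3 * (t ^ 2 * (t + 2))) (e := 3) hA hm2 (by norm_num) le_rfl hm hn hmod
    {_root_.Cfsg.Agent.Characters.CCValues.one PSL3(F), St, P} (fun ψ => if ψ = P then -1 else 1) ?_ ?_ ?_ (d := t ^ 2 * (t + 2)) ?_ β ?_ hx hx1
  · intro ψ _
    by_cases hψ : ψ = P
    · right; simp [hψ]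
    · left; simp [hψ]
  · intro ψ hψ
    simp only [Finset.mem_insert, Finset.mem_singleton] at hψ
    rcases hψ with rfl | rfl | rfl
    · rw [if_neg hne2, d1]
      simp only [_root_.Nat.card_eq_fintype_card, _root_.Nat.cast_one, _root_.sub_self, _root_.dvd_zero]
    · rw [if_neg hne3, hSt]
      have : (((t + 1) ^ 3 : ℕ) : ℤ) - 1 = ((t : ℤ) ^ 2 + 3 * t + 3) * t := by push_cast; ring
      rw [this]
      exact hdvd.mul_right _
    · rw [if_pos rfl, hP]
      have : (((t + 1) ^ 2 + (t + 1) : ℕ) : ℤ) - (-1) = (t : ℤ) ^ 2 + 3 * t + 3 := by push_cast; ring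
      rw [this]
      exact hdvd
  · rw [Finset.card_insert_of_notMem, Finset.card_insert_of_notMem, Finset.card_singleton]
    · simpa using hne3
    · simp [hne1, hne2]
  · left
    rw [Finset.sum_insert, Finset.sum_insert, Finset.sum_singleton, if_neg hne2, if_neg hne3, if_pos rfl, d1, hSt, hP]
    · push_cast
      ring
    · simpa using hne3
    · simp [hne1, hne2]
  · intro ψ hψ
    apply h ψ ψ.2
    rw [hψ, ht, Nat.add_sub_cancel]

end psl


section four

open Cfsg.Agent.H504.ZeroTI Cfsg.Agent.Characters.CCValues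

variable {F : Type} [Field F]

/-- an element of order 5 of `SL(3, 4)` -/
def m5 (y : F) (h2 : (2 : F) = 0) : SL3(F) :=
  ⟨!![0, 1, 0; 1, y, 0; 0, 0, 1], by
    rw [Matrix.det_fin_three]
    simp
    linear_combination -h2⟩

theorem m5_inv (y : F) (h2 : (2 : F) = 0) : (((m5 y h2)⁻¹ : SL3(F)) : Matrix (Fin 3) (Fin 3) F) =
    !![y, 1, 0; 1, 0, 0; 0, 0, 1] := by
  have h : ((m5 y h2 : SL3(F)) : Matrix (Fin 3) (Fin 3) F) * !![y, 1, 0; 1, 0, 0; 0, 0, 1] = 1 := by
    ext i j
    (revert i j; simp only [m5, Matrix.mul_apply, Fin.sum_univ_three, _root_.Fin.forall_fin_succ, _root_.Matrix.of_apply, _root_.Matrix.cons_val', _root_.Matrix.cons_val_fin_one, Fin.isValue, _root_.Matrix.cons_val_zero, _root_.Matrix.cons_val_one, _root_.Matrix.cons_val, _root_.mul_one, _root_.MulZeroClass.mul_zero, _root_.add_zero, _root_.Matrix.cons_val_succ, _root_.zero_add, _root_.IsEmpty.forall_iff, _root_.MulZeroClass.zero_mul, _root_.Matrix.one_apply_eq, Nat.reduceAdd,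 _root_.Fin.succ_zero_eq_one, _root_.ne_eq, _root_.zero_ne_one, _root_.not_false_eq_true, _root_.Matrix.one_apply_ne, _root_.Fin.succ_one_eq_two, Fin.reduceEq, _root_.Fin.succ_ne_zero, _root_.one_mul, _root_.and_true, _root_.true_and]) <;> (repeat' with_reducible apply And.intro)
    linear_combination y * h2
  have h1 : (((m5 y h2)⁻¹ : SL3(F)) : Matrix (Fin 3) (Fin 3) F) * ((m5 y h2 : SL3(F)) : Matrix (Fin 3) (Fin 3) F) = 1 := by
    rw [← Matrix.SpecialLinearGroup.coe_mul, inv_mul_cancel, Matrix.SpecialLinearGroup.coe_one]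
  calc _ = (((m5 y h2)⁻¹ : SL3(F)) : Matrix (Fin 3) (Fin 3) F) *
      (((m5 y h2 : SL3(F)) : Matrix (Fin 3) (Fin 3) F) * !![y, 1, 0; 1, 0, 0; 0, 0, 1]) := by rw [h, mul_one]
    _ = _ := by rw [← mul_assoc, h1, one_mul]

theorem m5_pow (y : F) (h2 : (2 : F) = 0) (hy : y ^ 2 + y + 1 = 0) : (m5 y h2) ^ 5 = 1 := by
  have hsq : ((m5 y h2 ^ 2 : SL3(F)) : Matrix (Fin 3) (Fin 3) F) = !![1, y, 0; y, y, 0; 0, 0, 1] := by
    rw [Matrix.SpecialLinearGroup.coe_pow, sq]
    ext i j
    (revert i j; simp only [m5, Matrix.mul_apply, Fin.sum_univ_three, _root_.Fin.forall_fin_succ, _root_.Matrix.of_apply, _root_.Matrix.cons_val', _root_.Matrix.cons_val_fin_one, Fin.isValue, _root_.Matrix.cons_val_zero, _root_.Matrix.cons_val_one, _root_.Matrix.cons_val, _root_.MulZeroClass.mul_zero, _root_.mul_one, _root_.zero_add, _root_.add_zero, _root_.Matrix.cons_val_succ, _root_.implies_true, _root_.one_mul, _root_.MulZeroClass.zero_mul, _root_.and_true, _root_.true_and])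 <;> (repeat' with_reducible apply And.intro)
    linear_combination hy - y * h2
  have h4 : ((m5 y h2 ^ 4 : SL3(F)) : Matrix (Fin 3) (Fin 3) F) = !![y, 1, 0; 1, 0, 0; 0, 0, 1] := by
    have : m5 y h2 ^ 4 = m5 y h2 ^ 2 * m5 y h2 ^ 2 := by rw [← pow_add]
    rw [this, Matrix.SpecialLinearGroup.coe_mul, hsq]
    ext i j
    (revert i j; simp only [Matrix.mul_apply, Fin.sum_univ_three, _root_.Fin.forall_fin_succ, _root_.Matrix.of_apply, _root_.Matrix.cons_val', _root_.Matrix.cons_val_fin_one, Fin.isValue, _root_.Matrix.cons_val_zero, _root_.Matrix.cons_val_one, _root_.Matrix.cons_val, _root_.mul_one, _root_.MulZeroClass.mul_zero, _root_.add_zero, _root_.Matrix.cons_val_succ, _root_.zero_add, _root_.implies_true, _root_.one_mul, _root_.MulZeroClass.zero_mul, _root_.and_true, _root_.true_and]) <;> (repeat' with_reducible apply And.intro)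
    · linear_combination hy - y * h2
    · linear_combination hy - h2
    · linear_combination hy - h2
    · linear_combination y ^ 2 * h2
  have h5 : m5 y h2 ^ 5 = m5 y h2 ^ 4 * m5 y h2 := by rw [← pow_succ]
  apply Subtype.ext
  rw [h5, Matrix.SpecialLinearGroup.coe_mul, h4, Matrix.SpecialLinearGroup.coe_one]
  ext i j
  (revert i j; simp only [m5, Matrix.mul_apply, Fin.sum_univ_three, _root_.Fin.forall_fin_succ, _root_.Matrix.of_apply, _root_.Matrix.cons_val', _root_.Matrix.cons_val_fin_one, Fin.isValue, _root_.Matrix.cons_val_zero, _root_.Matrix.cons_val_one, _root_.Matrix.cons_val, _root_.MulZeroClass.mul_zero, _root_.mul_one, _root_.zero_add, _root_.add_zero, _root_.Matrix.cons_val_succ, _root_.IsEmpty.forall_iff, _root_.Matrix.one_apply_eq, _root_.one_mul, Nat.reduceAdd, _root_.Fin.succ_zero_eq_one, _root_.ne_eq, _root_.zero_ne_one, _root_.not_false_eq_true, _root_.Matrix.one_apply_ne, _root_.Fin.succ_one_eq_two, Fin.reduceEq, _root_.Fin.succ_ne_zero,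 _root_.MulZeroClass.zero_mul, _root_.and_true, _root_.true_and]) <;> (repeat' with_reducible apply And.intro)
  linear_combination y * h2

variable [Fintype F]

/-- **the elements of order 5 of `PSL(3, 4)`** -/
theorem five_conj (hF : Fintype.card F = 4) (β : MulAut PSL3(F))
    (h : ∀ θ : PSL3(F) → ℂ, IsIrrCharacter _ θ → charDegree θ + 1 = Fintype.card F ^ 3 → θ ∘ β = θ) {z : PSL3(F)}
    (hz : orderOf z = 5) : IsConj z (β z) := by
  classical
  have hfin : Finite PSL3(F) := Quotient.finite _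
  have := Fintype.ofFinite PSL3(F)
  have hp5 : Fact (Nat.Prime 5) := ⟨by norm_num⟩
  have hn : Nat.card PSL3(F) = 20160 := by
    rw [Cfsg.Agent.H681.ZerosPSL3.hn_of (t := 3) hF (a := 7) (by norm_num)]
    norm_num
  obtain ⟨x, hx, hxc⟩ := Cfsg.Agent.H681.ZerosPSL3.exists_isolated hF hn (Or.inl rfl)
  have hA := Cfsg.Agent.H504.Zeros.cc_of_prime (by norm_num : Nat.Prime 5) hx hxc
  have hcA : Nat.card (Subgroup.zpowers x) = 5 := by rw [Nat.card_zpowers, hx]
  -- Sylow
  have hval : 5 ^ (Nat.card PSL3(F)).factorization 5 = 5 := by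
    rw [hn]
    have : (20160 : ℕ) = 5 ^ 1 * 4032 := by norm_num
    rw [this, Nat.factorization_mul (by norm_num) (by norm_num), Finsupp.add_apply,
      Nat.Prime.factorization_pow (by norm_num : Nat.Prime 5)]
    rw [Nat.factorization_eq_zero_of_not_dvd (by norm_num : ¬ 5 ∣ 4032)]
    simp
  let P : Sylow 5 PSL3(F) := Sylow.ofCard (Subgroup.zpowers x) (by rw [hcA, hval])
  let Q : Sylow 5 PSL3(F) := Sylow.ofCard (Subgroup.zpowers z) (by rw [Nat.card_zpowers, hz, hval])
  obtain ⟨g, hg⟩ := MulAction.exists_smul_eq PSL3(F) Q P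
  have hza : g * z * g⁻¹ ∈ Subgroup.zpowers x := by
    have h1 : g * z * g⁻¹ ∈ ((g • Q : Sylow 5 PSL3(F)) : Subgroup PSL3(F)) := by
      rw [Sylow.coe_subgroup_smul]
      exact Subgroup.smul_mem_pointwise_smul z (MulAut.conj g) _ (Subgroup.mem_zpowers z)
    rw [hg] at h1
    exact h1
  have ha1 : g * z * g⁻¹ ≠ 1 := by
    intro h1
    have h2 : z = 1 := by
      have := congrArg (fun y => g⁻¹ * y * g) h1
      simpa only [mul_assoc, _root_.inv_mul_cancel_left, _root_.inv_mul_cancel, _root_.mul_one] using this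
    rw [h2, orderOf_one] at hz
    omega
  obtain ⟨St, hSt⟩ := exists_irr (Cfsg.Agent.H326.T3.sl3_st (F := F))
  rw [hF] at hSt
  have d1 : charDegree (one PSL3(F) : PSL3(F) → ℂ) = 1 := deg_one
  have hne1 : _root_.Cfsg.Agent.Characters.CCValues.one PSL3(F) ≠ St := by
    intro h1
    rw [← h1, d1] at hSt
    norm_num at hSt
  have key : IsConj (g * z * g⁻¹) (β (g * z * g⁻¹)) := by
    refine inv_conj (s := 2) (n := 4032) (e := 2) hA le_rfl le_rfl (by norm_num) hcA (by rw [hn, hcA])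
      (by rw [hcA]) {_root_.Cfsg.Agent.Characters.CCValues.one PSL3(F), St} (fun ψ => if ψ = St then -1 else 1) ?_ ?_ ?_ (d := 63) ?_ β ?_ hza ha1
    · intro ψ _
      by_cases hψ : ψ = St
      · right; simp [hψ]
      · left; simp [hψ]
    · intro ψ hψ
      simp only [Finset.mem_insert, Finset.mem_singleton] at hψ
      rw [hcA]
      rcases hψ with rfl | rfl
      · rw [if_neg hne1, d1]
        simp
      · rw [if_pos rfl, hSt]
        norm_num
    · rw [Finset.card_insert_of_notMem, Finset.card_singleton]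
      simpa using hne1
    · right
      rw [Finset.sum_insert, Finset.sum_singleton, if_neg hne1, if_pos rfl, d1, hSt]
      · norm_num
      · simpa using hne1
    · intro ψ hψ
      apply h ψ ψ.2
      rw [hψ, hF]
      norm_num
  have h3 : IsConj z (g * z * g⁻¹) := isConj_iff.2 ⟨g, rfl⟩
  have h4 : IsConj (β z) (β (g * z * g⁻¹)) := isConj_iff.2 ⟨β g, by rw [map_mul, map_mul, map_inv]⟩
  exact h3.trans (key.trans h4.symm)

/-- the field automorphism of `PSL(3, 4)` -/
theorem four_false (hF : Fintype.card F = 4) {δ : MulAut PSL3(F)} (hδ : IsInnerDiagonalAutPSL δ) (σ : F ≃+* F)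
    (hσ : ∀ c, σ c = c ^ 2) (φ' : MulAut PSL3(F)) (hφ : IsStdFieldAutPSL σ φ')
    (h : ∀ θ : PSL3(F) → ℂ, IsIrrCharacter _ θ → charDegree θ + 1 = Fintype.card F ^ 3 → θ ∘ (δ * φ') = θ) :
    False := by
  classical
  have h4 : (4 : F) = 0 := by
    have := FiniteField.cast_card_eq_zero F
    rw [hF] at this
    exact_mod_cast this
  have h2 : (2 : F) = 0 := by
    have : (2 : F) ^ 2 = 0 := by linear_combination h4
    exact pow_eq_zero_iff (two_ne_zero) |>.1 this
  -- an element of order three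
  obtain ⟨y, hy0, hy1⟩ : ∃ y : F, y ≠ 0 ∧ y ≠ 1 := by
    by_contra hc
    push Not at hc
    have h5 : (Finset.univ : Finset F) ⊆ {0, 1} := by
      intro y _
      by_cases hy : y = 0
      · simp only [hy, _root_.Finset.mem_insert, _root_.Finset.mem_singleton, _root_.zero_ne_one, _root_.or_false]
      · simp only [hc y hy, _root_.Finset.mem_insert, _root_.one_ne_zero, _root_.Finset.mem_singleton, _root_.or_true]
    have h6 := Finset.card_le_card h5
    rw [Finset.card_univ, hF] at h6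
    have := Finset.card_le_two (a := (0 : F)) (b := 1)
    omega
  have hy : y ^ 2 + y + 1 = 0 := by
    have h5 := FiniteField.pow_card_sub_one_eq_one y hy0
    rw [hF] at h5
    have h6 : (y - 1) * (y ^ 2 + y + 1) = 0 := by
      have h7 : y ^ 3 = 1 := h5
      linear_combination h7
    rcases mul_eq_zero.1 h6 with h7 | h7
    · exact absurd (sub_eq_zero.1 h7) hy1
    · exact h7
  have hne : (QuotientGroup.mk (m5 y h2) : PSL3(F)) ≠ 1 := by
    intro h1
    obtain ⟨r, -, hr⟩ := Matrix.SpecialLinearGroup.mem_center_iff.1 ((QuotientGroup.eq_one_iff _).1 h1)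
    have h5 : Matrix.scalar (Fin 3) r 0 1 = (m5 y h2 : Matrix (Fin 3) (Fin 3) F) 0 1 := by rw [hr]
    simp [m5] at h5
  have hord : orderOf (QuotientGroup.mk (m5 y h2) : PSL3(F)) = 5 := by
    have hp5 : Fact (Nat.Prime 5) := ⟨by norm_num⟩
    apply orderOf_eq_prime _ hne
    rw [← QuotientGroup.mk_pow, m5_pow y h2 hy]
    rfl
  have hconj := five_conj hF (δ * φ') h hord
  let s₁ : SL3(F) := Matrix.SpecialLinearGroup.map (σ : F →+* F) (m5 y h2)
  have h5 : φ' (QuotientGroup.mk (m5 y h2)) = QuotientGroup.mk s₁ := hφ _ _ rfl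
  have h6 : (δ * φ') (QuotientGroup.mk (m5 y h2) : PSL3(F)) = δ (QuotientGroup.mk s₁) := by
    rw [MulAut.mul_apply, h5]
  rw [h6] at hconj
  obtain ⟨K, z, hz3, hK⟩ := rel hδ _ _ hconj
  have hz0 : z ≠ 0 := by
    rintro rfl
    norm_num only [_root_.zero_ne_one] at hz3
  have hKi : (K : Matrix (Fin 3) (Fin 3) F) * ((K⁻¹ : GL (Fin 3) F) : Matrix (Fin 3) (Fin 3) F) = 1 := K.mul_inv
  have hKi' : ((K⁻¹ : GL (Fin 3) F) : Matrix (Fin 3) (Fin 3) F) * (K : Matrix (Fin 3) (Fin 3) F) = 1 := K.inv_mul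
  -- the trace
  have ht : ∀ (A B : Matrix (Fin 3) (Fin 3) F) (c : F), A * (K : Matrix (Fin 3) (Fin 3) F) =
      c • ((K : Matrix (Fin 3) (Fin 3) F) * B) → A.trace = c * B.trace := by
    intro A B c hAB
    have h7 : A = c • ((K : Matrix (Fin 3) (Fin 3) F) * B * ((K⁻¹ : GL (Fin 3) F) : Matrix (Fin 3) (Fin 3) F)) := by
      rw [← Matrix.smul_mul, ← hAB, mul_assoc, hKi, mul_one]
    rw [h7, Matrix.trace_smul, mul_assoc, Matrix.trace_mul_comm, mul_assoc, hKi', mul_one, smul_eq_mul]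
  have hinv : (((m5 y h2)⁻¹ : SL3(F)) : Matrix (Fin 3) (Fin 3) F) * (K : Matrix (Fin 3) (Fin 3) F) =
      z⁻¹ • ((K : Matrix (Fin 3) (Fin 3) F) * ((s₁⁻¹ : SL3(F)) : Matrix (Fin 3) (Fin 3) F)) := by
    have e1 : ((m5 y h2 : SL3(F)) : Matrix (Fin 3) (Fin 3) F) * (((m5 y h2)⁻¹ : SL3(F)) : Matrix (Fin 3) (Fin 3) F) = 1 := by
      rw [← Matrix.SpecialLinearGroup.coe_mul, mul_inv_cancel, Matrix.SpecialLinearGroup.coe_one]
    have e1' : (((m5 y h2)⁻¹ : SL3(F)) : Matrix (Fin 3) (Fin 3) F) * ((m5 y h2 : SL3(F)) : Matrix (Fin 3) (Fin 3) F) = 1 := by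
      rw [← Matrix.SpecialLinearGroup.coe_mul, inv_mul_cancel, Matrix.SpecialLinearGroup.coe_one]
    have e2 : (s₁ : Matrix (Fin 3) (Fin 3) F) * ((s₁⁻¹ : SL3(F)) : Matrix (Fin 3) (Fin 3) F) = 1 := by
      rw [← Matrix.SpecialLinearGroup.coe_mul, mul_inv_cancel, Matrix.SpecialLinearGroup.coe_one]
    calc (((m5 y h2)⁻¹ : SL3(F)) : Matrix (Fin 3) (Fin 3) F) * (K : Matrix (Fin 3) (Fin 3) F) =
        (((m5 y h2)⁻¹ : SL3(F)) : Matrix (Fin 3) (Fin 3) F) * (K : Matrix (Fin 3) (Fin 3) F) *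
          ((s₁ : Matrix (Fin 3) (Fin 3) F) * ((s₁⁻¹ : SL3(F)) : Matrix (Fin 3) (Fin 3) F)) := by rw [e2, mul_one]
      _ = (((m5 y h2)⁻¹ : SL3(F)) : Matrix (Fin 3) (Fin 3) F) * ((K : Matrix (Fin 3) (Fin 3) F) *
          (s₁ : Matrix (Fin 3) (Fin 3) F)) * ((s₁⁻¹ : SL3(F)) : Matrix (Fin 3) (Fin 3) F) := by simp only [mul_assoc]
      _ = (((m5 y h2)⁻¹ : SL3(F)) : Matrix (Fin 3) (Fin 3) F) * (z⁻¹ • (((m5 y h2 : SL3(F)) : Matrix (Fin 3) (Fin 3) F) *
          (K : Matrix (Fin 3) (Fin 3) F))) * ((s₁⁻¹ : SL3(F)) : Matrix (Fin 3) (Fin 3) F) := by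
            rw [hK, smul_smul, inv_mul_cancel₀ hz0, one_smul]
      _ = z⁻¹ • (((((m5 y h2)⁻¹ : SL3(F)) : Matrix (Fin 3) (Fin 3) F) * ((m5 y h2 : SL3(F)) : Matrix (Fin 3) (Fin 3) F)) *
          (K : Matrix (Fin 3) (Fin 3) F) * ((s₁⁻¹ : SL3(F)) : Matrix (Fin 3) (Fin 3) F)) := by
            rw [Matrix.mul_smul, Matrix.smul_mul]
            simp only [mul_assoc]
      _ = _ := by rw [e1', one_mul]
  have t1 := ht _ _ _ hK
  have t2 := ht _ _ _ hinv
  have a1 : ((m5 y h2 : SL3(F)) : Matrix (Fin 3) (Fin 3) F).trace = y + 1 := by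
    simp [m5, Matrix.trace, Fin.sum_univ_three]
  have a2 : (((m5 y h2)⁻¹ : SL3(F)) : Matrix (Fin 3) (Fin 3) F).trace = y + 1 := by
    rw [m5_inv]
    simp [Matrix.trace, Fin.sum_univ_three]
  have hmt : ∀ A : Matrix (Fin 3) (Fin 3) F, (A.map σ).trace = A.trace ^ 2 := by
    intro A
    rw [← hσ]
    simp only [Matrix.trace, _root_.Matrix.diag_apply, _root_.Matrix.map_apply, _root_.map_sum]
  have a3 : (s₁ : Matrix (Fin 3) (Fin 3) F).trace = (y + 1) ^ 2 := by
    rw [← a1, ← hmt]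
    rfl
  have a4 : ((s₁⁻¹ : SL3(F)) : Matrix (Fin 3) (Fin 3) F).trace = (y + 1) ^ 2 := by
    rw [← a2, ← hmt]
    have : s₁⁻¹ = Matrix.SpecialLinearGroup.map (σ : F →+* F) ((m5 y h2)⁻¹) := (map_inv _ _).symm
    rw [this]
    rfl
  rw [a1, a3] at t1
  rw [a2, a4] at t2
  have hy2 : y + 1 ≠ 0 := by
    intro h7
    apply hy1
    linear_combination h7 - h2
  have b1 : z * (y + 1) = 1 := by
    apply mul_right_cancel₀ hy2
    linear_combination -t1
  have b2 : z⁻¹ * (y + 1) = 1 := by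
    apply mul_right_cancel₀ hy2
    linear_combination -t2
  have b3 : y + 1 = z := by
    calc y + 1 = z * (z⁻¹ * (y + 1)) := by rw [← mul_assoc, mul_inv_cancel₀ hz0, one_mul]
      _ = z := by rw [b2, mul_one]
  rw [← b3] at b1
  -- `(y+1)² = 1`
  apply hy0
  have b4 : y ^ 2 = 0 := by linear_combination b1 - y * h2
  exact pow_eq_zero_iff (two_ne_zero) |>.1 b4

end four

/-- **Theorem** (task 2532). -/
theorem inndiag_of_inv {F : Type} [Field F] [Fintype F] (h3 : 3 ≤ Fintype.card F)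
    (β : MulAut (ProjectiveSpecialLinearGroup (Fin 3) F))
    (h : ∀ θ : ProjectiveSpecialLinearGroup (Fin 3) F → ℂ, IsIrrCharacter _ θ →
      (charDegree θ = (Fintype.card F - 1) ^ 2 * (Fintype.card F + 1) ∨ charDegree θ + 1 = Fintype.card F ^ 3) →
      θ ∘ β = θ) : IsInnerDiagonalAutPSL β := by
  classical
  obtain ⟨p, hp⟩ := CharP.exists F
  have hpp : Fact p.Prime := ⟨CharP.char_is_prime F p⟩
  obtain ⟨f, -, hf⟩ := FiniteField.card F p
  have hf' : Nat.card F = p ^ (f : ℕ) := by rw [Nat.card_eq_fintype_card, hf]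
  obtain ⟨δ, φ', γ, σ, hδ, hφ, hγ, rfl⟩ := Cfsg.Agent.S2690.result hf f.pos (n := 3) (by norm_num) (by norm_num) β
  obtain ⟨t, ht⟩ : ∃ t, Fintype.card F = t + 1 := ⟨Fintype.card F - 1, by omega⟩
  obtain ⟨E, _, _, _, φ, ω, s, A, hfr, hω, hord, hs, hsA, hs1, hA, hcard⟩ := exists_singer ht
  have hpf : p ^ (f : ℕ) = t + 1 := by rw [← hf, ht]
  have hord' : (p ^ (f : ℕ)) ^ 2 + p ^ (f : ℕ) + 1 ∣ orderOf ω := by rw [hpf]; exact hord
  have hq3 : 3 ≤ p ^ (f : ℕ) := by rw [← hf]; exact h3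
  have hconj := sing_conj ht (by omega) hA hcard (δ * φ' * γ) (fun θ hθ hd => h θ hθ (Or.inl hd)) hsA hs1
  have hrefl : σ = RingEquiv.refl F → φ' = 1 := by
    rintro rfl
    ext x
    obtain ⟨u, rfl⟩ := QuotientGroup.mk_surjective x
    rw [hφ u u (by ext i j; rfl)]
    rfl
  rcases hγ with rfl | hγ
  · rw [mul_one] at hconj h ⊢
    let s₁ : SL3(F) := Matrix.SpecialLinearGroup.map (σ : F →+* F) s
    have h5 : (δ * φ') (QuotientGroup.mk s : PSL3(F)) = δ (QuotientGroup.mk s₁) := by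
      rw [MulAut.mul_apply, hφ s s₁ rfl]
    rw [h5] at hconj
    obtain ⟨K, z, hz3, hK⟩ := rel hδ _ _ hconj
    have hs₁ : (s₁ : Matrix (Fin 3) (Fin 3) F) = (φ ω).map σ := by
      rw [← hs]
      rfl
    rw [hs₁, hs] at hK
    rcases plus_case hf' hq3 hfr φ σ K hω hord' hz3 hK with h6 | ⟨h6, h7⟩
    · rw [hrefl h6, mul_one]
      exact hδ
    · exact (four_false (hf.trans h6) hδ σ h7 φ' hφ (fun θ hθ hd => h θ hθ (Or.inr hd))).elim
  · exfalso
    let s₂ : SL3(F) := ⟨((s⁻¹ : SL3(F)) : Matrix (Fin 3) (Fin 3) F)ᵀ, by rw [Matrix.det_transpose]; exact (s⁻¹).2⟩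
    let s₁ : SL3(F) := Matrix.SpecialLinearGroup.map (σ : F →+* F) s₂
    have h5 : (δ * φ' * γ) (QuotientGroup.mk s : PSL3(F)) = δ (QuotientGroup.mk s₁) := by
      rw [MulAut.mul_apply, MulAut.mul_apply, hγ s s₂ rfl, hφ s₂ s₁ rfl]
    rw [h5] at hconj
    obtain ⟨K, z, hz3, hK⟩ := rel hδ _ _ hconj
    have hω0 : ω ≠ 0 := fun h0 => hω 0 (by rw [h0, map_zero])
    have hinv : ((s⁻¹ : SL3(F)) : Matrix (Fin 3) (Fin 3) F) = φ ω⁻¹ := by
      have e1 : ((s⁻¹ : SL3(F)) : Matrix (Fin 3) (Fin 3) F) * (s : Matrix (Fin 3) (Fin 3) F) = 1 := by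
        rw [← Matrix.SpecialLinearGroup.coe_mul, inv_mul_cancel, Matrix.SpecialLinearGroup.coe_one]
      calc ((s⁻¹ : SL3(F)) : Matrix (Fin 3) (Fin 3) F) =
          ((s⁻¹ : SL3(F)) : Matrix (Fin 3) (Fin 3) F) * (φ ω * φ ω⁻¹) := by
            rw [← map_mul, mul_inv_cancel₀ hω0, map_one, mul_one]
        _ = (((s⁻¹ : SL3(F)) : Matrix (Fin 3) (Fin 3) F) * (s : Matrix (Fin 3) (Fin 3) F)) * φ ω⁻¹ := by
            rw [hs, mul_assoc]
        _ = _ := by rw [e1, one_mul]
    have hs₁ : (s₁ : Matrix (Fin 3) (Fin 3) F) = (φ ω⁻¹)ᵀ.map σ := by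
      rw [← hinv]
      rfl
    rw [hs₁, hs] at hK
    exact minus_case hf' hq3 hfr φ σ K hω hord' hz3 hK

end Cfsg.Agent.H953.InvT
end

-- part: H446/SLT/Alt
section
/-!
# The alternating groups do not have the degrees of `SL₃(q)`, `q ≥ 3` (S4855, task 2536; helper446)
-/

set_option autoImplicit false

namespace Cfsg.Agent.H446.SLT

open Cfsg Cfsg.Agent.H691 Cfsg.Agent.H691.T3 Cfsg.Agent.H464.AltExt

theorem alt_false3 {A : Type*} [Group A] [Finite A] {S : Subgroup A} (h : AS A S) {n : ℕ} (hn : 7 ≤ n)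
    (e : S ≃* alternatingGroup (Fin n)) {q : ℕ} (hq : 3 ≤ q) (hD : charDegrees A ⊆ DT q) : False := by
  have := h.normal
  obtain ⟨φ, hφ⟩ := exists_act S hn e
  have h2 : alternatingGroup (Fin n) ≤ φ.range := by
    intro g hg
    refine ⟨e.symm ⟨g, hg⟩, ?_⟩
    rw [hφ, MulEquiv.apply_symm_apply]
  have h3 : n - 1 ∈ charDegrees A := by
    refine Cfsg.Agent.H681.DegBasic.mem_charDegrees.2 ⟨_, chi1_irr φ (by omega) h2, ?_⟩
    rw [chi1_one, Nat.cast_sub (by omega), Nat.cast_one]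
  have hle : n ≤ n.choose 2 := by
    rw [Nat.choose_two_right, Nat.le_div_iff_mul_le (by norm_num)]
    exact Nat.mul_le_mul_left n (by omega)
  have h4 : n.choose 2 - n ∈ charDegrees A := by
    refine Cfsg.Agent.H681.DegBasic.mem_charDegrees.2 ⟨_, chi2_irr φ (by omega) h2, ?_⟩
    rw [chi2_one, Nat.cast_sub hle]
  have h6 := hD h3
  have h7 := hD h4
  have hc : 2 * n.choose 2 = n * (n - 1) := by
    rw [Nat.choose_two_right]
    exact Nat.mul_div_cancel' (Nat.even_mul_pred_self n).two_dvd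
  obtain ⟨m, rfl⟩ : ∃ m, n = m + 1 := ⟨n - 1, by omega⟩
  rw [Nat.add_sub_cancel] at h6 hc
  obtain ⟨d, hd⟩ : ∃ d, (m + 1).choose 2 - (m + 1) = d := ⟨_, rfl⟩
  have hd2 : 2 * d + 2 * (m + 1) = (m + 1) * m := by omega
  rw [hd] at h7
  clear h3 h4 hc hle hd h2 hφ e h hD
  simp only [DT, Set.mem_ofPred_eq] at h6 h7
  obtain ⟨r, rfl⟩ : ∃ r, q = r + 3 := ⟨q - 3, by omega⟩
  have e1 : r + 3 - 1 = r + 2 := by omega
  rw [e1] at h6 h7
  -- the largest degree
  have hmax : d ≤ (r + 3 + 1) * ((r + 3) ^ 2 + (r + 3) + 1) := by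
    rcases h7 with h | h | h | h | h | ⟨-, h | h⟩ | ⟨-, h⟩ | ⟨-, h | h⟩ <;> nlinarith only [h, _root_.sq_nonneg (↑r + 2 : ℤ)]
  -- the smallest degree
  rcases Nat.lt_or_ge m ((r + 3) ^ 2 + (r + 3)) with hm | hm
  · have hr : r = 1 := by
      rcases h6 with h | h | h | h | h | ⟨-, h | h⟩ | ⟨-, h⟩ | ⟨h3, h | h⟩
      · omega
      · omega
      · nlinarith only [hm, h]
      · nlinarith only [hm, h]
      · nlinarith only [hm, h]
      · linarith only [hm, h]
      · nlinarith only [hm, h]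
      · nlinarith only [hm, h]
      · nlinarith only [hm, h]
      · have : r < 2 := by
          by_contra hcon
          obtain ⟨s, rfl⟩ : ∃ s, r = s + 2 := ⟨r - 2, by omega⟩
          nlinarith only [hm, h]
        interval_cases r <;> omega
    subst hr
    have hm15 : m = 15 := by (clear * - hn h6 hm; omega)
    subst hm15
    omega
  · nlinarith only [hd2, hmax, hm]
end Cfsg.Agent.H446.SLT
end

-- part: H446/SLT/Small
section
/-!
# The degrees of `SL₃(2)` (S4855, task 2529; helper446)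
-/

set_option autoImplicit false

namespace Cfsg.Agent.H446.SLT

open Cfsg Cfsg.Agent.Characters.Core Cfsg.Agent.H681.DegBasic Matrix

/-- distinct degrees: the sum of the squares is at most the group order -/
theorem sum_sq_degrees_le {G : Type*} [Group G] [Finite G] (s : Finset ℕ) (hs : ∀ d ∈ s, d ∈ charDegrees G) :
    ∑ d ∈ s, d ^ 2 ≤ Nat.card G := by
  classical
  have := finite_irr (G := G)
  have := Fintype.ofFinite (IrrCharacter G)
  have hex : ∀ d : ℕ, ∃ χ : IrrCharacter G, d ∈ s → (χ : G → ℂ) 1 = (d : ℂ) := by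
    intro d
    by_cases hd : d ∈ s
    · obtain ⟨χ, hχ, h1⟩ := mem_charDegrees.1 (hs d hd)
      exact ⟨⟨χ, hχ⟩, fun _ => h1⟩
    · exact ⟨⟨1, isIrr_one⟩, fun h => absurd h hd⟩
  choose f hf using hex
  have hinj : Set.InjOn f s := by
    intro a ha b hb hab
    have h1 := hf a ha
    have h2 := hf b hb
    rw [hab, h2] at h1
    exact_mod_cast h1.symm
  have hreal : ((∑ d ∈ s, d ^ 2 : ℕ) : ℝ) ≤ (Nat.card G : ℝ) := by
    have h1 : ∑ χ : IrrCharacter G, (((χ : G → ℂ) 1 ^ 2 : ℂ)).re = (Nat.card G : ℝ) := by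
      rw [← Complex.re_sum, Cfsg.Agent.CharDeep.PowerDegrees.sum_sq]
      simp
    rw [← h1]
    calc ((∑ d ∈ s, d ^ 2 : ℕ) : ℝ) = ∑ d ∈ s, (((f d : G → ℂ) 1 ^ 2 : ℂ)).re := by
          push_cast
          refine Finset.sum_congr rfl fun d hd => ?_
          rw [hf d hd]
          norm_cast
      _ = ∑ χ ∈ s.image f, (((χ : G → ℂ) 1 ^ 2 : ℂ)).re := by
          rw [Finset.sum_image hinj]
      _ ≤ ∑ χ : IrrCharacter G, (((χ : G → ℂ) 1 ^ 2 : ℂ)).re := by
          refine Finset.sum_le_sum_of_subset_of_nonneg (Finset.subset_univ _) fun χ _ _ => ?_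
          obtain ⟨n, -, hn⟩ := isIrr_apply_one χ.2
          rw [hn]
          norm_cast
          positivity
  exact_mod_cast hreal

/-- **The degrees of `PSL₂(7)`.** -/
theorem psl_seven {K : Type*} [Field K] [Fintype K] (h7 : Fintype.card K = 7) :
    charDegrees (ProjectiveSpecialLinearGroup (Fin 2) K) = {1, 3, 6, 7, 8} := by
  classical
  have h2 : ringChar K ≠ 2 := by
    intro h
    have h3 := FiniteField.even_card_iff_char_two.1 h
    omega
  obtain ⟨d7, d8, d6⟩ := Cfsg.Agent.H672.SL2Graph.psl_degrees h2 h7 (by norm_num)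
  have d3 : 3 ∈ charDegrees (ProjectiveSpecialLinearGroup (Fin 2) K) := by
    obtain ⟨θ, hθ, hd⟩ := Cfsg.Agent.H597.L2Char.exists_half (F := K) (m := 3) (by omega) (by norm_num)
      (Or.inl rfl) (by decide)
    exact ⟨⟨θ, hθ⟩, hd⟩
  have hodd : Odd (Fintype.card K) := by rw [h7]; decide
  have hcard : Nat.card (ProjectiveSpecialLinearGroup (Fin 2) K) = 168 := by
    have h := Cfsg.Agent.S0243.result h7 2 (by norm_num)
    rw [Fin.prod_univ_two] at h
    norm_num [-Nat.card_eq_fintype_card] at h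
    omega
  ext d
  constructor
  · intro hd
    obtain ⟨χ, hχ, hχd⟩ := mem_charDegrees.1 (charDegrees_comp (QuotientGroup.mk' (Subgroup.center
      (_root_.Matrix.SpecialLinearGroup (Fin 2) K))) (QuotientGroup.mk'_surjective _) hd)
    have h := (Cfsg.Agent.S2299.result (F := K) hodd).1 χ hχ
    rw [hχd, h7] at h
    have hd' : d = 1 ∨ d = 7 ∨ d = 8 ∨ d = 6 ∨ d = 4 ∨ d = 3 := by
      rcases h with h | h | h | h | h | h
      · left; exact_mod_cast h
      · right; left; exact_mod_cast h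
      · right; right; left
        have : ((d : ℕ) : ℂ) = ((8 : ℕ) : ℂ) := by rw [h]; norm_num
        exact_mod_cast this
      · right; right; right; left
        have : ((d : ℕ) : ℂ) = ((6 : ℕ) : ℂ) := by rw [h]; norm_num
        exact_mod_cast this
      · right; right; right; right; left
        norm_num at h
        exact_mod_cast h
      · right; right; right; right; right
        norm_num at h
        exact_mod_cast h
    rcases hd' with rfl | rfl | rfl | rfl | rfl | rfl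
    · simp
    · simp
    · simp
    · simp
    · exfalso
      have h3 := sum_sq_degrees_le (G := ProjectiveSpecialLinearGroup (Fin 2) K) {1, 3, 4, 6, 7, 8} (by
        intro x hx
        simp only [Finset.mem_insert, Finset.mem_singleton] at hx
        rcases hx with rfl | rfl | rfl | rfl | rfl | rfl
        · exact _root_.Cfsg.Agent.H681.DegBasic.one_mem
        · exact d3
        · exact hd
        · exact d6
        · exact d7
        · exact d8)
      rw [hcard] at h3
      revert h3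
      decide
    · simp
  · intro hd
    simp only [Set.mem_insert_iff, Set.mem_singleton_iff] at hd
    rcases hd with rfl | rfl | rfl | rfl | rfl
    · exact _root_.Cfsg.Agent.H681.DegBasic.one_mem
    · exact d3
    · exact d6
    · exact d7
    · exact d8

theorem sl3_small {F : Type} [Field F] [Fintype F] (h2 : Fintype.card F = 2) :
    charDegrees (_root_.Matrix.SpecialLinearGroup (Fin 3) F) = {1, 3, 6, 7, 8} := by
  classical
  have hs : IsSimpleGroup (ProjectiveSpecialLinearGroup (Fin 3) F) := Cfsg.Agent.S0249.result 3 le_rfl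
  have hcard : Nat.card (ProjectiveSpecialLinearGroup (Fin 3) F) = 168 := by
    have h := Cfsg.Agent.S0243.result h2 3 (by norm_num)
    simp only [Fin.prod_univ_three] at h
    norm_num [-Nat.card_eq_fintype_card] at h
    omega
  have : Fact (Nat.Prime 7) := ⟨by norm_num⟩
  obtain ⟨e⟩ := Cfsg.Agent.S0495.result hcard (F := ZMod 7) (by rw [ZMod.card])
  -- the centre is trivial
  have hz : Subgroup.center (_root_.Matrix.SpecialLinearGroup (Fin 3) F) = ⊥ := by
    rw [← Subgroup.card_eq_one, Nat.card_congr (SpecialLinearGroup.center_equiv_rootsOfUnity'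
      (n := Fin 3) (R := F) 0).toEquiv, rootsOfUnity_eq_ker, IsCyclic.card_powMonoidHom_ker, Nat.card_units,
      Nat.card_eq_fintype_card, h2]
    norm_num
  let e1 : _root_.Matrix.SpecialLinearGroup (Fin 3) F ≃* ProjectiveSpecialLinearGroup (Fin 3) F :=
    (QuotientGroup.quotientBot.symm).trans (QuotientGroup.quotientMulEquivOfEq hz.symm)
  rw [← psl_seven (K := ZMod 7) (by rw [ZMod.card])]
  ext d
  constructor
  · intro hd
    exact charDegrees_comp (e1.trans e).symm.toMonoidHom (e1.trans e).symm.surjective hd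
  · intro hd
    exact charDegrees_comp (e1.trans e).toMonoidHom (e1.trans e).surjective hd

end Cfsg.Agent.H446.SLT
end

-- part: H462/T3/PDvd3
section
/-!
# `p` divides `|N / R|` (S4855) (helper462)

`pdvd3`.
-/

set_option autoImplicit false

open scoped ComplexConjugate

namespace Cfsg.Agent.H462.T3

open Cfsg Cfsg.Agent.Characters Cfsg.Agent.Characters.Core Cfsg.Agent.H681.DegBasic Cfsg.Agent.H686.CharKit
open Cfsg.Agent.H691 Cfsg.Agent.H691.T3

universe u

/-- the elements of `DT q` are less than `2 q³` -/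
theorem lt_of_mem_DT {q d : ℕ} (hq : 2 ≤ q) (hd : d ∈ DT q) : d < 2 * q ^ 3 := by
  obtain ⟨a, rfl⟩ : ∃ a, q = a + 2 := ⟨q - 2, by omega⟩
  have e1 : a + 2 - 1 = a + 1 := rfl
  unfold DT at hd
  simp only [Set.mem_ofPred_eq, e1] at hd
  rcases hd with h | h | h | h | h | ⟨h3, h | h⟩ | ⟨h5, h⟩ | ⟨h3, h | h⟩
  · have : 0 < (a + 2) ^ 3 := by positivity
    omega
  · linarith only [h, Nat.zero_le (a ^ 3), _root_.sq_nonneg (↑a : ℤ), _root_.Nat.cast_nonneg (α := ℤ) (a)]
  · have : 0 < (a + 2) ^ 3 := by positivity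
    omega
  · have : 0 < (a + 2) ^ 3 := by positivity
    omega
  · linarith only [h, _root_.sq_nonneg (↑a : ℤ), _root_.Nat.cast_nonneg (α := ℤ) (a), _root_.Nat.cast_nonneg (α := ℤ) (d)]
  · linarith only [h, Nat.zero_le (a ^ 3), _root_.sq_nonneg (↑a : ℤ)]
  · linarith only [h, Nat.zero_le (a ^ 3), _root_.sq_nonneg (↑a : ℤ)]
  · obtain ⟨b, rfl⟩ : ∃ b, a = b + 3 := ⟨a - 3, by omega⟩
    linarith only [h, Nat.zero_le (b ^ 3), _root_.sq_nonneg (↑b : ℤ), _root_.Nat.cast_nonneg (α := ℤ) (b)]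
  · linarith only [h, Nat.zero_le (a ^ 3), _root_.sq_nonneg (↑a : ℤ), _root_.Nat.cast_nonneg (α := ℤ) (a)]
  · linarith only [h, _root_.sq_nonneg (↑a : ℤ), _root_.Nat.cast_nonneg (α := ℤ) (a), _root_.Nat.cast_nonneg (α := ℤ) (d)]

/-- **`p` divides `|N : R|`.** -/
theorem pdvd3 {G : Type*} [Group G] [Finite G] {p F : ℕ} (hp : p.Prime) (hF : F ≠ 0)
    (hst : (p ^ F) ^ 3 ∈ charDegrees G) (hD : charDegrees G ⊆ DT (p ^ F)) (N R : Subgroup G) [N.Normal] [R.Normal]
    (hRN : R ≤ N) (hN : ⁅N, N⁆ = N) {β : G → ℂ} (hβ : IsIrrCharacter G β)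
    (hβN : IsIrrCharacter N (fun n : N => β n)) (hβR : ∀ r ∈ R, β r = β 1) (hβ1 : β 1 ≠ 1) :
    p ∣ Nat.card (N ⧸ R.subgroupOf N) := by
  classical
  by_contra hcon
  have := Fintype.ofFinite G
  have := Fintype.ofFinite N
  have := Fintype.ofFinite R
  have := Fintype.ofFinite (R.subgroupOf N)
  have hperf : commutator N = ⊤ := by
    apply Subgroup.map_injective N.subtype_injective
    rw [commutator_def, Subgroup.map_commutator, ← MonoidHom.range_eq_map, Subgroup.range_subtype, hN]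
  have hcop : ∀ m, m ∣ Nat.card (N ⧸ R.subgroupOf N) → ∀ k, m ∣ p ^ k → m = 1 := by
    intro m hm k hk
    obtain ⟨j, -, rfl⟩ := (Nat.dvd_prime_pow hp).1 hk
    rcases Nat.eq_zero_or_pos j with rfl | hj
    · exact pow_zero p
    · exact (hcon ((dvd_pow_self p hj.ne').trans hm)).elim
  obtain ⟨χ, hχd⟩ := hst
  have hχ := χ.2
  have hχc := isIrr_isCharacter hχ
  -- the constituents of `χ` on `N` restrict irreducibly to `R`
  have hirr : ∀ ψ : N → ℂ, IsIrrCharacter N ψ → classInner (fun n : N => (χ : G → ℂ) n) ψ ≠ 0 →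
      IsIrrCharacter (R.subgroupOf N) (fun r : R.subgroupOf N => ψ r) := by
    intro ψ hψ ho
    have hoψ : H672.Over N.subtype (χ : G → ℂ) ψ := by
      rw [H672.over_iff]
      exact ho
    have h1 := (H672.charDegree_dvd_of_over N hχ hψ hoψ).1
    rw [hχd, ← pow_mul] at h1
    obtain ⟨φ, hφ, hoφ⟩ := H672.exists_under (f := (R.subgroupOf N).subtype) hψ
    obtain ⟨h2, h3⟩ := H672.charDegree_dvd_of_over (R.subgroupOf N) hψ hφ hoφ
    have h4 : charDegree ψ / charDegree φ = 1 := by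
      refine hcop _ ?_ (F * 3) (dvd_trans (Nat.div_dvd_of_dvd h2) h1)
      rw [Subgroup.index_eq_card] at h3
      exact h3
    have h5 : charDegree φ = charDegree ψ := by
      obtain ⟨k, hk⟩ := h2
      rw [hk, Nat.mul_div_cancel_left _ (H672.charDegree_pos hφ)] at h4
      rw [hk, h4, mul_one]
    have h6 := H672.eq_of_over_of_charDegree_eq hψ hφ hoφ h5
    have h7 : (fun r : R.subgroupOf N => ψ r) = φ := h6
    rw [h7]
    exact hφ
  have hwc : IsCharacter N (fun n : N => (χ : G → ℂ) n) := isCharacter_comp N.subtype hχc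
  have hnorm := norm_eq hperf (R.subgroupOf N) hwc hirr
  have hprod : IsIrrCharacter G ((χ : G → ℂ) * β) := by
    refine isIrr_mul N R hRN hχ hβ hβN hβR ?_
    rw [classInner_def, classInner_def] at hnorm
    rw [← hnorm]
    have h1 : Nat.card R = Nat.card (R.subgroupOf N) := Nat.card_congr (Subgroup.subgroupOfEquivOfLe hRN).symm.toEquiv
    rw [h1]
    congr 1
    exact Fintype.sum_equiv (Subgroup.subgroupOfEquivOfLe hRN).symm.toEquiv _ _ fun r => rfl
  have h1 : charDegree ((χ : G → ℂ) * β) = charDegree (χ : G → ℂ) * charDegree β := by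
    apply H672.charDegree_of_eq
    rw [Pi.mul_apply, Nat.cast_mul, H672.coe_charDegree hχ, H672.coe_charDegree hβ]
  have h2 : charDegree ((χ : G → ℂ) * β) ∈ DT (p ^ F) := hD ⟨⟨_, hprod⟩, rfl⟩
  have h3 : 2 ≤ charDegree β := by
    have h4 := H672.charDegree_pos hβ
    have h5 : charDegree β ≠ 1 := by
      intro h6
      apply hβ1
      rw [← H672.coe_charDegree hβ, h6, Nat.cast_one]
    omega
  have hq : 2 ≤ p ^ F := hp.two_le.trans (Nat.le_self_pow hF p)
  have h4 := lt_of_mem_DT hq h2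
  rw [h1, hχd] at h4
  have h5 : (p ^ F) ^ 3 * 2 ≤ (p ^ F) ^ 3 * charDegree β := Nat.mul_le_mul_left _ h3
  omega

end Cfsg.Agent.H462.T3
end

-- part: H31/S4855/Ext
section
/-!
# S4855: an almost simple group `A` with `|A : S| ≤ 2` has a character of degree at least 3, irreducible on `S` (helper31)
-/

set_option autoImplicit false

namespace Cfsg.Agent.H31.S4855

open Cfsg Cfsg.Agent.H691 Cfsg.Agent.Characters

universe u

theorem two_dvd_card {S : Type u} [Group S] [Finite S] [IsSimpleGroup S] (hna : ¬ ∀ a b : S, a * b = b * a) :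
    2 ∣ Nat.card S := by
  by_contra h
  have h1 : Odd (Nat.card S) := by
    rw [← Nat.not_even_iff_odd, even_iff_two_dvd]
    exact h
  have h2 : Group.IsSolvable S := Cfsg.Agent.S0205.result h1
  exact hna ((IsSimpleGroup.comm_iff_isSolvable (G := S)).2 h2)

theorem class_apply {S : Type u} [Group S] {χ : S → ℂ} (hχ : IsIrrCharacter S χ) (x y : S) :
    χ (x * y * x⁻¹) = χ y := by
  obtain ⟨n, ρ, -, rfl⟩ := hχ
  exact Representation.char_conj ρ y x

theorem three_le {S : Type u} [Group S] [Finite S] [IsSimpleGroup S] (hna : ¬ ∀ a b : S, a * b = b * a) {χ : S → ℂ}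
    (hχ : IsIrrCharacter S χ) (h1 : χ ≠ 1) : ∃ n : ℕ, χ 1 = n ∧ 3 ≤ n := by
  obtain ⟨n, hn, hn'⟩ := Core.isIrr_apply_one hχ
  refine ⟨n, hn', ?_⟩
  by_contra h
  have h2 : n = 1 ∨ n = 2 := by omega
  rcases h2 with rfl | rfl
  · exact h1 (H681.SimpleChar.eq_one_of_degree_one hna hχ (by rw [hn', Nat.cast_one]))
  · exact H681.SimpleChar.degree_ne_two hna (H681.DegBasic.mem_charDegrees.2 ⟨χ, hχ, by rw [hn']⟩)

theorem exists_fixed {A : Type u} [Group A] [Finite A] {S : Subgroup A} [S.Normal] [IsSimpleGroup S]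
    (hna : ¬ ∀ a b : S, a * b = b * a) {a : A} (ha : a * a ∈ S) :
    ∃ χ : S → ℂ, IsIrrCharacter S χ ∧ χ ≠ 1 ∧ ∀ n : S, χ (MulAut.conjNormal a n) = χ n := by
  classical
  have := Core.finite_irr (G := S)
  have := Fintype.ofFinite (IrrCharacter S)
  have h2 := two_dvd_card hna
  let τ : IrrCharacter S → IrrCharacter S := fun χ =>
    ⟨(χ : S → ℂ) ∘ (MulAut.conjNormal a : MulAut S), Core.isIrr_comp (MulAut.conjNormal a : MulAut S).toMonoidHom
      (MulAut.conjNormal a : MulAut S).surjective χ.2⟩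
  have hτ : ∀ χ, τ (τ χ) = χ := by
    intro χ
    apply Subtype.ext
    funext n
    show (χ : S → ℂ) (MulAut.conjNormal a (MulAut.conjNormal a n)) = (χ : S → ℂ) n
    rw [← class_apply χ.2 ⟨a * a, ha⟩ n]
    refine congrArg (χ : S → ℂ) (Subtype.ext ?_)
    simp only [MulAut.conjNormal_apply, Subgroup.coe_mul, Subgroup.coe_inv]
    group
  have hτ1 : ∀ χ, (τ χ : S → ℂ) 1 = (χ : S → ℂ) 1 := by
    intro χ
    show (χ : S → ℂ) (MulAut.conjNormal a 1) = _
    rw [map_one]
  let o : IrrCharacter S := ⟨1, Core.isIrr_one⟩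
  have hτo : τ o = o := rfl
  by_contra hcon
  push Not at hcon
  have hne : ∀ χ : IrrCharacter S, χ ≠ o → τ χ ≠ χ := by
    intro χ hχ h
    obtain ⟨n, hn⟩ := hcon χ χ.2 (fun h1 => hχ (Subtype.ext h1))
    exact hn (congrFun (congrArg Subtype.val h) n)
  have hsum := Cfsg.Agent.SmallSimple.DegreeData.sum_sq (G := S)
  have hz : ∑ χ ∈ Finset.univ.erase o, ((charDegree (χ : S → ℂ) : ZMod 2)) ^ 2 = 0 := by
    refine Finset.sum_involution (fun χ _ => τ χ) ?_ ?_ ?_ ?_
    · intro χ _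
      have h3 : charDegree (τ χ : S → ℂ) = charDegree (χ : S → ℂ) := by
        unfold charDegree
        rw [hτ1]
      rw [h3]
      exact CharTwo.add_self_eq_zero _
    · intro χ hχ _
      exact hne χ (Finset.ne_of_mem_erase hχ)
    · intro χ hχ
      refine Finset.mem_erase.2 ⟨fun h3 => Finset.ne_of_mem_erase hχ ?_, Finset.mem_univ _⟩
      rw [← hτ χ, h3, hτo]
    · intro χ _
      exact hτ χ
  have h4 : ((∑ χ : IrrCharacter S, (charDegree (χ : S → ℂ)) ^ 2 : ℕ) : ZMod 2) = 0 := by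
    rw [hsum]
    exact (ZMod.natCast_eq_zero_iff _ _).2 h2
  rw [Nat.cast_sum, ← Finset.add_sum_erase _ _ (Finset.mem_univ o)] at h4
  have h5 : charDegree (o : S → ℂ) = 1 := by
    show ⌊((1 : S → ℂ) 1).re⌋₊ = 1
    simp
  simp only [Nat.cast_pow] at h4
  rw [hz, h5, add_zero] at h4
  simp only [_root_.Nat.cast_one, _root_.one_pow, _root_.one_ne_zero] at h4

theorem ext_of_index_two {A : Type*} [Group A] [Finite A] {S : Subgroup A} (h : AS A S) (h2 : S.index ≤ 2) :
    ∃ χ : A → ℂ, IsIrrCharacter A χ ∧ IsIrrCharacter S (fun s : S => χ s) ∧ ∃ n : ℕ, χ 1 = n ∧ 3 ≤ n := by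
  have hn := h.normal
  have hs := h.simple
  have hna : ¬ ∀ a b : S, a * b = b * a := fun H => h.nonab ⟨⟨H⟩⟩
  have hpos : S.index ≠ 0 := Subgroup.index_ne_zero_of_finite
  obtain ⟨a, ha, haS, hcyc⟩ : ∃ a : A, a * a ∈ S ∧ (∀ g : A, g ∈ S ∨ a⁻¹ * g ∈ S) ∧ IsCyclic (A ⧸ S) := by
    rcases (show S.index = 1 ∨ S.index = 2 by omega) with h3 | h3
    · rw [Subgroup.index_eq_one] at h3
      refine ⟨1, h3 ▸ Subgroup.mem_top _, fun g => Or.inl (h3 ▸ Subgroup.mem_top _), ?_⟩
      have : Subsingleton (A ⧸ S) := by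
        rw [h3]
        exact QuotientGroup.subsingleton_quotient_top
      exact isCyclic_of_subsingleton
    · obtain ⟨a, ha⟩ := Subgroup.index_eq_two_iff'.1 h3
      have ha1 : a ∉ S := by
        rcases ha 1 with ⟨-, h4⟩ | ⟨-, h4⟩
        · exact absurd S.one_mem h4
        · rwa [mul_one] at h4
      refine ⟨a, ?_, fun g => ?_, ?_⟩
      · rcases ha a with ⟨h4, -⟩ | ⟨h4, -⟩
        · exact h4
        · exact absurd h4 ha1
      · rcases ha (a⁻¹ * g) with ⟨h4, -⟩ | ⟨h4, -⟩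
        · left
          rwa [mul_inv_cancel_left] at h4
        · exact Or.inr h4
      · have : Fact (Nat.Prime 2) := ⟨Nat.prime_two⟩
        exact isCyclic_of_prime_card (p := 2) h3
  obtain ⟨θ, hθ, hθ1, hfix⟩ := exists_fixed hna ha
  have hinv : ∀ (g : A) (n : S), θ ⟨g * n * g⁻¹, hn.conj_mem (n : A) n.2 g⟩ = θ n := by
    intro g n
    rcases haS g with hg | hg
    · rw [← class_apply hθ ⟨g, hg⟩ n]
      rfl
    · rw [← hfix n, ← class_apply hθ (MulAut.conjNormal a ⟨_, hg⟩) (MulAut.conjNormal a n)]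
      refine congrArg θ (Subtype.ext ?_)
      simp only [MulAut.conjNormal_apply, Subgroup.coe_mul, Subgroup.coe_inv]
      group
  obtain ⟨χ, hχ, hχθ⟩ := Cfsg.Agent.S0886.result S hcyc θ hθ hinv
  obtain ⟨n, hn1, hn3⟩ := three_le hna hθ hθ1
  refine ⟨χ, hχ, ?_, n, ?_, hn3⟩
  · convert hθ using 1
    funext s
    exact hχθ s
  · rw [← hn1, ← hχθ 1, Subgroup.coe_one]

end Cfsg.Agent.H31.S4855
end

-- part: H691/T3/Main
section
/-!
# S4855, modulo the classification and some facts (helper691)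
-/

set_option autoImplicit false

open scoped commutatorElement

namespace Cfsg.Agent.H691.T3.Main

open Cfsg Matrix Cfsg.Agent.Characters Cfsg.Agent.Characters.Core Cfsg.Agent.H681.DegBasic Cfsg.Agent.H686.CharKit
open Cfsg.Agent.H691.Lie Cfsg.Agent.H691.Spor Cfsg.Agent.H691.T3.KOne

universe u v

/-- The facts proved elsewhere. -/
structure Late : Prop where
  im : ∀ (S : Type u) [Group S] [Finite S], IsSimpleGroup S → IsKnownSimple' S → ¬ IsMulCommutative S →
    ¬ IsSporadicGroup S → T3.Lie.IMS S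
  spor : ∀ {A : Type u} [Group A] [Finite A] {S : Subgroup A}, AS A S → ∀ {p F : ℕ}, p.Prime → F ≠ 0 → 3 ≤ p ^ F →
    p ∣ Nat.card S → charDegrees A ⊆ DT (p ^ F) → (IsSporadicGroup S ∨ Lie.IsoTits S) → False
  central : ∀ {G : Type u} [Group G] [Finite G] {F : Type} [Field F] [Fintype F], 3 ≤ Fintype.card F →
    charDegrees G ⊆ DT (Fintype.card F) → ∀ (N R : Subgroup G) [N.Normal] [R.Normal], R ≤ N → ⁅N, N⁆ = N →
    ((N ⧸ R.subgroupOf N) ≃* ProjectiveSpecialLinearGroup (Fin 3) F) → R ≤ Subgroup.centralizer (N : Set G)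

theorem known_hasExt3 (T : TPs.{u}) {A : Type u} [Group A] [Finite A] {S : Subgroup A} (h : AS A S)
    (hK : IsKnownSimple' S) : HasExt3 A S := by
  have := h.normal
  have := h.simple
  have key : ∀ {p : ℕ}, p.Prime → IsLieTypeChar p S → (∀ Q : Sylow p S, 5 ≤ Nat.card Q) → HasExt3 A S := by
    intro p hp h1 h5
    have := Fact.mk hp
    obtain ⟨χ, hχ, hχS, hχ1⟩ := StExt.exists_ext S (H996.AllSplit.hasSplit_of_lie hp h1)
    obtain ⟨Q⟩ := (inferInstance : Nonempty (Sylow p S))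
    exact ⟨χ, hχ, hχS, _, hχ1 Q, by have := h5 Q; omega⟩
  rcases Ident.cases_known T h.nonab hK with ⟨n, hn, ⟨e⟩⟩ | ⟨r, hr, h'⟩ | h' | h'
  · obtain ⟨χ, hχ, hχS, hχ1⟩ := H464.AltExt.alt_ext S hn e
    exact ⟨χ, hχ, hχS, _, hχ1, by omega⟩
  · obtain ⟨p, hp, h1, h2⟩ := lie_five hr h.nonab h'
    exact key hp h1 h2
  · obtain ⟨p, hp, h1, h2⟩ := isPSLTwo_five h'
    exact key hp h1 h2
  · exact H31.S4855.ext_of_index_two h (Nat.le_of_dvd (by norm_num) (h.index_dvd_out.trans h'.1))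

/-- **Identification of the socle.** -/
theorem ident3 (L : Late.{u}) {A : Type u} [Group A] [Finite A] {S : Subgroup A} (h : AS A S) {p F : ℕ}
    (hp : p.Prime) (hF : F ≠ 0) (h3 : 3 ≤ p ^ F) (hpS : p ∣ Nat.card S) (hD : charDegrees A ⊆ DT (p ^ F))
    (hK : IsKnownSimple' S) :
    ∃ (K : Type) (_ : Field K) (_ : Fintype K), Fintype.card K = p ^ F ∧
      Nonempty (S ≃* ProjectiveSpecialLinearGroup (Fin 3) K) := by
  have := h.normal
  have := h.simple
  have halt : ∀ n, 7 ≤ n → ¬ Nonempty (S ≃* alternatingGroup (Fin n)) := fun n hn ⟨e⟩ =>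
    H446.SLT.alt_false3 h hn e h3 hD
  have htwo : ∀ (K : Type) [Field K] [Fintype K], Fintype.card K ^ 2 + Fintype.card K ∈
      charDegrees (ProjectiveSpecialLinearGroup (Fin 3) K) := fun K _ _ => H326.T3.sl3_two
  have hlie : ∀ r : ℕ, r.Prime → IsLieTypeChar r S → ¬ IsSporadicGroup S →
      ∃ (K : Type) (_ : Field K) (_ : Fintype K), Fintype.card K = p ^ F ∧
        Nonempty (S ≃* ProjectiveSpecialLinearGroup (Fin 3) K) := fun r hr hL hns =>
    T3.Lie.lie3 h hp hF h3 hpS hD (L.im S inferInstance hK h.nonab hns) (halt 8 (by norm_num)) hr hL htwo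
  by_cases hsp : IsSporadicGroup S
  · exact (L.spor h hp hF h3 hpS hD (Or.inl hsp)).elim
  rcases OddHalf.Known.classify h.nonab hK with h1 | ⟨r, hr, -, h1⟩ | (h1 | h1) | h1
  · rcases alt_cases h1 with ⟨n, hn, h2⟩ | h2
    · exact absurd h2 (halt n hn)
    · exact (T3.Lie.psl_two_false h hp hF h3 hD h2).elim
  · exact hlie r hr h1 hsp
  · exact hlie 2 Nat.prime_two h1 hsp
  · exact (L.spor h hp hF h3 hpS hD (Or.inr h1)).elim
  · exact absurd h1 hsp

theorem forward3 (L : Late.{u}) (T : TPs.{u})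
    (hCF : ∀ (S : Type u) [Group S] [Finite S] [IsSimpleGroup S], IsKnownSimple' S)
    {G : Type u} [Group G] [Finite G] {F : Type} [Field F] [Fintype F] (h3 : 3 ≤ Fintype.card F)
    (hD : charDegrees G = charDegrees (_root_.Matrix.SpecialLinearGroup (Fin 3) F)) :
    ∃ K A : Subgroup G, Nonempty (K ≃* _root_.Matrix.SpecialLinearGroup (Fin 3) F) ∧ IsMulCommutative A ∧
      A ≤ Subgroup.centralizer (K : Set G) ∧ K ⊔ A = ⊤ := by
  classical
  obtain ⟨f, hp, hcard⟩ := FiniteField.card F (ringChar F)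
  set p := ringChar F with hpdef
  have hf : (f : ℕ) ≠ 0 := f.ne_zero
  have h3' : 3 ≤ p ^ (f : ℕ) := hcard ▸ h3
  have hsl : charDegrees (_root_.Matrix.SpecialLinearGroup (Fin 3) F) ⊆ DT (Fintype.card F) := H612.Deg3.degrees_subset
  have hDs : charDegrees G ⊆ DT (Fintype.card F) := hD.le.trans hsl
  have hDs' : charDegrees G ⊆ DT (p ^ (f : ℕ)) := by rw [← hcard]; exact hDs
  have hpsl : ∀ d, d ∈ charDegrees (ProjectiveSpecialLinearGroup (Fin 3) F) → d ∈ charDegrees G := by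
    intro d hd
    rw [hD]
    exact charDegrees_comp (QuotientGroup.mk' (Subgroup.center (_root_.Matrix.SpecialLinearGroup (Fin 3) F)))
      (QuotientGroup.mk'_surjective _) hd
  have hst : Fintype.card F ^ 3 ∈ charDegrees G := hpsl _ H326.T3.sl3_st
  have htwo : Fintype.card F ^ 2 + Fintype.card F ∈ charDegrees G := hpsl _ H326.T3.sl3_two
  have hthird : 3 ∣ Fintype.card F - 1 → ∀ d, 3 * d = (Fintype.card F - 1) ^ 2 * (Fintype.card F + 1) →
      d ∈ charDegrees G := by
    intro h31 d hd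
    rw [hD]
    exact H142.T3.sl3_third hsl h31 hd
  have hknown : Known (p ^ (f : ℕ)) (charDegrees G) := by
    rw [← hcard]
    exact ⟨hDs, hst, htwo, fun h => by rw [hD]; exact H326.T3.sl3_lin h, hthird, fun h => by omega⟩
  have hperf : ⁅commutator G, commutator G⁆ = commutator G := H34.Perf3.perfect_derived3 hp hf hknown
  obtain ⟨N, hN⟩ : ∃ N : Subgroup G, N = commutator G := ⟨_, rfl⟩
  have iN : N.Normal := by rw [hN]; infer_instance
  rw [← hN] at hperf
  have hNp : commutator N = ⊤ := by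
    have h1 : (commutator N).map N.subtype = ⁅N, N⁆ := Subgroup.map_subtype_commutator N
    rw [hperf] at h1
    rw [eq_top_iff]
    intro x _
    have h2 : (x : G) ∈ (commutator N).map N.subtype := by rw [h1]; exact x.2
    obtain ⟨y, hy, hyx⟩ := h2
    have : y = x := Subtype.ext hyx
    rwa [← this]
  have hq1 : Fintype.card F ^ 3 ≠ 1 := by
    have := Nat.pow_le_pow_left h3 3
    omega
  -- `N` is nontrivial
  have hNnt : Nontrivial N := by
    obtain ⟨θ, hθ, -, hθ1⟩ := H686.SlCentral.exists_under N hNp hN.symm hst hq1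
    by_contra hcon
    rw [not_nontrivial_iff_subsingleton] at hcon
    apply hθ1
    have h1 := dvd_card (⟨⟨θ, hθ⟩, rfl⟩ : charDegree θ ∈ charDegrees N)
    rw [Nat.card_of_subsingleton (1 : N)] at h1
    exact Nat.dvd_one.1 h1
  obtain ⟨R₀, hR₀, hs⟩ := H677.CodMain.exists_simple_quotient (G := N)
  have hna : ¬ IsMulCommutative (N ⧸ R₀) := by
    intro hc
    have h1 : commutator (N ⧸ R₀) = ⊤ := by
      rw [commutator_def, ← Subgroup.map_top_of_surjective _ (QuotientGroup.mk'_surjective R₀),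
        ← Subgroup.map_commutator, ← commutator_def, hNp]
    have h2 : commutator (N ⧸ R₀) = ⊥ := by
      rw [commutator_def, Subgroup.commutator_eq_bot_iff_le_centralizer]
      intro x _
      rw [Subgroup.mem_centralizer_iff]
      exact fun y _ => hc.is_comm.comm y x
    rw [h2] at h1
    exact bot_ne_top h1
  have hE : ∀ (A : Type u) [Group A] [Finite A] (S : Subgroup A), AS A S → HasExt3 A S := by
    intro A _ _ S hAS
    have := hAS.simple
    exact known_hasExt3 T hAS (hCF S)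
  have hRn : (R₀.map N.subtype).Normal := kone3 N hN.ge R₀ hs hna hE h3 hDs
  set R : Subgroup G := R₀.map N.subtype with hR
  have hRN : R ≤ N := by
    rintro _ ⟨n, -, rfl⟩
    exact n.2
  have hRsub : R.subgroupOf N = R₀ := by
    ext n
    rw [Subgroup.mem_subgroupOf]
    constructor
    · rintro ⟨m, hm, h⟩
      have : m = n := Subtype.ext h
      rwa [← this]
    · exact fun h => ⟨n, h, rfl⟩
  have hs' : IsSimpleGroup (N ⧸ R.subgroupOf N) :=
    (QuotientGroup.quotientMulEquivOfEq hRsub).isSimpleGroup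
  have hna' : ¬ IsMulCommutative (N ⧸ R.subgroupOf N) := fun hc =>
    hna ⟨⟨fun a b => (QuotientGroup.quotientMulEquivOfEq hRsub).symm.injective
      (by rw [map_mul, map_mul]; exact hc.is_comm.comm _ _)⟩⟩
  obtain ⟨hAS, e₁, he₁⟩ := AExt.exists_AS hRN hs' hna' hN.ge
  -- an extendible character
  obtain ⟨χ, hχ, hχS, n, hχ1, hn3⟩ := hE _ _ hAS
  have hβ : IsIrrCharacter G (χ ∘ (QuotientGroup.mk' (AExt.KK N R))) := isIrr_comp (QuotientGroup.mk' (AExt.KK N R)) (QuotientGroup.mk'_surjective _) hχ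
  have hβN : IsIrrCharacter N (fun n : N => (χ ∘ (QuotientGroup.mk' (AExt.KK N R))) n) := by
    have h1 := isIrr_comp (e₁.toMonoidHom.comp (QuotientGroup.mk' (R.subgroupOf N)))
      (e₁.surjective.comp (QuotientGroup.mk'_surjective _)) hχS
    have h2 : (fun n : N => (χ ∘ (QuotientGroup.mk' (AExt.KK N R))) n) = (fun s : N.map (QuotientGroup.mk' (AExt.KK N R)) => χ s) ∘
        (e₁.toMonoidHom.comp (QuotientGroup.mk' (R.subgroupOf N))) := by
      funext n
      change χ ((QuotientGroup.mk' (AExt.KK N R)) n) = χ ((e₁ (QuotientGroup.mk n) : N.map (QuotientGroup.mk' (AExt.KK N R))) : G ⧸ AExt.KK N R)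
      rw [he₁]
    rw [h2]
    exact h1
  have hβR : ∀ r ∈ R, (χ ∘ (QuotientGroup.mk' (AExt.KK N R))) r = (χ ∘ (QuotientGroup.mk' (AExt.KK N R))) 1 := by
    intro r hr
    have h1 := he₁ ⟨r, hRN hr⟩
    have h2 : (QuotientGroup.mk (⟨r, hRN hr⟩ : N) : N ⧸ R.subgroupOf N) = 1 :=
      (QuotientGroup.eq_one_iff _).2 (Subgroup.mem_subgroupOf.2 hr)
    rw [h2, map_one] at h1
    change χ ((QuotientGroup.mk' (AExt.KK N R)) r) = χ ((QuotientGroup.mk' (AExt.KK N R)) 1)
    rw [map_one]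
    have h3 : (QuotientGroup.mk' (AExt.KK N R)) r = 1 := h1.symm
    rw [h3]
  have hβ1 : (χ ∘ (QuotientGroup.mk' (AExt.KK N R))) 1 ≠ 1 := by
    rw [Function.comp, map_one, hχ1]
    intro h
    have : n = 1 := by exact_mod_cast h
    omega
  have hpd : p ∣ Nat.card (N ⧸ R.subgroupOf N) := H462.T3.pdvd3 hp hf (by rw [← hcard]; exact hst) hDs' N R hRN hperf hβ hβN
    hβR hβ1
  -- the socle is `PSL₃(q)`
  have hpS : p ∣ Nat.card (N.map (QuotientGroup.mk' (AExt.KK N R))) := by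
    rw [← Nat.card_congr e₁.toEquiv]
    exact hpd
  have hDA : charDegrees (G ⧸ AExt.KK N R) ⊆ DT (p ^ (f : ℕ)) := fun d hd =>
    hDs' (charDegrees_comp (QuotientGroup.mk' (AExt.KK N R)) (QuotientGroup.mk'_surjective _) hd)
  have hknownS : IsKnownSimple' (N.map (QuotientGroup.mk' (AExt.KK N R))) := by
    have := hAS.simple
    exact hCF _
  obtain ⟨K, iK, iK', hKc, ⟨e₂⟩⟩ := ident3 L hAS hp hf h3' hpS hDA hknownS
  have eF : K ≃+* F := FiniteField.ringEquivOfCardEq (hKc.trans hcard.symm)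
  let e : (N ⧸ R.subgroupOf N) ≃* ProjectiveSpecialLinearGroup (Fin 3) F :=
    (e₁.trans e₂).trans (LieClassical.FieldTransfer.pslCongr eF)
  have hRc : R ≤ Subgroup.centralizer (N : Set G) := L.central h3 hDs N R hRN hperf e
  have hcov := H834.T3.cover3 h3 hDs N R hRN hperf hRc e
  subst hN
  exact final3b h3 hDs hthird hcov (fun h31 => H612.Deg3.third_not_gl h31) hsl
    (fun h31 d hd => H142.T3.psl3_third hsl h31 hd) (H953.InvT.inndiag_of_inv h3)

theorem backward3 {G : Type u} [Group G] [Finite G] {F : Type v} [Field F] [Fintype F]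
    (h : ∃ K A : Subgroup G, Nonempty (K ≃* _root_.Matrix.SpecialLinearGroup (Fin 3) F) ∧ IsMulCommutative A ∧
      A ≤ Subgroup.centralizer (K : Set G) ∧ K ⊔ A = ⊤) :
    charDegrees G = charDegrees (_root_.Matrix.SpecialLinearGroup (Fin 3) F) := by
  obtain ⟨K, A, ⟨e⟩, hA, hAK, hKA⟩ := h
  rw [Back.charDegrees_of_central K A hA hAK hKA]
  ext d
  exact ⟨fun h => charDegrees_comp e.symm.toMonoidHom e.symm.surjective h,
    fun h => charDegrees_comp e.toMonoidHom e.surjective h⟩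

/-- A finite field, in `Type`. -/
theorem exists_field (F : Type v) [Field F] [Fintype F] :
    ∃ (K : Type) (_ : Field K) (_ : Fintype K), Fintype.card K = Fintype.card F ∧ Nonempty (F ≃+* K) := by
  classical
  have : Small.{0} F := inferInstance
  have e : F ≃+* Shrink.{0} F := (Shrink.ringEquiv F).symm
  have : Fintype (Shrink.{0} F) := Fintype.ofEquiv F e.toEquiv
  exact ⟨Shrink.{0} F, inferInstance, this, (Fintype.card_congr e.toEquiv).symm, ⟨e⟩⟩

/-- **S4855 modulo the classification and some facts.** -/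
theorem main3 (L : Late.{u}) (T : TPs.{u})
    (hCF : ∀ (S : Type u) [Group S] [Finite S] [IsSimpleGroup S], IsKnownSimple' S)
    {G : Type u} [Group G] [Finite G] {F : Type v} [Field F] [Fintype F] :
    charDegrees G = charDegrees (_root_.Matrix.SpecialLinearGroup (Fin 3) F) ↔
    ∃ K A : Subgroup G, Nonempty (K ≃* _root_.Matrix.SpecialLinearGroup (Fin 3) F) ∧ IsMulCommutative A ∧
      A ≤ Subgroup.centralizer (K : Set G) ∧ K ⊔ A = ⊤ := by
  refine ⟨fun hD => ?_, backward3⟩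
  have h1 : 1 < Fintype.card F := Fintype.one_lt_card
  obtain ⟨F', _, _, hc, ⟨e⟩⟩ := exists_field F
  let e' : _root_.Matrix.SpecialLinearGroup (Fin 3) F ≃* _root_.Matrix.SpecialLinearGroup (Fin 3) F' :=
    LieClassical.FieldTransfer.slCongr e
  have hD' : charDegrees G = charDegrees (_root_.Matrix.SpecialLinearGroup (Fin 3) F') := by
    rw [hD]
    ext d
    exact ⟨fun h => charDegrees_comp e'.symm.toMonoidHom e'.symm.surjective h,
      fun h => charDegrees_comp e'.toMonoidHom e'.surjective h⟩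
  rcases (show 2 ≤ Fintype.card F from h1).eq_or_lt with h2 | h3
  · exact H287.SLThree.two_case T hCF h2.symm (hD'.trans (H446.SLT.sl3_small (hc.trans h2.symm)))
  · obtain ⟨K, A, ⟨e₁⟩, hA, hAK, hKA⟩ := forward3 L T hCF (F := F') (by rw [hc]; exact h3) hD'
    exact ⟨K, A, ⟨e₁.trans e'.symm⟩, hA, hAK, hKA⟩

end Cfsg.Agent.H691.T3.Main
end

private theorem dce_555949800015 : _root_.True := by
  try have : _root_.True := by simp only [_root_.Cfsg.Agent.H953.InvT.m5.eq_1]
  try have : _root_.True := by simp only [_root_.Cfsg.Agent.H691.T3.DT.eq_1]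
  try have : _root_.True := by simp only [_root_.Cfsg.Agent.H953.InvT.m5.congr_simp]
  exact _root_.True.intro
end

-- part: H691/T3/LateAll
section
prune_inst 0x350005202c6212000000200090204200040004901004800000a0000000000002098000400200100d4a28000100010020020000804000000000200400000104018880800070c1000002008f010180000000000000300000000000000000000004200000000
set_option linter.all false
open scoped Cfsg.Agent.FastGrp

-- part: H510/T3S/Tools
section
/-!
# The sporadic groups in S4855: tools (helper510)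

* `dt q`, `ds q` : the elements of `DT q`, and with the halves of the even ones;
* `Kill S L` : not all the degrees of `S` are in the list `L`;
* `kill_dz` (a character of defect zero), `kill_mem` (a degree), `kill_cent` (an element of prime power order with a
  small centralizer), `kill_gcd` (column orthogonality modulo a prime);
* `main` : the criterion.
-/

set_option autoImplicit false

namespace Cfsg.Agent.H510.T3S

open Cfsg Cfsg.Agent.H691 Cfsg.Agent.H691.T3 Cfsg.Agent.Characters.Core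
open scoped ComplexConjugate

universe u v

/-- the elements of `DT q` -/
def dt (q : ℕ) : List ℕ :=
  [1, q ^ 2 + q, q ^ 3, q ^ 3 - 1, (q - 1) ^ 2 * (q + 1), q ^ 2 + q + 1, q * (q ^ 2 + q + 1)] ++
    ((bif Nat.ble 5 q then [(q + 1) * (q ^ 2 + q + 1)] else []) ++
    (bif Nat.beq ((q - 1) % 3) 0 then [(q + 1) * (q ^ 2 + q + 1) / 3, (q - 1) ^ 2 * (q + 1) / 3] else []))

theorem mem_dt {q d : ℕ} (h : d ∈ DT q) : d ∈ dt q := by
  unfold dt
  simp only [List.mem_append, List.mem_cons, List.not_mem_nil, or_false]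
  rcases h with h | h | h | h | h | ⟨_, h | h⟩ | ⟨h5, h⟩ | ⟨h3, h | h⟩
  · left; simp only [h, _root_.Nat.right_eq_add, _root_.Nat.add_eq_zero_iff, _root_.Nat.pow_eq_zero, _root_.ne_eq, _root_.OfNat.ofNat_ne_zero, _root_.not_false_eq_true, _root_.and_true, _root_.and_self, _root_.true_or]
  · left; simp only [h, _root_.Nat.add_left_cancel_iff, _root_.Nat.left_eq_add, _root_.one_ne_zero, _root_.false_or, _root_.true_or, _root_.or_true]
  · left; simp only [h, _root_.pow_eq_one_iff, _root_.OfNat.ofNat_ne_zero, _root_.or_false, _root_.true_or, _root_.or_true]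
  · left; right; right; right; left; omega
  · left; simp only [h, _root_.mul_eq_one, _root_.pow_eq_one_iff, _root_.OfNat.ofNat_ne_zero, _root_.or_false, _root_.Nat.add_eq_right, _root_.true_or, _root_.or_true]
  · left; simp only [h, _root_.Nat.add_eq_right, _root_.Nat.add_eq_zero_iff, _root_.Nat.pow_eq_zero, _root_.ne_eq, _root_.OfNat.ofNat_ne_zero, _root_.not_false_eq_true, _root_.and_true, _root_.and_self, _root_.Nat.add_eq_left, _root_.one_ne_zero, _root_.Nat.add_left_cancel_iff, _root_.and_false, _root_.right_eq_mul₀, _root_.true_or, _root_.or_true]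
  · left; simp only [h, _root_.mul_eq_one, _root_.Nat.add_eq_right, _root_.Nat.add_eq_zero_iff, _root_.Nat.pow_eq_zero, _root_.ne_eq, _root_.OfNat.ofNat_ne_zero, _root_.not_false_eq_true, _root_.and_true, _root_.and_self, _root_.one_ne_zero, _root_.and_false, _root_.mul_eq_right₀, _root_.or_true]
  · right; left
    have h6 : Nat.ble 5 q = true := by rw [Nat.ble_eq]; exact h5
    rw [h6]
    simp [h]
  · right; right
    have h6 : Nat.beq ((q - 1) % 3) 0 = true := by rw [Nat.beq_eq]; exact Nat.mod_eq_zero_of_dvd h3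
    rw [h6]
    simp only [cond_true, List.mem_cons, List.not_mem_nil, or_false]
    left
    rw [← h, Nat.mul_div_cancel_left _ (by norm_num)]
  · right; right
    have h6 : Nat.beq ((q - 1) % 3) 0 = true := by rw [Nat.beq_eq]; exact Nat.mod_eq_zero_of_dvd h3
    rw [h6]
    simp only [cond_true, List.mem_cons, List.not_mem_nil, or_false]
    right
    rw [← h, Nat.mul_div_cancel_left _ (by norm_num)]

/-- the elements of `DT q` and the halves of the even ones -/
def ds (q : ℕ) : List ℕ := dt q ++ ((dt q).filter fun d => Nat.beq (d % 2) 0).map fun d => d / 2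

theorem mem_ds {q d : ℕ} (h : d ∈ DT q ∨ 2 * d ∈ DT q) : d ∈ ds q := by
  unfold ds
  rw [List.mem_append]
  rcases h with h | h
  · exact Or.inl (mem_dt h)
  · right
    rw [List.mem_map]
    exact ⟨2 * d, List.mem_filter.2 ⟨mem_dt h, by rw [Nat.mul_mod_right]; rfl⟩, by omega⟩

/-- not all the degrees of `S` are in the list `L` -/
def Kill (S : Type u) [Group S] (L : List ℕ) : Prop := ¬ ∀ d ∈ charDegrees S, d ∈ L

theorem mem_charDegrees_equiv {S : Type u} {K : Type v} [Group S] [Group K] (e : S ≃* K) {d : ℕ}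
    (hd : d ∈ charDegrees K) : d ∈ charDegrees S := H681.DegBasic.charDegrees_comp e.toMonoidHom e.surjective hd

/-- a degree not in the list -/
theorem kill_mem {S : Type u} [Group S] {L : List ℕ} {d : ℕ} (hd : d ∈ charDegrees S) (h : L.contains d = false) :
    Kill S L := by
  intro h'
  rw [List.contains_iff_mem.2 (h' d hd)] at h
  exact Bool.noConfusion h

/-- a prime dividing some degree and no member of the list -/
theorem kill_dvd {S : Type u} [Group S] {L : List ℕ} {p : ℕ} (hd : ∃ d ∈ charDegrees S, p ∣ d)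
    (h : (L.all fun d => !(Nat.beq (d % p) 0)) = true) : Kill S L := by
  intro h'
  obtain ⟨d, hd, hp⟩ := hd
  have h1 := List.all_eq_true.1 h d (h' d hd)
  rw [Nat.mod_eq_zero_of_dvd hp] at h1
  exact absurd h1 (by decide)

/-- a character of defect zero -/
theorem kill_dz {S : Type u} [Group S] {L : List ℕ} {p : ℕ} (hp : p.Prime) {ord : ℕ} (hS : Nat.card S = ord)
    (hord : 0 < ord) (hd : p ∣ ord) (h : H665.NoPQ.HasDZ p S)
    (hL : (L.all fun d => !(Nat.beq (d % p) 0)) = true) : Kill S L := by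
  refine kill_dvd ?_ hL
  obtain ⟨χ, hχ⟩ := h
  refine ⟨_, ⟨χ, rfl⟩, Nat.dvd_of_factorization_pos ?_⟩
  rw [hχ, hS]
  have := (hp.dvd_iff_one_le_factorization hord.ne').1 hd
  omega

/-- an element of prime power order with a small centralizer -/
theorem kill_cent {S : Type u} [Group S] [Finite S] {L : List ℕ} {ord l c M : ℕ} (hl : l.Prime)
    (hS : Nat.card S = ord) (h : CB S l c)
    (hL : (L.all fun d => !(Nat.beq (d % l) 0) && Nat.ble d M) = true) (hlt : c * M ^ 2 < ord) : Kill S L := by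
  classical
  intro h'
  have := Cfsg.Agent.Characters.Core.finite_irr (G := S)
  have := Fintype.ofFinite (IrrCharacter S)
  obtain ⟨x, ⟨a, ha⟩, hc⟩ := h
  have := Fact.mk hl
  have hL' := fun d hd => List.all_eq_true.1 hL d (h' d hd)
  have hnd : ∀ χ : IrrCharacter S, ¬ l ∣ charDegree (χ : S → ℂ) := by
    intro χ hd
    have h1 := hL' _ ⟨χ, rfl⟩
    rw [Nat.mod_eq_zero_of_dvd hd] at h1
    exact absurd h1 (by simp)
  have hle : ∀ χ : IrrCharacter S, charDegree (χ : S → ℂ) ≤ M := by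
    intro χ
    have h1 := hL' _ ⟨χ, rfl⟩
    rw [Bool.and_eq_true, Nat.ble_eq] at h1
    exact h1.2
  have h1 := H424.CentBound.card_le_centralizer ha (Finset.univ : Finset (IrrCharacter S)) (fun χ _ => hnd χ)
  have h2 := H686.CharKit.sum_deg_sq (G := S)
  have h3 : ∑ χ : IrrCharacter S, charDegree (χ : S → ℂ) ^ 2 ≤ ∑ _χ : IrrCharacter S, M ^ 2 :=
    Finset.sum_le_sum fun χ _ => Nat.pow_le_pow_left (hle χ) 2
  rw [h2, Finset.sum_const, smul_eq_mul] at h3
  have h4 := Nat.mul_le_mul_right (M ^ 2) (h1.trans hc)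
  omega

/-- `-1` is not divisible by `l ≥ 2` in the ring of algebraic integers -/
theorem not_dvd_neg_one {l : ℕ} (hl : 2 ≤ l) {z : ℂ} (hz : IsIntegral ℤ z) (h : (l : ℂ) * z = -1) : False := by
  have hl0 : (l : ℂ) ≠ 0 := by exact_mod_cast (by omega : l ≠ 0)
  have h1 : IsIntegral ℤ (((1 : ℕ) : ℂ) / (l : ℂ)) := by
    have h2 : ((1 : ℕ) : ℂ) / (l : ℂ) = -z := by
      rw [div_eq_iff hl0, Nat.cast_one]
      linear_combination h
    rw [h2]
    exact hz.neg
  have h2 := Cfsg.Agent.Characters.DegreeBounds.nat_dvd_of_isIntegral_div (by omega) h1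
  have := Nat.le_of_dvd one_pos h2
  omega

/-- **Column orthogonality at an element of order `r`** (`r` exactly divides the order): the degrees prime to `r`,
other than 1, are not all divisible by `l`. -/
theorem kill_gcd {S : Type u} [Group S] [Finite S] (hsimp : IsSimpleGroup S) (hna : ¬ ∀ a b : S, a * b = b * a)
    {L : List ℕ} {ord r l : ℕ} (hr : r.Prime) (hl : 2 ≤ l) (hS : Nat.card S = ord)
    (h1 : Nat.beq (ord % r) 0 = true) (h2 : Nat.beq (ord % (r * r)) 0 = false)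
    (hL : (L.all fun d => Nat.beq d 1 || Nat.beq (d % r) 0 || Nat.beq (d % l) 0 || !(Nat.beq (ord % d) 0)) = true) :
    Kill S L := by
  classical
  intro h'
  have := Fact.mk hr
  have := Cfsg.Agent.Characters.Core.finite_irr (G := S)
  have := Fintype.ofFinite (IrrCharacter S)
  have hrd : r ∣ Nat.card S := by
    rw [hS]
    exact Nat.dvd_of_mod_eq_zero (Nat.eq_of_beq_eq_true h1)
  have hrr : ¬ r ^ (1 + 1) ∣ Nat.card S := by
    rw [hS]
    intro h
    rw [show r ^ (1 + 1) = r * r by ring] at h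
    rw [Nat.mod_eq_zero_of_dvd h] at h2
    exact absurd h2 (by decide)
  obtain ⟨x, hx⟩ := exists_prime_orderOf_dvd_card' (G := S) r hrd
  have hx1 : x ≠ 1 := by
    rintro rfl
    rw [orderOf_one] at hx
    exact hr.one_lt.ne hx
  have horth := H686.CharKit.col_orth x (1 : S)
  rw [if_neg (fun h => hx1 (isConj_one_left.1 h))] at horth
  let ε : IrrCharacter S := ⟨1, isIrr_one⟩
  have hdeg : ∀ χ : IrrCharacter S, (χ : S → ℂ) 1 = (charDegree (χ : S → ℂ) : ℂ) := fun χ =>
    Blocks.Basic.irr_one_eq_charDegree χ.2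
  have key : ∀ χ : IrrCharacter S, χ ≠ ε → ∃ z : ℂ, IsIntegral ℤ z ∧
      (χ : S → ℂ) x * conj ((χ : S → ℂ) 1) = (l : ℂ) * z := by
    intro χ hχ
    have hmem : charDegree (χ : S → ℂ) ∈ charDegrees S := ⟨χ, rfl⟩
    have h3 := List.all_eq_true.1 hL _ (h' _ hmem)
    simp only [Bool.or_eq_true, Bool.not_eq_true'] at h3
    rw [hdeg χ, Complex.conj_natCast]
    rcases h3 with ((h3 | h3) | h3) | h3
    · exfalso
      apply hχ
      have h4 : charDegree (χ : S → ℂ) = 1 := Nat.eq_of_beq_eq_true h3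
      exact Subtype.ext (H681.SimpleChar.eq_one_of_degree_one hna χ.2 (by rw [hdeg χ, h4, Nat.cast_one]))
    · have h4 : r ∣ charDegree (χ : S → ℂ) := Nat.dvd_of_mod_eq_zero (Nat.eq_of_beq_eq_true h3)
      obtain ⟨n, ρ, hρ, hχρ⟩ := χ.2
      have h5 : (χ : S → ℂ) x = 0 := by
        have h6 := S0165.result ρ r 1 hr (by rwa [pow_one]) hrr (by
          rw [pow_one]
          have h7 := hdeg χ
          rw [← hχρ, Representation.char_one] at h7
          rw [← hχρ] at h4
          have h8 : Module.finrank ℂ (Fin n → ℂ) = charDegree ρ.character := by exact_mod_cast h7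
          rw [h8]
          exact h4) x (by rw [hx])
        rw [← hχρ]
        exact h6
      exact ⟨0, isIntegral_zero, by rw [h5]; ring⟩
    · obtain ⟨m, hm⟩ := Nat.dvd_of_mod_eq_zero (Nat.eq_of_beq_eq_true h3)
      have h4 : IsIntegral ℤ ((χ : S → ℂ) x) :=
        Cfsg.Agent.Characters.GaloisBasic.isIntegral_apply (isIrr_isCharacter χ.2) x
      refine ⟨(m : ℂ) * (χ : S → ℂ) x, (isIntegral_algebraMap (R := ℤ) (x := (m : ℤ))).mul h4 |> fun h => by simpa using h, ?_⟩
      rw [hm]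
      push_cast
      ring
    · exfalso
      have h4 := H681.DegBasic.dvd_card hmem
      rw [hS] at h4
      rw [Nat.mod_eq_zero_of_dvd h4] at h3
      exact absurd h3 (by decide)
  choose z hz1 hz2 using key
  have hsum : ∑ χ : IrrCharacter S, (χ : S → ℂ) x * conj ((χ : S → ℂ) 1) =
      1 + (l : ℂ) * ∑ χ : {χ : IrrCharacter S // χ ≠ ε}, z χ.1 χ.2 := by
    rw [← Finset.add_sum_erase _ _ (Finset.mem_univ ε), Finset.mul_sum]
    congr 1
    · simp [ε]
    · rw [← Finset.sum_subtype (Finset.univ.erase ε) (p := fun χ => χ ≠ ε) (by simp only [_root_.Finset.mem_erase, _root_.ne_eq, _root_.Finset.mem_univ, _root_.and_true, _root_.implies_true])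
        (fun χ => (χ : S → ℂ) x * conj ((χ : S → ℂ) 1)) |>.symm]
      exact Finset.sum_congr rfl fun χ _ => hz2 χ.1 χ.2
  rw [hsum] at horth
  refine not_dvd_neg_one hl (z := ∑ χ : {χ : IrrCharacter S // χ ≠ ε}, z χ.1 χ.2)
    (IsIntegral.sum _ fun χ _ => hz1 χ.1 χ.2) ?_
  linear_combination horth

/-! ### the criterion -/

/-- the candidates for `q` are in the list `qs` -/
def chk (ord : ℕ) (l : List (ℕ × ℕ)) (qs : List ℕ) (k : ℕ) : Bool :=
  l.all fun x => (List.range k).all fun F =>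
    Nat.blt (x.1 ^ F) 3 ||
    (!(Nat.beq ((2 * ord) % (x.1 ^ F + 1)) 0 && Nat.beq ((6 * ord) % ((x.1 ^ F) ^ 2 + x.1 ^ F + 1)) 0) ||
    qs.any fun q => Nat.beq q (x.1 ^ F))

theorem chk_spec {ord : ℕ} {l : List (ℕ × ℕ)} {qs : List ℕ} {k : ℕ} (h : chk ord l qs k = true) {p j : ℕ}
    (hp : (p, j) ∈ l) {F : ℕ} (hF : F < k) (h3 : 3 ≤ p ^ F) (h1 : p ^ F + 1 ∣ 2 * ord)
    (h2 : (p ^ F) ^ 2 + p ^ F + 1 ∣ 6 * ord) : p ^ F ∈ qs := by
  unfold chk at h
  rw [List.all_eq_true] at h
  have h4 := h _ hp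
  rw [List.all_eq_true] at h4
  have h5 := h4 F (List.mem_range.2 hF)
  simp only at h5
  rw [Bool.or_eq_true, Bool.or_eq_true] at h5
  rcases h5 with h5 | h5 | h5
  · rw [Nat.blt_eq] at h5
    omega
  · rw [Nat.mod_eq_zero_of_dvd h1, Nat.mod_eq_zero_of_dvd h2] at h5
    exact absurd h5 (by decide)
  · rw [List.any_eq_true] at h5
    obtain ⟨q, hq, h6⟩ := h5
    rwa [← Nat.eq_of_beq_eq_true h6]

/-- what `types3` gives -/
def Types3 : Prop := ∀ {A : Type u} [Group A] [Finite A] {S : Subgroup A} (_ : AS A S) {p F : ℕ} (_ : p.Prime)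
    (_ : F ≠ 0) (_ : 3 ≤ p ^ F) (_ : p ∣ Nat.card S) (_ : charDegrees A ⊆ DT (p ^ F))
    (_ : S.index ≤ p ^ F),
    p ^ F + 1 ∣ Nat.card A ∧ (p ^ F) ^ 2 + p ^ F + 1 ∣ 3 * Nat.card A

/-- **The criterion.** -/
theorem main (T : Types3.{u}) {A : Type u} [Group A] [Finite A] {S : Subgroup A} (h : AS A S) {p F : ℕ}
    (hp : p.Prime) (hF : F ≠ 0) (h3 : 3 ≤ p ^ F) (hpS : p ∣ Nat.card S) (hD : charDegrees A ⊆ DT (p ^ F))
    (hidx : S.index = 1 ∨ S.index = 2) {ord k : ℕ} {l : List (ℕ × ℕ)} {qs : List ℕ} (hord : Nat.card S = ord)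
    (hv : OrdDiv.valid l ord = true) (hk : 2 * ord < 2 ^ k) (hc : chk ord l qs k = true)
    (hK : ∀ q ∈ qs, Kill S (ds q)) : False := by
  have := h.normal
  obtain ⟨j, hj, -⟩ := OrdDiv.exists_pair hv hp (j := 1) le_rfl (by rw [pow_one, ← hord]; exact hpS)
  have hA : Nat.card A = ord * S.index := by rw [← hord, S.card_mul_index]
  have hA2 : Nat.card A ∣ 2 * ord := by
    rw [hA, mul_comm 2]
    rcases hidx with h1 | h1 <;> rw [h1]
    exact Nat.mul_dvd_mul_left _ (one_dvd _)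
  obtain ⟨h1, h2⟩ := T h hp hF h3 hpS hD (by omega)
  have h1' := h1.trans hA2
  have h2' : (p ^ F) ^ 2 + p ^ F + 1 ∣ 6 * ord := by
    refine h2.trans ?_
    rw [show 6 * ord = 3 * (2 * ord) by ring]
    exact Nat.mul_dvd_mul_left 3 hA2
  have hopos : 0 < ord := OrdDiv.valid_pos hv
  have hFk : F < k := by
    have h4 : 2 ^ F ≤ p ^ F := Nat.pow_le_pow_left hp.two_le F
    have h5 : p ^ F < 2 ^ k := by
      have := Nat.le_of_dvd (by omega) h1'
      omega
    exact (Nat.pow_lt_pow_iff_right (by norm_num)).1 (lt_of_le_of_lt h4 h5)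
  refine hK _ (chk_spec hc hj hFk h3 h1' h2') ?_
  rintro d ⟨θ, rfl⟩
  obtain ⟨χ, hχ, hover⟩ := H672.exists_over_subtype S θ.2
  obtain ⟨h8, h9⟩ := H672.charDegree_dvd_of_over S hχ θ.2 hover
  have hpos : 0 < charDegree (θ : S → ℂ) := H681.DegBasic.pos_of_mem (G := S) ⟨θ, rfl⟩
  obtain ⟨c, hc'⟩ := h8
  rw [hc', Nat.mul_div_cancel_left _ hpos] at h9
  have h10 := hD ⟨⟨χ, hχ⟩, rfl⟩
  have h11 : c = 1 ∨ c = 2 := by
    rcases hidx with h1 | h1
    · rw [h1] at h9
      exact Or.inl (Nat.dvd_one.1 h9)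
    · rw [h1] at h9
      exact (Nat.dvd_prime Nat.prime_two).1 h9
  apply mem_ds
  change charDegree χ ∈ DT (p ^ F) at h10
  rw [hc'] at h10
  rcases h11 with rfl | rfl
  · left
    rwa [mul_one] at h10
  · right
    rwa [mul_comm] at h10

end Cfsg.Agent.H510.T3S
end

-- part: H510/T3S/Rows
section
/-!
# The sporadic groups in S4855: the rows (helper510)

For each group `S` and each candidate `q` : not all the degrees of `S` are in the list `ds q`.
-/

set_option autoImplicit false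

namespace Cfsg.Agent.H510.T3S

open Cfsg Cfsg.Agent.H691 Cfsg.Agent.H691.T3 Cfsg.Agent.Characters.Core Subgroup

universe u

variable {S : Type u} [Group S] [Finite S]

/-- an element of prime order with a bound for the centralizers -/
theorem cb_of {r c : ℕ} (hr : r.Prime) (hd : r ∣ Nat.card S)
    (h : ∀ x : S, orderOf x = r → Nat.card (centralizer ({x} : Set S)) ≤ c) : CB S r c := by
  have := Fact.mk hr
  obtain ⟨x, hx⟩ := exists_prime_orderOf_dvd_card' (G := S) r hd
  exact ⟨x, ⟨1, by rw [pow_one, ← hx]; exact pow_orderOf_eq_one x⟩, h x hx⟩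

omit [Finite S] in
theorem forall_mem_cons {L : List ℕ} {a : ℕ} {P : ℕ → Prop} (h1 : P a) (h2 : ∀ q ∈ L, P q) :
    ∀ q ∈ a :: L, P q := by
  intro q hq
  rcases List.mem_cons.1 hq with rfl | h
  · exact h1
  · exact h2 q h

omit [Finite S] in
theorem forall_mem_nil {P : ℕ → Prop} : ∀ q ∈ ([] : List ℕ), P q := fun _ h => absurd h List.not_mem_nil

theorem tits (h : Lie.IsoTits S) : ∀ q ∈ [3], Kill S (ds q) := by
  have ho := CpAutTits.Row.out h
  have hc := NotCT.Orders.tits h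
  refine forall_mem_cons ?_ forall_mem_nil
  exact kill_cent (l := 5) (c := 50) (M := 39) (by norm_num) hc
    (cb_of (by norm_num) (by rw [hc]; norm_num) fun x hx => (ho.cent x hx).le) (by decide +kernel) (by norm_num)

theorem m22 (h : Spor.IsoM22 S) : ∀ q ∈ [4], Kill S (ds q) :=
  forall_mem_cons (kill_mem (H603.FD.Spor.m22 (H417.RecogMathieu.isM22 h)).2.2.1 (by decide +kernel)) forall_mem_nil

theorem m23 (h : Spor.IsoM23 S) : ∀ q ∈ [4], Kill S (ds q) :=
  forall_mem_cons (kill_mem (H603.FD.Spor.m23 (H417.RecogMathieu.isM23 h)).1 (by decide +kernel)) forall_mem_nil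

theorem m24 (h : Spor.IsoM24 S) : ∀ q ∈ [4], Kill S (ds q) :=
  forall_mem_cons (kill_mem (H603.FD.Spor.m24 (H417.RecogMathieu.isM24 h)).1 (by decide +kernel)) forall_mem_nil

theorem j1 (hs : IsSimpleGroup S) (hna : ¬ ∀ a b : S, a * b = b * a) (h : Spor.IsoJ1 S) :
    ∀ q ∈ [4, 7, 11], Kill S (ds q) := by
  have hc := NotCT.Orders.j1 h
  refine forall_mem_cons ?_ (forall_mem_cons ?_ (forall_mem_cons ?_ forall_mem_nil))
  · exact kill_gcd hs hna (r := 7) (l := 5) (by norm_num) (by norm_num) hc (by decide +kernel) (by decide +kernel)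
      (by decide +kernel)
  · exact kill_gcd hs hna (r := 7) (l := 19) (by norm_num) (by norm_num) hc (by decide +kernel) (by decide +kernel)
      (by decide +kernel)
  · exact kill_gcd hs hna (r := 7) (l := 2) (by norm_num) (by norm_num) hc (by decide +kernel) (by decide +kernel)
      (by decide +kernel)

/-- the check for the ranks 3 action of `J₂` -/
theorem j2_chk : ((List.range 100).all fun f => (Nat.beq f 0) || (Nat.beq f 99) || !(Nat.beq (226800 % (f * (99 - f))) 0) ||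
    (!(Nat.beq (Nat.sqrt (226800 / (f * (99 - f))) * Nat.sqrt (226800 / (f * (99 - f)))) (226800 / (f * (99 - f))))) ||
      (Nat.beq f 36) || (Nat.beq f 63)) = true := by
  decide +kernel

theorem j2_solve {f g D : ℕ} (h1 : f + g = 99) (h2 : f * g * D = 226800) (h3 : IsSquare D) : f = 36 ∨ f = 63 := by
  have h := List.all_eq_true.1 j2_chk f (List.mem_range.2 (by omega))
  have hg : 99 - f = g := by omega
  have hf0 : f ≠ 0 := by rintro rfl; simp at h2
  have hg0 : g ≠ 0 := by rintro rfl; simp at h2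
  have hf9 : f ≠ 99 := by omega
  have h4 : 226800 % (f * g) = 0 := by
    rw [← h2]
    exact Nat.mul_mod_right _ _
  have h5 : 226800 / (f * g) = D := by
    rw [← h2]
    exact Nat.mul_div_cancel_left _ (Nat.mul_pos (Nat.pos_of_ne_zero hf0) (Nat.pos_of_ne_zero hg0))
  obtain ⟨m, hm⟩ := h3
  have h6 : Nat.sqrt D * Nat.sqrt D = D := by
    rw [hm, Nat.sqrt_eq]
  simp only [hg, h4, h5, h6] at h
  simp [hf0, hf9] at h
  exact h

theorem j2 (h : Spor.IsoJ2 S) : ∀ q ∈ [4], Kill S (ds q) := by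
  obtain ⟨e⟩ := h
  have : Finite Spor.J2 := Finite.of_equiv S e.toEquiv
  obtain ⟨H, h1, -, q1, q2, h2, h3⟩ := Cfsg.Agent.S1624.result
  obtain ⟨R, hR⟩ := H690.Spor.RankThree.R3.of_index H (k := 36) (l := 63) h1 h2 h3 (by norm_num) (by norm_num)
    (by norm_num)
  classical
  have := Fintype.ofFinite (Spor.J2 ⧸ H)
  obtain ⟨χ₁, χ₂, f, g, D, hf, hg, -, hfg, hprod, hsq⟩ := hR.frame
  have hne : f ≠ g := by omega
  have hm : 36 ∈ charDegrees Spor.J2 := by
    rcases j2_solve hfg hprod (hsq hne) with rfl | rfl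
    · exact ⟨χ₁, Cfsg.Agent.Blocks.Basic.charDegree_of_eq hf⟩
    · have h4 : g = 36 := by omega
      subst h4
      exact ⟨χ₂, Cfsg.Agent.Blocks.Basic.charDegree_of_eq hg⟩
  exact forall_mem_cons (kill_mem (mem_charDegrees_equiv e hm) (by decide +kernel)) forall_mem_nil

theorem j4 (h : Spor.IsoJ4 S) : ∀ q ∈ [4, 5], Kill S (ds q) := by
  have hc := NotCT.Orders.j4 h
  have hcb : CB S 29 41377816699065 := cb_of (by norm_num) (by rw [hc]; norm_num) fun x hx =>
    Nat.le_of_dvd (by norm_num) (H474.TPRows.card_cent_dvd (a := 21) (by rw [hc]; norm_num) (H393.Iso.na_j4_29 h) hx)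
  refine forall_mem_cons ?_ (forall_mem_cons ?_ forall_mem_nil)
  · exact kill_cent (M := 84) (by norm_num) hc hcb (by decide +kernel) (by norm_num)
  · exact kill_cent (M := 186) (by norm_num) hc hcb (by decide +kernel) (by norm_num)

theorem co1 (h : Spor.IsoCo1 S) : ∀ q ∈ [3, 4, 9], Kill S (ds q) := by
  have hc := NotCT.Orders.co1 h
  have hcb : CB S 23 23 := cb_of (by norm_num) (by rw [hc]; norm_num) fun x hx =>
    (H547.SelfCent.Conway.co1 h (H393.Iso.na_co1 h) hx).le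
  refine forall_mem_cons ?_ (forall_mem_cons ?_ (forall_mem_cons ?_ forall_mem_nil))
  · exact kill_cent (M := 39) (by norm_num) hc hcb (by decide +kernel) (by norm_num)
  · exact kill_cent (M := 84) (by norm_num) hc hcb (by decide +kernel) (by norm_num)
  · exact kill_cent (M := 910) (by norm_num) hc hcb (by decide +kernel) (by norm_num)

theorem co2 (h : Spor.IsoCo2 S) : ∀ q ∈ [4], Kill S (ds q) := by
  have hc := NotCT.Orders.co2 h
  have hcb : CB S 23 23 := cb_of (by norm_num) (by rw [hc]; norm_num) fun x hx =>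
    (H547.SelfCent.Conway.co2 h (H393.Iso.na_co2 h) hx).le
  exact forall_mem_cons (kill_cent (M := 84) (by norm_num) hc hcb (by decide +kernel) (by norm_num)) forall_mem_nil

theorem co3 (h : Spor.IsoCo3 S) : ∀ q ∈ [4], Kill S (ds q) := by
  have hc := NotCT.Orders.co3 h
  have hcb : CB S 23 23 := cb_of (by norm_num) (by rw [hc]; norm_num) fun x hx =>
    (H547.SelfCent.Conway.co3 h (H393.Iso.na_co3 h) hx).le
  exact forall_mem_cons (kill_cent (M := 84) (by norm_num) hc hcb (by decide +kernel) (by norm_num)) forall_mem_nil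

/-- the elements of order 11 of a subgroup of `Co₃` -/
theorem cent_eleven {K : Subgroup (Equiv.Perm leechLattice)} (e : S ≃* K) (hK : K ≤ Spor.Co3) {x : S}
    (hx : orderOf x = 11) : Nat.card (centralizer ({x} : Set S)) ≤ 132 := by
  have hle : K ≤ Co0 := hK.trans inf_le_left
  have h1 := H547.SelfCent.McLHS.of_injective ((Subgroup.inclusion hle).comp e.toMonoidHom)
    ((Subgroup.inclusion_injective hle).comp e.injective) (SporadicA.Co0Mono.signCo0 SporadicA.Co1Simple.allOne)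
    SporadicA.Co1Simple.allOne_mem_center (by
      rintro ⟨g, hg⟩
      refine H547.SelfCent.McLHS.neg_not_mem (v := Spor.leechV) H547.SelfCent.McLHS.leechV_ne hle
        (fun k hk => (hK hk).2) ⟨e g, hg⟩) hx
  omega

theorem mcl (h : Spor.IsoMcL S) : ∀ q ∈ [4], Kill S (ds q) := by
  have hc := NotCT.Orders.mcl h
  obtain ⟨e⟩ := h
  have hcb : CB S 11 132 := cb_of (by norm_num) (by rw [hc]; norm_num) fun x hx => cent_eleven e inf_le_left hx
  exact forall_mem_cons (kill_cent (M := 84) (by norm_num) hc hcb (by decide +kernel) (by norm_num)) forall_mem_nil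

theorem hs (h : Spor.IsoHS S) : ∀ q ∈ [4], Kill S (ds q) := by
  have hc := NotCT.Orders.hs h
  obtain ⟨e⟩ := h
  have hcb : CB S 11 132 := cb_of (by norm_num) (by rw [hc]; norm_num) fun x hx => cent_eleven e inf_le_left hx
  exact forall_mem_cons (kill_cent (M := 84) (by norm_num) hc hcb (by decide +kernel) (by norm_num)) forall_mem_nil

theorem suz (h : Spor.IsoSuz S) : ∀ q ∈ [3, 4, 9], Kill S (ds q) := by
  have hc := NotCT.Orders.suz h
  have hdz := H690.Spor.RankRows.suz h (p := 11) (Or.inr rfl)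
  refine forall_mem_cons ?_ (forall_mem_cons ?_ (forall_mem_cons ?_ forall_mem_nil))
  all_goals exact kill_dz (by norm_num) hc (by norm_num) (by norm_num) hdz (by decide +kernel)

theorem he (h : Spor.IsoHe S) : ∀ q ∈ [4], Kill S (ds q) := by
  have hc := NotCT.Orders.he h
  have hcb : CB S 17 17 := cb_of (by norm_num) (by rw [hc]; norm_num) fun x hx =>
    (H547.SelfCent.HeRow.he h hc hx).le
  exact forall_mem_cons (kill_cent (M := 84) (by norm_num) hc hcb (by decide +kernel) (by norm_num)) forall_mem_nil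

theorem ru (h : Spor.IsoRu S) : ∀ q ∈ [3, 4, 9], Kill S (ds q) := by
  have hc := NotCT.Orders.ru h
  have hcb : CB S 29 29 := cb_of (by norm_num) (by rw [hc]; norm_num) fun x hx =>
    (H547.SelfCent.Ru.ru h (H393.Iso.na_ru h) hx).le
  refine forall_mem_cons ?_ (forall_mem_cons ?_ (forall_mem_cons ?_ forall_mem_nil))
  · exact kill_cent (M := 39) (by norm_num) hc hcb (by decide +kernel) (by norm_num)
  · exact kill_cent (M := 84) (by norm_num) hc hcb (by decide +kernel) (by norm_num)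
  · exact kill_cent (M := 910) (by norm_num) hc hcb (by decide +kernel) (by norm_num)

theorem on (hs : IsSimpleGroup S) (hna : ¬ ∀ a b : S, a * b = b * a) (h : Spor.IsoON S) :
    ∀ q ∈ [4, 5, 7, 11], Kill S (ds q) := by
  have hc := NotCT.Orders.on h
  have hdz := H690.Spor.ONRow.hasDZ h (p := 11) (Or.inl rfl)
  refine forall_mem_cons ?_ (forall_mem_cons ?_ (forall_mem_cons ?_ (forall_mem_cons ?_ forall_mem_nil)))
  · exact kill_dz (by norm_num) hc (by norm_num) (by norm_num) hdz (by decide +kernel)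
  · exact kill_dz (by norm_num) hc (by norm_num) (by norm_num) hdz (by decide +kernel)
  · exact kill_dz (by norm_num) hc (by norm_num) (by norm_num) hdz (by decide +kernel)
  · exact kill_gcd hs hna (r := 19) (l := 2) (by norm_num) (by norm_num) hc (by decide +kernel) (by decide +kernel)
      (by decide +kernel)

theorem ly (h : Spor.IsoLy S) : ∀ q ∈ [4, 5], Kill S (ds q) := by
  have hc := NotCT.Orders.ly h
  obtain ⟨e⟩ := h
  have hdz := H713.HasDZ.mulEquiv e.symm H859.Five.LyDZ.hasDZ_67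
  refine forall_mem_cons ?_ (forall_mem_cons ?_ forall_mem_nil)
  all_goals exact kill_dz (by norm_num) hc (by norm_num) (by norm_num) hdz (by decide +kernel)

theorem fi22 (h : Spor.IsoFi22 S) : ∀ q ∈ [3, 4, 9], Kill S (ds q) := by
  have hc := NotCT.Orders.fi22 h
  obtain ⟨e⟩ := h
  have hdz := H713.Spor.Fi22.hasDZ_11 e
  refine forall_mem_cons ?_ (forall_mem_cons ?_ (forall_mem_cons ?_ forall_mem_nil))
  all_goals exact kill_dz (by norm_num) hc (by norm_num) (by norm_num) hdz (by decide +kernel)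

theorem fi23 (h : Spor.IsoFi23 S) : ∀ q ∈ [3, 4, 9, 16], Kill S (ds q) := by
  have hc := NotCT.Orders.fi23 h
  obtain ⟨e⟩ := h
  have hdz := H713.HasDZ.mulEquiv e.symm H713.Spor.Fi23.hasDZ_23
  refine forall_mem_cons ?_ (forall_mem_cons ?_ (forall_mem_cons ?_ (forall_mem_cons ?_ forall_mem_nil)))
  all_goals exact kill_dz (by norm_num) hc (by norm_num) (by norm_num) hdz (by decide +kernel)

theorem fi24 (h : Spor.IsoFi24' S) : ∀ q ∈ [3, 4, 9, 16], Kill S (ds q) := by
  have hc := NotCT.Orders.fi24 h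
  obtain ⟨e⟩ := h
  have hdz := H713.HasDZ.mulEquiv e.symm H713.Spor.FiTF.hasDZ_29
  refine forall_mem_cons ?_ (forall_mem_cons ?_ (forall_mem_cons ?_ (forall_mem_cons ?_ forall_mem_nil)))
  all_goals exact kill_dz (by norm_num) hc (by norm_num) (by norm_num) hdz (by decide +kernel)

theorem hn (hs : IsSimpleGroup S) (hna : ¬ ∀ a b : S, a * b = b * a) (h : Spor.IsoHN S) :
    ∀ q ∈ [4, 7, 11], Kill S (ds q) := by
  have hc := NotCT.Orders.hn h
  have hcb : CB S 19 16664484375 := cb_of (by norm_num) (by rw [hc]; norm_num) fun x hx =>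
    Nat.le_of_dvd (by norm_num) (H474.TPRows.card_cent_dvd (a := 14) (by rw [hc]; norm_num) (H393.Iso.na_hn h) hx)
  refine forall_mem_cons ?_ (forall_mem_cons ?_ (forall_mem_cons ?_ forall_mem_nil))
  · exact kill_cent (M := 84) (by norm_num) hc hcb (by decide +kernel) (by norm_num)
  · exact kill_gcd hs hna (r := 19) (l := 2) (by norm_num) (by norm_num) hc (by decide +kernel) (by decide +kernel)
      (by decide +kernel)
  · exact kill_gcd hs hna (r := 19) (l := 2) (by norm_num) (by norm_num) hc (by decide +kernel) (by decide +kernel)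
      (by decide +kernel)

theorem th (hs : IsSimpleGroup S) (hna : ¬ ∀ a b : S, a * b = b * a) (h : Spor.IsoTh S) :
    ∀ q ∈ [3, 4, 5, 7, 9, 25], Kill S (ds q) := by
  have hc := NotCT.Orders.th h
  have hN : Nat.card S = 2 ^ 15 * 2769346432125 := by rw [hc]; norm_num
  have hcb : CB S 19 102568386375 := cb_of (by norm_num) (by rw [hc]; norm_num) fun x hx =>
    (H474.TPRows.cent_le (K := 26) (by norm_num) hN (by norm_num) (by norm_num) (H393.Iso.na_th h)
      (by decide +kernel) hx).trans (by norm_num)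
  refine forall_mem_cons ?_ (forall_mem_cons ?_ (forall_mem_cons ?_ (forall_mem_cons ?_ (forall_mem_cons ?_
    (forall_mem_cons ?_ forall_mem_nil)))))
  · exact kill_cent (M := 39) (by norm_num) hc hcb (by decide +kernel) (by norm_num)
  · exact kill_cent (M := 84) (by norm_num) hc hcb (by decide +kernel) (by norm_num)
  · exact kill_cent (M := 186) (by norm_num) hc hcb (by decide +kernel) (by norm_num)
  · exact kill_gcd hs hna (r := 19) (l := 2) (by norm_num) (by norm_num) hc (by decide +kernel) (by decide +kernel)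
      (by decide +kernel)
  · exact kill_cent (M := 910) (by norm_num) hc hcb (by decide +kernel) (by norm_num)
  · exact kill_gcd hs hna (r := 31) (l := 13) (by norm_num) (by norm_num) hc (by decide +kernel) (by decide +kernel)
      (by decide +kernel)

theorem b (h : Spor.IsoB S) : ∀ q ∈ [3, 4, 5, 7, 9, 11, 16, 25], Kill S (ds q) := by
  have hc := NotCT.Orders.b h
  obtain ⟨e⟩ := h
  have hdz := H713.HasDZ.mulEquiv e.symm H713.Spor.B.hasDZ_47
  refine forall_mem_cons ?_ (forall_mem_cons ?_ (forall_mem_cons ?_ (forall_mem_cons ?_ (forall_mem_cons ?_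
    (forall_mem_cons ?_ (forall_mem_cons ?_ (forall_mem_cons ?_ forall_mem_nil)))))))
  all_goals exact kill_dz (by norm_num) hc (by norm_num) (by norm_num) hdz (by decide +kernel)

theorem m (h : Spor.IsoM S) : ∀ q ∈ [3, 4, 5, 7, 9, 11, 16, 25], Kill S (ds q) := by
  have hc := NotCT.Orders.m h
  have hdz := H713.Spor.M.hasDZ_71 h
  refine forall_mem_cons ?_ (forall_mem_cons ?_ (forall_mem_cons ?_ (forall_mem_cons ?_ (forall_mem_cons ?_
    (forall_mem_cons ?_ (forall_mem_cons ?_ (forall_mem_cons ?_ forall_mem_nil)))))))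
  all_goals exact kill_dz (by norm_num) hc (by norm_num) (by norm_num) hdz (by decide +kernel)

end Cfsg.Agent.H510.T3S
end

-- part: H510/T3S/Main
section
/-!
# The sporadic groups in S4855 (helper510)

`spor_false3` : the socle is not sporadic (and not the Tits group), given the divisibilities `Types3`.
-/

set_option autoImplicit false

namespace Cfsg.Agent.H510.T3S

open Cfsg Cfsg.Agent.H691 Cfsg.Agent.H691.T3 Cfsg.Agent.H934.OutB

universe u v

theorem out_dvd' {X : Type u} [Group X] {Y : Type v} [Group Y] (h : Nat.card (Cfsg.Out Y) ∣ 2)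
    (e : Nonempty (X ≃* Y)) : Nat.card (Cfsg.Out X) ∣ 2 := by
  obtain ⟨e⟩ := e
  rwa [card_out_congr e]

theorem out_dvd {X : Type u} {Y : Type*} [Group X] [Group Y] (e : Nonempty (X ≃* Y)) {n : ℕ}
    (h : Nat.card (Cfsg.Out Y) = n) (hn : n ∣ 2) : Nat.card (Cfsg.Out X) ∣ 2 := by
  obtain ⟨e⟩ := e
  rw [card_out_congr e, h]
  exact hn

/-- The data of a sporadic group. -/
def D3 (S : Type u) [Group S] : Prop :=
  Nat.card (Cfsg.Out S) ∣ 2 ∧ ∃ (ord k : ℕ) (l : List (ℕ × ℕ)) (qs : List ℕ), Nat.card S = ord ∧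
    OrdDiv.valid l ord = true ∧ 2 * ord < 2 ^ k ∧ chk ord l qs k = true ∧ ∀ q ∈ qs, Kill S (ds q)

variable {S : Type u} [Group S]

theorem tits_d3 [Finite S] (hS : Lie.IsoTits S) : D3 S := by
  have hout : Nat.card (Cfsg.Out S) ∣ 2 := by
    obtain ⟨e⟩ := hS
    obtain ⟨e'⟩ := Cfsg.Agent.TitsK.exists_equiv
    have hfin : Finite Cfsg.Agent.FourTwo.Base.LL := by infer_instance
    have h1 : Nat.card (Cfsg.Out ↥Cfsg.Agent.TitsK.TT) ∣ 2 := Cfsg.Agent.TitsK.tdata.index_inn
    exact out_dvd' h1 ⟨e.trans e'⟩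
  exact ⟨hout, _, 27, [(2, 11), (3, 3), (5, 2), (13, 1)],
    [3], NotCT.Orders.tits hS, by decide +kernel, by norm_num, by decide +kernel, T3S.tits hS⟩

theorem m11_d3 [Finite S] (hS : Spor.IsoM11 S) : D3 S := by
  have hout : Nat.card (Cfsg.Out S) ∣ 2 := out_dvd hS Cfsg.Agent.S2060.result (by norm_num)
  exact ⟨hout, _, 15, [(2, 4), (3, 2), (5, 1), (11, 1)],
    [], NotCT.Orders.m11 hS, by decide +kernel, by norm_num, by decide +kernel, forall_mem_nil⟩

theorem m12_d3 [Finite S] (hS : Spor.IsoM12 S) : D3 S := by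
  have hout : Nat.card (Cfsg.Out S) ∣ 2 := out_dvd hS Cfsg.Agent.S2061.result (by norm_num)
  exact ⟨hout, _, 19, [(2, 6), (3, 3), (5, 1), (11, 1)],
    [], NotCT.Orders.m12 hS, by decide +kernel, by norm_num, by decide +kernel, forall_mem_nil⟩

theorem m22_d3 [Finite S] (hS : Spor.IsoM22 S) : D3 S := by
  have hout : Nat.card (Cfsg.Out S) ∣ 2 := out_dvd hS Cfsg.Agent.S2062.result (by norm_num)
  exact ⟨hout, _, 21, [(2, 7), (3, 2), (5, 1), (7, 1), (11, 1)],
    [4], NotCT.Orders.m22 hS, by decide +kernel, by norm_num, by decide +kernel, T3S.m22 hS⟩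

theorem m23_d3 [Finite S] (hS : Spor.IsoM23 S) : D3 S := by
  have hout : Nat.card (Cfsg.Out S) ∣ 2 := out_dvd hS Cfsg.Agent.S2063.result (by norm_num)
  exact ⟨hout, _, 26, [(2, 7), (3, 2), (5, 1), (7, 1), (11, 1), (23, 1)],
    [4], NotCT.Orders.m23 hS, by decide +kernel, by norm_num, by decide +kernel, T3S.m23 hS⟩

theorem m24_d3 [Finite S] (hS : Spor.IsoM24 S) : D3 S := by
  have hout : Nat.card (Cfsg.Out S) ∣ 2 := out_dvd hS Cfsg.Agent.S2064.result (by norm_num)
  exact ⟨hout, _, 30, [(2, 10), (3, 3), (5, 1), (7, 1), (11, 1), (23, 1)],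
    [4], NotCT.Orders.m24 hS, by decide +kernel, by norm_num, by decide +kernel, T3S.m24 hS⟩

theorem j1_d3 [Finite S] (hs : IsSimpleGroup S) (hna : ¬ ∀ a b : S, a * b = b * a) (hS : Spor.IsoJ1 S) : D3 S := by
  have hout : Nat.card (Cfsg.Out S) ∣ 2 := out_dvd hS Cfsg.Agent.S2065.result (by norm_num)
  exact ⟨hout, _, 20, [(2, 3), (3, 1), (5, 1), (7, 1), (11, 1), (19, 1)],
    [4, 7, 11], NotCT.Orders.j1 hS, by decide +kernel, by norm_num, by decide +kernel, T3S.j1 hs hna hS⟩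

theorem j2_d3 [Finite S] (hS : Spor.IsoJ2 S) : D3 S := by
  have hout : Nat.card (Cfsg.Out S) ∣ 2 := out_dvd hS Cfsg.Agent.S2066.result (by norm_num)
  exact ⟨hout, _, 22, [(2, 7), (3, 3), (5, 2), (7, 1)],
    [4], NotCT.Orders.j2 hS, by decide +kernel, by norm_num, by decide +kernel, T3S.j2 hS⟩

theorem j3_d3 [Finite S] (hS : Spor.IsoJ3 S) : D3 S := by
  have hout : Nat.card (Cfsg.Out S) ∣ 2 := by
    obtain ⟨F, _, _, ω, hF, hω, e⟩ := hS
    exact out_dvd e (Cfsg.Agent.S2067.result hF ω hω) (by norm_num)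
  exact ⟨hout, _, 28, [(2, 7), (3, 5), (5, 1), (17, 1), (19, 1)],
    [], NotCT.Orders.j3 hS, by decide +kernel, by norm_num, by decide +kernel, forall_mem_nil⟩

theorem j4_d3 [Finite S] (hS : Spor.IsoJ4 S) : D3 S := by
  have hout : Nat.card (Cfsg.Out S) ∣ 2 := out_dvd hS Cfsg.Agent.S2068.result (by norm_num)
  exact ⟨hout, _, 69, [(2, 21), (3, 3), (5, 1), (7, 1), (11, 3), (23, 1), (29, 1), (31, 1), (37, 1), (43, 1)],
    [4, 5], NotCT.Orders.j4 hS, by decide +kernel, by norm_num, by decide +kernel, T3S.j4 hS⟩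

theorem co1_d3 [Finite S] (hS : Spor.IsoCo1 S) : D3 S := by
  have hout : Nat.card (Cfsg.Out S) ∣ 2 := out_dvd hS Cfsg.Agent.S2069.result (by norm_num)
  exact ⟨hout, _, 64, [(2, 21), (3, 9), (5, 4), (7, 2), (11, 1), (13, 1), (23, 1)],
    [3, 4, 9], NotCT.Orders.co1 hS, by decide +kernel, by norm_num, by decide +kernel, T3S.co1 hS⟩

theorem co2_d3 [Finite S] (hS : Spor.IsoCo2 S) : D3 S := by
  have hout : Nat.card (Cfsg.Out S) ∣ 2 := out_dvd hS Cfsg.Agent.S2070.result (by norm_num)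
  exact ⟨hout, _, 48, [(2, 18), (3, 6), (5, 3), (7, 1), (11, 1), (23, 1)],
    [4], NotCT.Orders.co2 hS, by decide +kernel, by norm_num, by decide +kernel, T3S.co2 hS⟩

theorem co3_d3 [Finite S] (hS : Spor.IsoCo3 S) : D3 S := by
  have hout : Nat.card (Cfsg.Out S) ∣ 2 := out_dvd hS Cfsg.Agent.S2071.result (by norm_num)
  exact ⟨hout, _, 41, [(2, 10), (3, 7), (5, 3), (7, 1), (11, 1), (23, 1)],
    [4], NotCT.Orders.co3 hS, by decide +kernel, by norm_num, by decide +kernel, T3S.co3 hS⟩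

theorem mcl_d3 [Finite S] (hS : Spor.IsoMcL S) : D3 S := by
  have hout : Nat.card (Cfsg.Out S) ∣ 2 := out_dvd hS Cfsg.Agent.S2073.result (by norm_num)
  exact ⟨hout, _, 32, [(2, 7), (3, 6), (5, 3), (7, 1), (11, 1)],
    [4], NotCT.Orders.mcl hS, by decide +kernel, by norm_num, by decide +kernel, T3S.mcl hS⟩

theorem hs_d3 [Finite S] (hS : Spor.IsoHS S) : D3 S := by
  have hout : Nat.card (Cfsg.Out S) ∣ 2 := out_dvd hS Cfsg.Agent.S2072.result (by norm_num)
  exact ⟨hout, _, 28, [(2, 9), (3, 2), (5, 3), (7, 1), (11, 1)],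
    [4], NotCT.Orders.hs hS, by decide +kernel, by norm_num, by decide +kernel, T3S.hs hS⟩

theorem suz_d3 [Finite S] (hS : Spor.IsoSuz S) : D3 S := by
  have hout : Nat.card (Cfsg.Out S) ∣ 2 := out_dvd hS Cfsg.Agent.S2074.result (by norm_num)
  exact ⟨hout, _, 41, [(2, 13), (3, 7), (5, 2), (7, 1), (11, 1), (13, 1)],
    [3, 4, 9], NotCT.Orders.suz hS, by decide +kernel, by norm_num, by decide +kernel, T3S.suz hS⟩

theorem he_d3 [Finite S] (hS : Spor.IsoHe S) : D3 S := by
  have hout : Nat.card (Cfsg.Out S) ∣ 2 := out_dvd hS Cfsg.Agent.S2075.result (by norm_num)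
  exact ⟨hout, _, 34, [(2, 10), (3, 3), (5, 2), (7, 3), (17, 1)],
    [4], NotCT.Orders.he hS, by decide +kernel, by norm_num, by decide +kernel, T3S.he hS⟩

theorem ru_d3 [Finite S] (hS : Spor.IsoRu S) : D3 S := by
  have hout : Nat.card (Cfsg.Out S) ∣ 2 := out_dvd hS Cfsg.Agent.S2077.result (by norm_num)
  exact ⟨hout, _, 40, [(2, 14), (3, 3), (5, 3), (7, 1), (13, 1), (29, 1)],
    [3, 4, 9], NotCT.Orders.ru hS, by decide +kernel, by norm_num, by decide +kernel, T3S.ru hS⟩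

theorem on_d3 [Finite S] (hs : IsSimpleGroup S) (hna : ¬ ∀ a b : S, a * b = b * a) (hS : Spor.IsoON S) : D3 S := by
  have hout : Nat.card (Cfsg.Out S) ∣ 2 := out_dvd hS Cfsg.Agent.S2078.result (by norm_num)
  exact ⟨hout, _, 41, [(2, 9), (3, 4), (5, 1), (7, 3), (11, 1), (19, 1), (31, 1)],
    [4, 5, 7, 11], NotCT.Orders.on hS, by decide +kernel, by norm_num, by decide +kernel, T3S.on hs hna hS⟩

theorem ly_d3 [Finite S] (hS : Spor.IsoLy S) : D3 S := by
  have hout : Nat.card (Cfsg.Out S) ∣ 2 := out_dvd hS Cfsg.Agent.S2076.result (by norm_num)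
  exact ⟨hout, _, 58, [(2, 8), (3, 7), (5, 6), (7, 1), (11, 1), (31, 1), (37, 1), (67, 1)],
    [4, 5], NotCT.Orders.ly hS, by decide +kernel, by norm_num, by decide +kernel, T3S.ly hS⟩

theorem fi22_d3 [Finite S] (hS : Spor.IsoFi22 S) : D3 S := by
  have hout : Nat.card (Cfsg.Out S) ∣ 2 := out_dvd hS Cfsg.Agent.S2079.result (by norm_num)
  exact ⟨hout, _, 48, [(2, 17), (3, 9), (5, 2), (7, 1), (11, 1), (13, 1)],
    [3, 4, 9], NotCT.Orders.fi22 hS, by decide +kernel, by norm_num, by decide +kernel, T3S.fi22 hS⟩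

theorem fi23_d3 [Finite S] (hS : Spor.IsoFi23 S) : D3 S := by
  have hout : Nat.card (Cfsg.Out S) ∣ 2 := out_dvd hS Cfsg.Agent.S2080.result (by norm_num)
  exact ⟨hout, _, 64, [(2, 18), (3, 13), (5, 2), (7, 1), (11, 1), (13, 1), (17, 1), (23, 1)],
    [3, 4, 9, 16], NotCT.Orders.fi23 hS, by decide +kernel, by norm_num, by decide +kernel, T3S.fi23 hS⟩

theorem fi24_d3 [Finite S] (hS : Spor.IsoFi24' S) : D3 S := by
  have hout : Nat.card (Cfsg.Out S) ∣ 2 := out_dvd hS Cfsg.Agent.S2081.result (by norm_num)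
  exact ⟨hout, _, 83, [(2, 21), (3, 16), (5, 2), (7, 3), (11, 1), (13, 1), (17, 1), (23, 1), (29, 1)],
    [3, 4, 9, 16], NotCT.Orders.fi24 hS, by decide +kernel, by norm_num, by decide +kernel, T3S.fi24 hS⟩

theorem hn_d3 [Finite S] (hs : IsSimpleGroup S) (hna : ¬ ∀ a b : S, a * b = b * a) (hS : Spor.IsoHN S) : D3 S := by
  have hout : Nat.card (Cfsg.Out S) ∣ 2 := out_dvd hS Cfsg.Agent.S2082.result (by norm_num)
  exact ⟨hout, _, 50, [(2, 14), (3, 6), (5, 6), (7, 1), (11, 1), (19, 1)],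
    [4, 7, 11], NotCT.Orders.hn hS, by decide +kernel, by norm_num, by decide +kernel, T3S.hn hs hna hS⟩

theorem th_d3 [Finite S] (hs : IsSimpleGroup S) (hna : ¬ ∀ a b : S, a * b = b * a) (hS : Spor.IsoTh S) : D3 S := by
  have hout : Nat.card (Cfsg.Out S) ∣ 2 := out_dvd hS Cfsg.Agent.S2083.result (by norm_num)
  exact ⟨hout, _, 59, [(2, 15), (3, 10), (5, 3), (7, 2), (13, 1), (19, 1), (31, 1)],
    [3, 4, 5, 7, 9, 25], NotCT.Orders.th hS, by decide +kernel, by norm_num, by decide +kernel, T3S.th hs hna hS⟩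

theorem b_d3 [Finite S] (hS : Spor.IsoB S) : D3 S := by
  have hout : Nat.card (Cfsg.Out S) ∣ 2 := out_dvd hS Cfsg.Agent.S2084.result (by norm_num)
  exact ⟨hout, _, 114, [(2, 41), (3, 13), (5, 6), (7, 2), (11, 1), (13, 1), (17, 1), (19, 1), (23, 1), (31, 1), (47, 1)],
    [3, 4, 5, 7, 9, 11, 16, 25], NotCT.Orders.b hS, by decide +kernel, by norm_num, by decide +kernel, T3S.b hS⟩

theorem m_d3 [Finite S] (hS : Spor.IsoM S) : D3 S := by
  have hout : Nat.card (Cfsg.Out S) ∣ 2 := out_dvd hS Cfsg.Agent.S2085.result (by norm_num)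
  exact ⟨hout, _, 182, [(2, 46), (3, 20), (5, 9), (7, 6), (11, 2), (13, 3), (17, 1), (19, 1), (23, 1), (29, 1), (31, 1), (41, 1), (47, 1), (59, 1), (71, 1)],
    [3, 4, 5, 7, 9, 11, 16, 25], NotCT.Orders.m hS, by decide +kernel, by norm_num, by decide +kernel, T3S.m hS⟩

theorem sporadic_d3 [Finite S] (hs : IsSimpleGroup S) (hna : ¬ ∀ a b : S, a * b = b * a) (hS : IsSporadicGroup S) :
    D3 S := by
  rcases hS with h' | h' | h' | h' | h' | h' | h' | h' | h' | h' | h' | h' | h' | h' | h' | h' | h' | h' | h' | h' | h' |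
    h' | h' | h' | h' | h'
  · exact m11_d3 h'
  · exact m12_d3 h'
  · exact m22_d3 h'
  · exact m23_d3 h'
  · exact m24_d3 h'
  · exact j1_d3 hs hna h'
  · exact j2_d3 h'
  · exact j3_d3 h'
  · exact j4_d3 h'
  · exact co1_d3 h'
  · exact co2_d3 h'
  · exact co3_d3 h'
  · exact mcl_d3 h'
  · exact hs_d3 h'
  · exact suz_d3 h'
  · exact he_d3 h'
  · exact ru_d3 h'
  · exact on_d3 hs hna h'
  · exact ly_d3 h'
  · exact fi22_d3 h'
  · exact fi23_d3 h'
  · exact fi24_d3 h'
  · exact hn_d3 hs hna h'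
  · exact th_d3 hs hna h'
  · exact b_d3 h'
  · exact m_d3 h'

/-- The criterion with the data. -/
theorem false_of_d3 (T : Types3.{u}) {A : Type u} [Group A] [Finite A] {S : Subgroup A} (h : AS A S) {p F : ℕ}
    (hp : p.Prime) (hF : F ≠ 0) (h3 : 3 ≤ p ^ F) (hpS : p ∣ Nat.card S) (hD : charDegrees A ⊆ DT (p ^ F))
    (hd : D3 S) : False := by
  obtain ⟨hout, ord, k, l, qs, hord, hv, hk, hc, hK⟩ := hd
  exact main T h hp hF h3 hpS hD ((Nat.dvd_prime Nat.prime_two).1 (h.index_dvd_out.trans hout)) hord hv hk hc hK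

/-- **The socle is not sporadic.** -/
theorem spor_false3' (T : Types3.{u}) {A : Type u} [Group A] [Finite A] {S : Subgroup A} (h : AS A S) {p F : ℕ}
    (hp : p.Prime) (hF : F ≠ 0) (h3 : 3 ≤ p ^ F) (hpS : p ∣ Nat.card S) (hD : charDegrees A ⊆ DT (p ^ F))
    (hK : IsSporadicGroup S ∨ Lie.IsoTits S) : False := by
  have hs := h.simple
  have hna := h.nonab'
  refine false_of_d3 T h hp hF h3 hpS hD ?_
  rcases hK with hK | hK
  · exact sporadic_d3 hs hna hK
  · exact tits_d3 hK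

end Cfsg.Agent.H510.T3S
end

-- part: H510/T3S/Final
section
/-!
# The sporadic groups in S4855, in the form asked for (helper510)
-/

set_option autoImplicit false

namespace Cfsg.Agent.H510.T3S

open Cfsg Cfsg.Agent.H691 Cfsg.Agent.H691.T3

/-- **The socle is not sporadic.** -/
theorem spor_false3 {A : Type*} [Group A] [Finite A] {S : Subgroup A} (h : AS A S) {p F : ℕ} (hp : p.Prime)
    (hF : F ≠ 0) (h3 : 3 ≤ p ^ F) (hpS : p ∣ Nat.card S) (hD : charDegrees A ⊆ DT (p ^ F))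
    (hK : IsSporadicGroup S ∨ Lie.IsoTits S) : False :=
  spor_false3' (fun {_A} _ _ {_S} h {_p _F} hp hF h3 hpS hD hi => types3 h hp hF h3 hpS hD hi) h hp hF h3 hpS hD hK

end Cfsg.Agent.H510.T3S
end

-- part: H42/Psl3/Cent
section
/-!
# Centralisers of non-scalar `3 × 3` matrices (helper42)

`Cn M = {y | det y = 1, y M = w M y for some w}` has at most `(q - 1) q³` elements when `M` is invertible and not scalar.
-/

set_option autoImplicit false

namespace Cfsg.Agent.H42.Psl3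

open Matrix

variable {F : Type*} [Field F]

/-- The matrices of determinant one commuting with `M` up to a scalar. -/
def Cn (M : Matrix (Fin 3) (Fin 3) F) : Set (Matrix (Fin 3) (Fin 3) F) :=
  {y | y.det = 1 ∧ ∃ w : F, y * M = w • (M * y)}

theorem card_cn_le_of_inj [Fintype F] {M : Matrix (Fin 3) (Fin 3) F}
    (f : Cn M → Fˣ × (F × F × F)) (hf : Function.Injective f) :
    Nat.card (Cn M) ≤ (Fintype.card F - 1) * Fintype.card F ^ 3 := by
  classical
  have h := Nat.card_le_card_of_injective f hf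
  refine h.trans (le_of_eq ?_)
  rw [Nat.card_prod, Nat.card_prod, Nat.card_prod, Nat.card_units, Nat.card_eq_fintype_card]
  ring

/-- conjugation -/
theorem card_cn_conj [Finite F] {M M' P : Matrix (Fin 3) (Fin 3) F} (hP : P.det ≠ 0) (h : M * P = P * M') :
    Nat.card (Cn M) ≤ Nat.card (Cn M') := by
  classical
  have hu : IsUnit P.det := isUnit_iff_ne_zero.2 hP
  have h1 : P * P⁻¹ = 1 := Matrix.mul_nonsing_inv _ hu
  have h2 : P⁻¹ * P = 1 := Matrix.nonsing_inv_mul _ hu
  have hM : M' = P⁻¹ * M * P := by rw [mul_assoc, h, ← mul_assoc, h2, one_mul]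
  let f : Cn M → Cn M' := fun y => ⟨P⁻¹ * y * P, by
    constructor
    · rw [Matrix.det_mul, Matrix.det_mul, y.2.1, mul_one, ← Matrix.det_mul, h2, Matrix.det_one]
    · obtain ⟨w, hw⟩ := y.2.2
      refine ⟨w, ?_⟩
      have e1 : P⁻¹ * (y : Matrix (Fin 3) (Fin 3) F) * P * M' = P⁻¹ * (y * M) * P := by
        rw [hM]
        calc P⁻¹ * (y : Matrix (Fin 3) (Fin 3) F) * P * (P⁻¹ * M * P) = P⁻¹ * y * (P * P⁻¹) * M * P := by
              simp only [mul_assoc]
          _ = _ := by rw [h1]; simp only [mul_assoc, one_mul]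
      have e2 : M' * (P⁻¹ * (y : Matrix (Fin 3) (Fin 3) F) * P) = P⁻¹ * (M * y) * P := by
        rw [hM]
        calc P⁻¹ * M * P * (P⁻¹ * (y : Matrix (Fin 3) (Fin 3) F) * P) = P⁻¹ * M * (P * P⁻¹) * y * P := by
              simp only [mul_assoc]
          _ = _ := by rw [h1]; simp only [mul_assoc, one_mul]
      rw [e1, e2, hw, Matrix.mul_smul, Matrix.smul_mul]⟩
  refine Nat.card_le_card_of_injective f ?_
  intro y y' hyy
  have h3 : P⁻¹ * (y : Matrix (Fin 3) (Fin 3) F) * P = P⁻¹ * y' * P := congrArg Subtype.val hyy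
  apply Subtype.ext
  have h4 : P * (P⁻¹ * (y : Matrix (Fin 3) (Fin 3) F) * P) * P⁻¹ = P * (P⁻¹ * y' * P) * P⁻¹ := by rw [h3]
  have h5 : ∀ z : Matrix (Fin 3) (Fin 3) F, P * (P⁻¹ * z * P) * P⁻¹ = z := by
    intro z
    calc P * (P⁻¹ * z * P) * P⁻¹ = (P * P⁻¹) * z * (P * P⁻¹) := by simp only [mul_assoc]
      _ = z := by rw [h1, one_mul, mul_one]
  rw [h5, h5] at h4
  exact h4

/-- cyclic vectors -/
theorem card_cn_cyclic [Fintype F] {M : Matrix (Fin 3) (Fin 3) F} (hM : M.det ≠ 0) (x : Fin 3 → F)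
    (hx : (Matrix.of ![x, M *ᵥ x, M *ᵥ (M *ᵥ x)]).det ≠ 0) :
    Nat.card (Cn M) ≤ (Fintype.card F - 1) * Fintype.card F ^ 3 := by
  classical
  choose w hw using fun y : Cn M => y.2.2
  have hw0 : ∀ y, w y ≠ 0 := by
    intro y h0
    have h1 := hw y
    rw [h0, zero_smul] at h1
    have h2 := congrArg Matrix.det h1
    rw [Matrix.det_mul, y.2.1, one_mul, Matrix.det_zero] at h2
    exact hM h2
  refine card_cn_le_of_inj (fun y => (Units.mk0 (w y) (hw0 y),
    ((y : Matrix (Fin 3) (Fin 3) F) *ᵥ x) 0, ((y : Matrix (Fin 3) (Fin 3) F) *ᵥ x) 1,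
    ((y : Matrix (Fin 3) (Fin 3) F) *ᵥ x) 2) ) ?_
  intro y y' h
  simp only [Prod.mk.injEq, Units.mk0_inj] at h
  obtain ⟨h1, h2, h3, h4⟩ := h
  have e0 : (y : Matrix (Fin 3) (Fin 3) F) *ᵥ x = (y' : Matrix (Fin 3) (Fin 3) F) *ᵥ x := by
    funext i
    fin_cases i
    · exact h2
    · exact h3
    · exact h4
  have step : ∀ v : Fin 3 → F, (y : Matrix (Fin 3) (Fin 3) F) *ᵥ v = (y' : Matrix (Fin 3) (Fin 3) F) *ᵥ v →
      (y : Matrix (Fin 3) (Fin 3) F) *ᵥ (M *ᵥ v) = (y' : Matrix (Fin 3) (Fin 3) F) *ᵥ (M *ᵥ v) := by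
    intro v hv
    rw [Matrix.mulVec_mulVec, Matrix.mulVec_mulVec, hw y, hw y', Matrix.smul_mulVec, Matrix.smul_mulVec,
      ← Matrix.mulVec_mulVec, ← Matrix.mulVec_mulVec, hv, h1]
  have e1 := step x e0
  have e2 := step _ e1
  apply Subtype.ext
  set X := Matrix.of ![x, M *ᵥ x, M *ᵥ (M *ᵥ x)] with hX
  have e3 : (y : Matrix (Fin 3) (Fin 3) F) * Xᵀ = (y' : Matrix (Fin 3) (Fin 3) F) * Xᵀ := by
    ext i j
    have hcol : ∀ (z : Matrix (Fin 3) (Fin 3) F), (z * Xᵀ) i j = (z *ᵥ (X j)) i := by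
      intro z
      simp only [Matrix.mul_apply, Matrix.mulVec, dotProduct, Matrix.transpose_apply]
    rw [hcol, hcol]
    fin_cases j
    · exact congrFun e0 i
    · exact congrFun e1 i
    · exact congrFun e2 i
  have hu : IsUnit Xᵀ.det := by rw [Matrix.det_transpose]; exact isUnit_iff_ne_zero.2 hx
  have h5 := congrArg (· * (Xᵀ)⁻¹) e3
  simp only [mul_assoc, Matrix.mul_nonsing_inv _ hu, mul_one] at h5
  exact h5

/-- `diag(a, b, b)` -/
theorem card_cn_diag [Fintype F] {a b : F} (hb : b ≠ 0) (hab : a ≠ b) :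
    Nat.card (Cn !![a, 0, 0; 0, b, 0; 0, 0, b]) ≤ (Fintype.card F - 1) * Fintype.card F ^ 3 := by
  classical
  have key : ∀ y : Matrix (Fin 3) (Fin 3) F, y ∈ Cn !![a, 0, 0; 0, b, 0; 0, 0, b] →
      y 0 1 = 0 ∧ y 0 2 = 0 ∧ y 1 0 = 0 ∧ y 2 0 = 0 ∧ y 0 0 * (y 1 1 * y 2 2 - y 1 2 * y 2 1) = 1 := by
    rintro y ⟨hy, w, hw⟩
    have e : ∀ i j, (y * !![a, 0, 0; 0, b, 0; 0, 0, b]) i j = (w • (!![a, 0, 0; 0, b, 0; 0, 0, b] * y)) i j :=
      fun i j => by rw [hw]
    have e01 := e 0 1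
    have e02 := e 0 2
    have e10 := e 1 0
    have e20 := e 2 0
    have e11 := e 1 1
    have e12 := e 1 2
    have e21 := e 2 1
    have e22 := e 2 2
    simp only [Matrix.mul_apply, Matrix.vecMul, dotProduct, Fin.sum_univ_three, _root_.Fin.isValue, _root_.Matrix.mul_apply, _root_.Matrix.of_apply, _root_.Matrix.cons_val', _root_.Matrix.cons_val_one, _root_.Matrix.cons_val_zero, _root_.Matrix.cons_val_fin_one, _root_.Fin.sum_univ_three, _root_.MulZeroClass.mul_zero, _root_.zero_add, _root_.Matrix.cons_val, _root_.add_zero, _root_.Matrix.cons_mul, _root_.Nat.succ_eq_add_one, _root_.Nat.reduceAdd, _root_.Matrix.empty_mul, _root_.Equiv.symm_apply_apply, _root_.Matrix.smul_apply, _root_.Matrix.vecMul, _root_.dotProduct, _root_.MulZeroClass.zero_mul, _root_.smul_eq_mul] at e01 e02 e10 e20 e11 e12 e21 e22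
    rw [Matrix.det_fin_three] at hy
    have hw1 : w = 1 := by
      by_contra hne
      have hk : b - w * b ≠ 0 := by
        intro h
        apply hne
        have : b * (1 - w) = 0 := by linear_combination h
        rcases mul_eq_zero.1 this with h | h
        · exact absurd h hb
        · linear_combination -h
      have z : ∀ t : F, t * b = w * (b * t) → t = 0 := by
        intro t ht
        have : t * (b - w * b) = 0 := by linear_combination ht
        rcases mul_eq_zero.1 this with h | h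
        · exact h
        · exact absurd h hk
      have z11 := z _ e11
      have z12 := z _ e12
      have z21 := z _ e21
      have z22 := z _ e22
      rw [z11, z12, z21, z22] at hy
      apply one_ne_zero (α := F)
      rw [← hy]
      ring
    subst hw1
    have z : ∀ t : F, t * b = 1 * (a * t) → t = 0 := by
      intro t ht
      have : t * (b - a) = 0 := by linear_combination ht
      rcases mul_eq_zero.1 this with h | h
      · exact h
      · exact absurd (by linear_combination -h) hab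
    have z01 := z _ (by simpa using e01)
    have z02 := z _ (by simpa using e02)
    have z10 := z (y 1 0) (by linear_combination -e10)
    have z20 := z (y 2 0) (by linear_combination -e20)
    refine ⟨z01, z02, z10, z20, ?_⟩
    rw [z01, z02] at hy
    linear_combination hy
  have h00 : ∀ y : Cn !![a, 0, 0; 0, b, 0; 0, 0, b], (y : Matrix (Fin 3) (Fin 3) F) 0 0 ≠ 0 := by
    intro y h0
    have := (key y y.2).2.2.2.2
    rw [h0, zero_mul] at this
    exact zero_ne_one this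
  refine card_cn_le_of_inj (fun y => (Units.mk0 ((y : Matrix (Fin 3) (Fin 3) F) 0 0) (h00 y),
    (y : Matrix (Fin 3) (Fin 3) F) 1 1, (y : Matrix (Fin 3) (Fin 3) F) 1 2,
    if (y : Matrix (Fin 3) (Fin 3) F) 1 1 = 0 then (y : Matrix (Fin 3) (Fin 3) F) 2 2
      else (y : Matrix (Fin 3) (Fin 3) F) 2 1)) ?_
  rintro ⟨y, hy⟩ ⟨y', hy'⟩ h
  simp only [Prod.mk.injEq, Units.mk0_inj] at h
  obtain ⟨h1, h2, h3, h4⟩ := h
  obtain ⟨z01, z02, z10, z20, hd⟩ := key y hy
  obtain ⟨z01', z02', z10', z20', hd'⟩ := key y' hy'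
  have hu : y 0 0 ≠ 0 := h00 ⟨y, hy⟩
  have h5 : y 2 1 = y' 2 1 ∧ y 2 2 = y' 2 2 := by
    rw [← h1, ← h2, ← h3] at hd'
    rw [← h2] at h4
    by_cases h0 : y 1 1 = 0
    · rw [if_pos h0, if_pos h0] at h4
      refine ⟨?_, h4⟩
      rw [h0] at hd hd'
      have h12 : y 1 2 ≠ 0 := by
        intro h
        rw [h] at hd
        apply one_ne_zero (α := F)
        rw [← hd]
        ring
      have : y 0 0 * y 1 2 * (y 2 1 - y' 2 1) = 0 := by linear_combination hd' - hd
      rcases mul_eq_zero.1 this with h | h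
      · exact absurd h (mul_ne_zero hu h12)
      · linear_combination h
    · rw [if_neg h0, if_neg h0] at h4
      refine ⟨h4, ?_⟩
      have : y 0 0 * y 1 1 * (y 2 2 - y' 2 2) = 0 := by linear_combination hd - hd' + y 0 0 * y 1 2 * h4
      rcases mul_eq_zero.1 this with h | h
      · exact absurd h (mul_ne_zero hu h0)
      · linear_combination h
  apply Subtype.ext
  ext i j
  fin_cases i <;> fin_cases j
  · exact h1
  · exact z01.trans z01'.symm
  · exact z02.trans z02'.symm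
  · exact z10.trans z10'.symm
  · exact h2
  · exact h3
  · exact z20.trans z20'.symm
  · exact h5.1
  · exact h5.2

/-- `b + e₁₃` -/
theorem card_cn_jordan [Fintype F] {b : F} (hb : b ≠ 0) :
    Nat.card (Cn !![b, 0, 1; 0, b, 0; 0, 0, b]) ≤ (Fintype.card F - 1) * Fintype.card F ^ 3 := by
  classical
  have key : ∀ y : Matrix (Fin 3) (Fin 3) F, y ∈ Cn !![b, 0, 1; 0, b, 0; 0, 0, b] →
      y 1 0 = 0 ∧ y 2 0 = 0 ∧ y 2 1 = 0 ∧ y 2 2 = y 0 0 ∧ y 0 0 * y 0 0 * y 1 1 = 1 := by
    rintro y ⟨hy, w, hw⟩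
    have e : ∀ i j, (y * !![b, 0, 1; 0, b, 0; 0, 0, b]) i j = (w • (!![b, 0, 1; 0, b, 0; 0, 0, b] * y)) i j :=
      fun i j => by rw [hw]
    have e00 := e 0 0
    have e01 := e 0 1
    have e02 := e 0 2
    have e10 := e 1 0
    have e20 := e 2 0
    have e11 := e 1 1
    have e12 := e 1 2
    have e21 := e 2 1
    have e22 := e 2 2
    simp only [Matrix.mul_apply, Matrix.vecMul, dotProduct, Fin.sum_univ_three, _root_.Fin.isValue, _root_.Matrix.mul_apply, _root_.Matrix.of_apply, _root_.Matrix.cons_val', _root_.Matrix.cons_val_zero, _root_.Matrix.cons_val_fin_one, _root_.Fin.sum_univ_three, _root_.Matrix.cons_val_one, _root_.MulZeroClass.mul_zero, _root_.add_zero, _root_.Matrix.cons_val, _root_.Matrix.cons_mul, _root_.Nat.succ_eq_add_one, _root_.Nat.reduceAdd, _root_.Matrix.empty_mul, _root_.Equiv.symm_apply_apply, _root_.Matrix.smul_apply, _root_.Matrix.vecMul, _root_.dotProduct, _root_.MulZeroClass.zero_mul, _root_.one_mul, _root_.zero_add, _root_.smul_eq_mul,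 _root_.mul_one] at e00 e01 e02 e10 e20 e11 e12 e21 e22
    rw [Matrix.det_fin_three] at hy
    have hw1 : w = 1 := by
      by_contra hne
      have hk : b - w * b ≠ 0 := by
        intro h
        apply hne
        have : b * (1 - w) = 0 := by linear_combination h
        rcases mul_eq_zero.1 this with h | h
        · exact absurd h hb
        · linear_combination -h
      have z : ∀ t : F, t * b = w * (b * t) → t = 0 := by
        intro t ht
        have : t * (b - w * b) = 0 := by linear_combination ht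
        rcases mul_eq_zero.1 this with h | h
        · exact h
        · exact absurd h hk
      have z10 := z _ e10
      have z11 := z _ e11
      have z12 := z (y 1 2) (by linear_combination e12 - z10)
      rw [z10, z11, z12] at hy
      apply one_ne_zero (α := F)
      rw [← hy]
      ring
    subst hw1
    have z20 : y 2 0 = 0 := by linear_combination -e00
    have z21 : y 2 1 = 0 := by linear_combination -e01
    have z22 : y 2 2 = y 0 0 := by linear_combination -e02
    have z10 : y 1 0 = 0 := by linear_combination e12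
    refine ⟨z10, z20, z21, z22, ?_⟩
    rw [z10, z20, z21, z22] at hy
    linear_combination hy
  have h00 : ∀ y : Cn !![b, 0, 1; 0, b, 0; 0, 0, b], (y : Matrix (Fin 3) (Fin 3) F) 0 0 ≠ 0 := by
    intro y h0
    have := (key y y.2).2.2.2.2
    rw [h0, zero_mul, zero_mul] at this
    exact zero_ne_one this
  refine card_cn_le_of_inj (fun y => (Units.mk0 ((y : Matrix (Fin 3) (Fin 3) F) 0 0) (h00 y),
    (y : Matrix (Fin 3) (Fin 3) F) 0 1, (y : Matrix (Fin 3) (Fin 3) F) 0 2,
    (y : Matrix (Fin 3) (Fin 3) F) 1 2)) ?_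
  rintro ⟨y, hy⟩ ⟨y', hy'⟩ h
  simp only [Prod.mk.injEq, Units.mk0_inj] at h
  obtain ⟨h1, h2, h3, h4⟩ := h
  obtain ⟨z10, z20, z21, z22, hd⟩ := key y hy
  obtain ⟨z10', z20', z21', z22', hd'⟩ := key y' hy'
  have hu : y 0 0 ≠ 0 := h00 ⟨y, hy⟩
  have h11 : y 1 1 = y' 1 1 := by
    rw [← h1] at hd'
    have : y 0 0 * y 0 0 * (y 1 1 - y' 1 1) = 0 := by linear_combination hd - hd'
    rcases mul_eq_zero.1 this with h | h
    · exact absurd h (mul_ne_zero hu hu)
    · linear_combination h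
  apply Subtype.ext
  ext i j
  fin_cases i <;> fin_cases j
  · exact h1
  · exact h2
  · exact h3
  · exact z10.trans z10'.symm
  · exact h11
  · exact h4
  · exact z20.trans z20'.symm
  · exact z21.trans z21'.symm
  · exact z22.trans (h1.trans z22'.symm)

/-- the first column is the second unit vector -/
theorem card_cn_std [Fintype F] {α β γ δ ε b : F} (hM : (!![0, α, γ; 1, β, δ; 0, ε, b] : Matrix (Fin 3) (Fin 3) F).det ≠ 0) :
    Nat.card (Cn !![0, α, γ; 1, β, δ; 0, ε, b]) ≤ (Fintype.card F - 1) * Fintype.card F ^ 3 := by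
  by_cases hε : ε = 0
  · subst hε
    by_cases hAB : α + b * (β - b) = 0 ∧ γ + b * δ = 0
    · obtain ⟨hA, hB⟩ := hAB
      have hα : α = - (b * (β - b)) := by linear_combination hA
      have hγ : γ = - (b * δ) := by linear_combination hB
      subst hα hγ
      have hb : b ≠ 0 := by
        rintro rfl
        apply hM
        rw [Matrix.det_fin_three]
        simp
      by_cases hf : β - 2 * b = 0
      · have hβ : β = 2 * b := by linear_combination hf
        subst hβ
        refine (card_cn_conj (P := !![-b, -δ, 1; 1, 0, 0; 0, 1, 0]) (M' := !![b, 0, 1; 0, b, 0; 0, 0, b]) ?_ ?_).trans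
          (card_cn_jordan hb)
        · rw [Matrix.det_fin_three]
          simp
        · ext i j
          (revert i j; simp only [Matrix.mul_apply, Fin.sum_univ_three, _root_.Fin.forall_fin_succ, _root_.Matrix.of_apply, _root_.Matrix.cons_val', _root_.Matrix.cons_val_fin_one, Fin.isValue, _root_.Matrix.cons_val_zero, _root_.Matrix.cons_val_one, _root_.Matrix.cons_val, _root_.mul_neg, _root_.mul_one, _root_.MulZeroClass.mul_zero, _root_.add_zero, _root_.Matrix.cons_val_succ, _root_.zero_add, _root_.forall_const, _root_.MulZeroClass.zero_mul, _root_.neg_zero, _root_.neg_mul, _root_.neg_inj, _root_.mul_eq_mul_left_iff, _root_.one_mul, _root_.neg_add_cancel, _root_.and_true, _root_.left_eq_add, _root_.mul_eq_zero, _root_.true_or, _root_.and_self, _root_.implies_true]) <;> (repeat' with_reducible apply And.intro) <;>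
            first | ring1 | (left; ring1)
      · refine (card_cn_conj (P := !![-b, -(β - b), -δ; 1, 1, 0; 0, 0, 1]) (M' := !![β - b, 0, 0; 0, b, 0; 0, 0, b]) ?_ ?_).trans
          (card_cn_diag hb ?_)
        · rw [Matrix.det_fin_three]
          simp
          intro h
          apply hf
          linear_combination h
        · ext i j
          (revert i j; simp only [Matrix.mul_apply, Fin.sum_univ_three, _root_.Fin.forall_fin_succ, _root_.neg_sub, _root_.Matrix.of_apply, _root_.Matrix.cons_val', _root_.Matrix.cons_val_fin_one, Fin.isValue, _root_.Matrix.cons_val_zero, _root_.Matrix.cons_val_one, _root_.Matrix.cons_val, _root_.mul_neg, _root_.mul_one, _root_.MulZeroClass.mul_zero, _root_.add_zero, _root_.Matrix.cons_val_succ, _root_.zero_add, _root_.forall_const, _root_.MulZeroClass.zero_mul, _root_.neg_zero, _root_.neg_mul, _root_.neg_inj, _root_.true_and, _root_.one_mul, _root_.sub_add_cancel, _root_.neg_add_cancel, _root_.and_self, _root_.and_true,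 _root_.implies_true]) <;> (repeat' with_reducible apply And.intro) <;> ring
        · intro h
          apply hf
          linear_combination h
    · obtain ⟨s, hs⟩ : ∃ s : F, (α + b * (β - b)) * s + (γ + b * δ) ≠ 0 := by
        by_cases hB : γ + b * δ = 0
        · refine ⟨1, ?_⟩
          rw [hB, mul_one, add_zero]
          exact fun h => hAB ⟨h, hB⟩
        · exact ⟨0, by rwa [mul_zero, zero_add]⟩
      refine card_cn_cyclic hM ![-(β - b) * s - δ, s, 1] ?_
      have : (Matrix.of ![![-(β - b) * s - δ, s, 1], !![0, α, γ; 1, β, δ; 0, 0, b] *ᵥ ![-(β - b) * s - δ, s, 1],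
          !![0, α, γ; 1, β, δ; 0, 0, b] *ᵥ (!![0, α, γ; 1, β, δ; 0, 0, b] *ᵥ ![-(β - b) * s - δ, s, 1])]).det =
          ((α + b * (β - b)) * s + (γ + b * δ)) ^ 2 := by
        rw [Matrix.det_fin_three]
        simp only [dotProduct, Fin.sum_univ_three, _root_.Nat.succ_eq_add_one, _root_.Nat.reduceAdd, _root_.neg_sub, _root_.Matrix.mulVec_cons, _root_.one_smul, _root_.Matrix.mulVec_empty, _root_.add_zero, _root_.Matrix.cons_mulVec, _root_.dotProduct, _root_.Pi.add_apply, _root_.Pi.smul_apply, _root_.Function.comp_apply, _root_.smul_eq_mul, _root_.Fin.sum_univ_three, _root_.Fin.isValue, _root_.Matrix.cons_val_zero, _root_.Matrix.head_cons, _root_.MulZeroClass.mul_zero, _root_.Matrix.tail_cons, _root_.zero_add, _root_.MulZeroClass.zero_mul, _root_.Matrix.cons_val_one, _root_.mul_one, _root_.sub_add_add_cancel, _root_.Matrix.cons_val, _root_.one_mul, _root_.Matrix.empty_mulVec, _root_.Matrix.of_apply, _root_.Matrix.cons_val', _root_.Matrix.cons_val_fin_one]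
        ring
      rw [this]
      exact pow_ne_zero 2 hs
  · refine card_cn_cyclic hM ![1, 0, 0] ?_
    have : (Matrix.of ![![1, 0, 0], !![0, α, γ; 1, β, δ; 0, ε, b] *ᵥ ![1, 0, 0],
        !![0, α, γ; 1, β, δ; 0, ε, b] *ᵥ (!![0, α, γ; 1, β, δ; 0, ε, b] *ᵥ ![1, 0, 0])]).det = ε := by
      rw [Matrix.det_fin_three]
      simp [dotProduct, Fin.sum_univ_three]
    rw [this]
    exact hε

/-- a non-scalar matrix moves some line -/
theorem exists_cross {M : Matrix (Fin 3) (Fin 3) F} (hM : ¬ ∃ c : F, M = c • (1 : Matrix (Fin 3) (Fin 3) F)) :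
    ∃ v t : Fin 3 → F, (Matrix.of ![v, M *ᵥ v, t]).det ≠ 0 := by
  by_contra hcon
  push Not at hcon
  apply hM
  have h : ∀ v t : Fin 3 → F, v 0 * (M *ᵥ v) 1 * t 2 - v 0 * (M *ᵥ v) 2 * t 1 - v 1 * (M *ᵥ v) 0 * t 2 +
      v 1 * (M *ᵥ v) 2 * t 0 + v 2 * (M *ᵥ v) 0 * t 1 - v 2 * (M *ᵥ v) 1 * t 0 = 0 := by
    intro v t
    have := hcon v t
    rw [Matrix.det_fin_three] at this
    simpa only [_root_.Fin.isValue, _root_.Nat.succ_eq_add_one, _root_.Nat.reduceAdd, _root_.Matrix.of_apply, _root_.Matrix.cons_val', _root_.Matrix.cons_val_fin_one, _root_.Matrix.cons_val_zero, _root_.Matrix.cons_val_one, _root_.Matrix.cons_val] using this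
  have a1 := h ![1, 0, 0] ![0, 0, 1]
  have a2 := h ![1, 0, 0] ![0, 1, 0]
  have b1 := h ![0, 1, 0] ![0, 0, 1]
  have b2 := h ![0, 1, 0] ![1, 0, 0]
  have c1 := h ![0, 0, 1] ![0, 1, 0]
  have c2 := h ![0, 0, 1] ![1, 0, 0]
  have d1 := h ![1, 1, 0] ![0, 0, 1]
  have d2 := h ![0, 1, 1] ![1, 0, 0]
  simp only [Matrix.mulVec, dotProduct, Fin.sum_univ_three, _root_.Fin.isValue, _root_.Matrix.cons_val_zero, _root_.Matrix.mulVec, _root_.dotProduct, _root_.Fin.sum_univ_three, _root_.mul_one, _root_.Matrix.cons_val_one, _root_.MulZeroClass.mul_zero, _root_.add_zero, _root_.Matrix.cons_val, _root_.one_mul, _root_.sub_zero, _root_.MulZeroClass.zero_mul, _root_.zero_sub, _root_.neg_eq_zero, _root_.zero_add, _root_.sub_self] at a1 a2 b1 b2 c1 c2 d1 d2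
  refine ⟨M 0 0, ?_⟩
  ext i j
  fin_cases i <;> fin_cases j <;> simp [a1, a2, b1, b2, c1, c2]
  · linear_combination d1 - a1 + b1
  · linear_combination d1 - a1 + b1 + d2 - b2 + c2

/-- **Centralisers of non-scalar invertible matrices.** -/
theorem card_cn_le [Fintype F] {M : Matrix (Fin 3) (Fin 3) F} (h0 : M.det ≠ 0)
    (hM : ¬ ∃ c : F, M = c • (1 : Matrix (Fin 3) (Fin 3) F)) :
    Nat.card (Cn M) ≤ (Fintype.card F - 1) * Fintype.card F ^ 3 := by
  obtain ⟨v, t, hvt⟩ := exists_cross hM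
  set X := (Matrix.of ![v, M *ᵥ v, t]) with hX
  have hP : Xᵀ.det ≠ 0 := by rwa [Matrix.det_transpose]
  have hu : IsUnit Xᵀ.det := isUnit_iff_ne_zero.2 hP
  have h1 : Xᵀ * Xᵀ⁻¹ = 1 := Matrix.mul_nonsing_inv _ hu
  have h2 : Xᵀ⁻¹ * Xᵀ = 1 := Matrix.nonsing_inv_mul _ hu
  set M' := Xᵀ⁻¹ * M * Xᵀ with hM'
  have hMP : M * Xᵀ = Xᵀ * M' := by
    rw [hM', ← mul_assoc, ← mul_assoc, h1, one_mul]
  have hcol : M' *ᵥ ![1, 0, 0] = ![0, 1, 0] := by
    have e1 : Xᵀ *ᵥ ![1, 0, 0] = v := by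
      funext i
      simp [hX, Matrix.mulVec, dotProduct, Fin.sum_univ_three]
    have e2 : Xᵀ *ᵥ ![0, 1, 0] = M *ᵥ v := by
      funext i
      simp [hX, Matrix.mulVec, dotProduct, Fin.sum_univ_three]
    rw [hM', ← Matrix.mulVec_mulVec, ← Matrix.mulVec_mulVec, e1, ← e2, Matrix.mulVec_mulVec, h2, Matrix.one_mulVec]
  have hform : M' = !![0, M' 0 1, M' 0 2; 1, M' 1 1, M' 1 2; 0, M' 2 1, M' 2 2] := by
    have c0 := congrFun hcol 0
    have c1 := congrFun hcol 1
    have c2 := congrFun hcol 2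
    simp only [Matrix.mulVec, dotProduct, Fin.sum_univ_three, _root_.Matrix.mulVec, _root_.dotProduct, _root_.Nat.succ_eq_add_one, _root_.Nat.reduceAdd, _root_.Fin.isValue, _root_.Fin.sum_univ_three, _root_.Matrix.cons_val_zero, _root_.mul_one, _root_.Matrix.cons_val_one, _root_.MulZeroClass.mul_zero, _root_.add_zero, _root_.Matrix.cons_val] at c0 c1 c2
    ext i j
    (revert i j; simp only [c0, c1, c2, _root_.Fin.forall_fin_succ, _root_.Nat.succ_eq_add_one, Nat.reduceAdd, Fin.isValue, _root_.Matrix.of_apply, _root_.Matrix.cons_val', _root_.Matrix.cons_val_fin_one, _root_.Matrix.cons_val_zero, _root_.Matrix.cons_val_succ, _root_.Fin.succ_zero_eq_one, _root_.Fin.succ_one_eq_two, _root_.IsEmpty.forall_iff, _root_.and_true, _root_.and_self])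
  have hdet : M'.det ≠ 0 := by
    intro h
    have h3 := congrArg Matrix.det hMP
    rw [Matrix.det_mul, Matrix.det_mul, h, mul_zero] at h3
    exact mul_ne_zero h0 hP h3
  refine (card_cn_conj hP hMP).trans ?_
  rw [hform] at hdet ⊢
  exact card_cn_std hdet

end Cfsg.Agent.H42.Psl3
end

-- part: H42/Psl3/Orders
section
/-!
# Orders, centralisers and class numbers for `PSL₃(q)` (helper42)
-/

set_option autoImplicit false
set_option linter.style.haveILetI false

namespace Cfsg.Agent.H42.Psl3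

open Matrix

variable {F : Type*} [Field F]

theorem psl_finite [Finite F] : Finite (ProjectiveSpecialLinearGroup (Fin 3) F) := by
  unfold Matrix.ProjectiveSpecialLinearGroup
  infer_instance

/-- the projection -/
def pr (F : Type*) [Field F] : SpecialLinearGroup (Fin 3) F →* ProjectiveSpecialLinearGroup (Fin 3) F :=
  QuotientGroup.mk' _

theorem pr_surjective : Function.Surjective (pr F) := QuotientGroup.mk'_surjective _

theorem ker_pr : (pr F).ker = Subgroup.center (SpecialLinearGroup (Fin 3) F) := QuotientGroup.ker_mk' _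

/-- elements of the centre are scalar -/
theorem pr_eq_iff {g h : SpecialLinearGroup (Fin 3) F} (hgh : pr F g = pr F h) :
    ∃ w : F, (g : Matrix (Fin 3) (Fin 3) F) = w • (h : Matrix (Fin 3) (Fin 3) F) := by
  have h1 : g * h⁻¹ ∈ (pr F).ker := by rw [MonoidHom.mem_ker, map_mul, map_inv, hgh, mul_inv_cancel]
  rw [ker_pr, Matrix.SpecialLinearGroup.mem_center_iff] at h1
  obtain ⟨r, _, hr⟩ := h1
  refine ⟨r, ?_⟩
  have h2 : g = (g * h⁻¹) * h := by group
  have h3 : (g : Matrix (Fin 3) (Fin 3) F) = ((g * h⁻¹ : SpecialLinearGroup (Fin 3) F) : Matrix (Fin 3) (Fin 3) F) *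
      (h : Matrix (Fin 3) (Fin 3) F) := by
    rw [← Matrix.SpecialLinearGroup.coe_mul, ← h2]
  rw [h3, ← hr]
  ext i j
  simp [Matrix.scalar_apply, Matrix.diagonal_mul]

theorem pr_ne_one {g : SpecialLinearGroup (Fin 3) F} (hg : pr F g ≠ 1) :
    ¬ ∃ c : F, (g : Matrix (Fin 3) (Fin 3) F) = c • (1 : Matrix (Fin 3) (Fin 3) F) := by
  rintro ⟨c, hc⟩
  apply hg
  have : g ∈ (pr F).ker := by
    rw [ker_pr, Matrix.SpecialLinearGroup.mem_center_iff]
    refine ⟨c, ?_, ?_⟩
    · have := g.2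
      rw [hc, Matrix.det_smul, Matrix.det_one, mul_one] at this
      exact this
    · rw [hc]
      ext i j
      simp [Matrix.scalar_apply, Matrix.diagonal_apply, Matrix.one_apply]
  exact this

variable [Fintype F]

/-- **Centralisers in `PSL₃(q)`.** -/
theorem card_centralizer_le {x : ProjectiveSpecialLinearGroup (Fin 3) F} (hx : x ≠ 1) :
    Nat.gcd 3 (Fintype.card F - 1) * Nat.card (Subgroup.centralizer ({x} : Set (ProjectiveSpecialLinearGroup (Fin 3) F))) ≤
      (Fintype.card F - 1) * Fintype.card F ^ 3 := by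
  classical
  have := psl_finite (F := F)
  obtain ⟨g, rfl⟩ := pr_surjective x
  have hg := pr_ne_one hx
  have hdet : (g : Matrix (Fin 3) (Fin 3) F).det ≠ 0 := by rw [g.2]; exact one_ne_zero
  refine le_trans ?_ (card_cn_le hdet hg)
  set C := Subgroup.centralizer ({pr F g} : Set (ProjectiveSpecialLinearGroup (Fin 3) F)) with hC
  have h1 : Nat.gcd 3 (Fintype.card F - 1) * Nat.card C = Nat.card (C.comap (pr F)) := by
    have e1 := (C.comap (pr F)).card_mul_index
    have e2 := C.card_mul_index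
    rw [Subgroup.index_comap_of_surjective _ pr_surjective] at e1
    have e3 := (pr F).ker.card_mul_index
    rw [Subgroup.index_ker, MonoidHom.range_eq_top.2 pr_surjective, Subgroup.card_top, ker_pr,
      S0280.card_center_SL (by norm_num : 1 ≤ 3)] at e3
    rw [← e3, ← e2, ← mul_assoc] at e1
    exact (Nat.eq_of_mul_eq_mul_right (Nat.pos_of_ne_zero Subgroup.index_ne_zero_of_finite) e1).symm
  rw [h1]
  have hf : Finite (Matrix (Fin 3) (Fin 3) F) := inferInstance
  let f : C.comap (pr F) → Cn (g : Matrix (Fin 3) (Fin 3) F) := fun y => ⟨((y : SpecialLinearGroup (Fin 3) F) : Matrix (Fin 3) (Fin 3) F), by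
    refine ⟨(y : SpecialLinearGroup (Fin 3) F).2, ?_⟩
    have h2 : pr F (y : SpecialLinearGroup (Fin 3) F) * pr F g = pr F g * pr F (y : SpecialLinearGroup (Fin 3) F) :=
      Subgroup.mem_centralizer_singleton_iff.1 y.2
    rw [← map_mul, ← map_mul] at h2
    obtain ⟨w, hw⟩ := pr_eq_iff h2
    exact ⟨w, by simpa only [Matrix.SpecialLinearGroup.coe_mul] using hw⟩⟩
  refine Nat.card_le_card_of_injective f ?_
  intro y y' h
  have h3 := congrArg Subtype.val h
  exact Subtype.ext (Subtype.ext h3)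

/-- the order of `PSL₃(q)` -/
theorem card_psl :
    Nat.gcd 3 (Fintype.card F - 1) * Nat.card (ProjectiveSpecialLinearGroup (Fin 3) F) =
      Fintype.card F ^ 3 * (Fintype.card F ^ 2 - 1) * (Fintype.card F ^ 3 - 1) := by
  have h := S0243.result (F := F) rfl 3 (by norm_num)
  rw [Fin.prod_univ_three] at h
  have h2 : 2 ≤ Fintype.card F := Fintype.one_lt_card
  generalize Nat.card (ProjectiveSpecialLinearGroup (Fin 3) F) = N at *
  generalize Nat.gcd 3 (Fintype.card F - 1) = d at *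
  generalize Fintype.card F = q at *
  obtain ⟨t, rfl⟩ : ∃ t, q = t + 1 := ⟨q - 1, by omega⟩
  have e1 : (t + 1) ^ 3 - 1 = t * (t ^ 2 + 3 * t + 3) := by
    have : (t + 1) ^ 3 = t * (t ^ 2 + 3 * t + 3) + 1 := by ring
    omega
  have e2 : (t + 1) ^ 3 - (t + 1) = (t + 1) * (t * (t + 2)) := by
    have : (t + 1) ^ 3 = (t + 1) * (t * (t + 2)) + (t + 1) := by ring
    omega
  have e3 : (t + 1) ^ 3 - (t + 1) ^ 2 = (t + 1) ^ 2 * t := by
    have : (t + 1) ^ 3 = (t + 1) ^ 2 * t + (t + 1) ^ 2 := by ring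
    omega
  have e4 : (t + 1) ^ 2 - 1 = t * (t + 2) := by
    have : (t + 1) ^ 2 = t * (t + 2) + 1 := by ring
    omega
  have h' : d * (t * N) = t * (t ^ 2 + 3 * t + 3) * ((t + 1) * (t * (t + 2))) * ((t + 1) ^ 2 * t) := by
    simpa only [e1, e2, e3, _root_.add_tsub_cancel_right, _root_.Fin.isValue, _root_.Fin.coe_ofNat_eq_mod, _root_.Nat.zero_mod, _root_.pow_zero, _root_.Nat.one_mod, _root_.pow_one, _root_.Nat.mod_succ] using h
  rw [e4, e1]
  have ht : 0 < t := by omega
  apply Nat.eq_of_mul_eq_mul_left ht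
  calc t * (d * N) = d * (t * N) := by ring
    _ = _ := h'
    _ = _ := by ring

/-- **Class numbers of groups embedded into `PSL₃(q)`.** -/
theorem classes_sub {A : Type*} [Group A] [Finite A] (f : A →* ProjectiveSpecialLinearGroup (Fin 3) F)
    (hf : Function.Injective f) :
    Nat.gcd 3 (Fintype.card F - 1) * Nat.card (ConjClasses A) ≤ (Fintype.card F - 1) * Fintype.card F ^ 3 := by
  classical
  have := psl_finite (F := F)
  letI := Fintype.ofFinite A
  set d := Nat.gcd 3 (Fintype.card F - 1) with hd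
  set C := (Fintype.card F - 1) * Fintype.card F ^ 3 with hC
  have hdC : d ∣ C := (Nat.gcd_dvd_right _ _).mul_right _
  have h2 : 2 ≤ Fintype.card F := Fintype.one_lt_card
  have hCpos : 0 < C := Nat.mul_pos (by omega) (by positivity)
  obtain ⟨c, hc⟩ := hdC
  have hdpos : 0 < d := Nat.gcd_pos_of_pos_left _ (by norm_num)
  have hcen : ∀ a : A, a ≠ 1 → Nat.card (Subgroup.centralizer ({a} : Set A)) ≤ c := by
    intro a ha
    have h3 := card_centralizer_le (x := f a) (fun h => ha ((map_eq_one_iff f hf).1 h))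
    have h4 : Nat.card (Subgroup.centralizer ({a} : Set A)) ≤
        Nat.card (Subgroup.centralizer ({f a} : Set (ProjectiveSpecialLinearGroup (Fin 3) F))) := by
      refine Nat.card_le_card_of_injective (fun y => ⟨f y, ?_⟩) ?_
      · rw [Subgroup.mem_centralizer_singleton_iff]
        have := Subgroup.mem_centralizer_singleton_iff.1 y.2
        rw [← map_mul, this, map_mul]
      · intro y y' h
        exact Subtype.ext (hf (congrArg Subtype.val h))
    have h5 : d * Nat.card (Subgroup.centralizer ({a} : Set A)) ≤ d * c :=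
      (Nat.mul_le_mul_left _ h4).trans (h3.trans (le_of_eq hc))
    exact Nat.le_of_mul_le_mul_left h5 hdpos
  have hsum : Nat.card (ConjClasses A) * Nat.card A = ∑ a : A, Nat.card (Subgroup.centralizer ({a} : Set A)) := by
    rw [← card_comm_eq_card_conjClasses_mul_card]
    rw [Nat.card_congr (Equiv.subtypeProdEquivSigmaSubtype (fun a b : A => Commute a b)), Nat.card_sigma]
    refine Finset.sum_congr rfl fun a _ => ?_
    refine Nat.card_congr (Equiv.subtypeEquivRight fun b => ?_)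
    rw [Subgroup.mem_centralizer_singleton_iff]
    exact ⟨fun h => h.symm, fun h => h.symm⟩
  have hle : Nat.card (ConjClasses A) * Nat.card A + c ≤ Nat.card A + Nat.card A * c := by
    rw [hsum, ← Finset.add_sum_erase _ _ (Finset.mem_univ (1 : A))]
    have h6 : Nat.card (Subgroup.centralizer ({1} : Set A)) ≤ Nat.card A := Subgroup.card_le_card_group _
    have h7 : ∑ a ∈ Finset.univ.erase (1 : A), Nat.card (Subgroup.centralizer ({a} : Set A)) ≤ (Nat.card A - 1) * c := by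
      refine (Finset.sum_le_card_nsmul _ _ c fun a ha => hcen a (Finset.ne_of_mem_erase ha)).trans ?_
      rw [smul_eq_mul, Finset.card_erase_of_mem (Finset.mem_univ _), Finset.card_univ, Nat.card_eq_fintype_card]
    have h8 : 1 ≤ Nat.card A := Nat.card_pos
    have h9 : (Nat.card A - 1) * c + c = Nat.card A * c := by
      rw [← Nat.succ_mul]
      congr 1
      omega
    omega
  have hk : Nat.card (ConjClasses A) ≤ c := by
    by_contra hcon
    have h10 : (c + 1) * Nat.card A ≤ Nat.card (ConjClasses A) * Nat.card A := Nat.mul_le_mul_right _ (by omega)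
    have h11 : 0 < c := by
      rw [Nat.pos_iff_ne_zero]
      rintro rfl
      omega
    have h12 : (c + 1) * Nat.card A = Nat.card A * c + Nat.card A := by ring
    omega
  rw [hc]
  exact Nat.mul_le_mul_left _ hk

open Cfsg.Agent.H151.GLC Cfsg.Agent.H151.Cnt Cfsg.Agent.H151.SLC Cfsg.Agent.H151.SLB Cfsg.Agent.H151.PSLB in
/-- the class number of `PSL₃(q)` -/
theorem classes_le :
    Nat.gcd 3 (Fintype.card F - 1) * Nat.card (ConjClasses (ProjectiveSpecialLinearGroup (Fin 3) F)) ≤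
      Fintype.card F ^ 2 + Fintype.card F + 10 ∧
    (Nat.gcd 3 (Fintype.card F - 1) = 1 → Nat.card (ConjClasses (ProjectiveSpecialLinearGroup (Fin 3) F)) ≤
      Fintype.card F ^ 2 + Fintype.card F) := by
  classical
  have hq : 2 ≤ Fintype.card F := Fintype.one_lt_card
  have hmul := card_psl_mul_le (F := F) (n := 3) (by omega)
  have hs := total_prime_le (F := F) Nat.prime_three
  rw [K_three_three _ (by omega)] at hs
  have h := hmul.trans hs
  have ha := one_le_card_aa (F := F) 3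
  have ha2 := card_aa_le (F := F) (m := 3) (by norm_num)
  have key : ∀ k a : ℕ, 1 ≤ a → a ≤ 3 → k * (Fintype.card F - 1) ≤ (Fintype.card F - 1) * (Fintype.card F * (Fintype.card F + 1)) +
      ((a ^ 2 - 1) + (a - 1)) * (Fintype.card F - 1) → k ≤ Fintype.card F ^ 2 + Fintype.card F + ((a ^ 2 - 1) + (a - 1)) := by
    intro k a ha1 ha3 hk
    have e : (Fintype.card F - 1) * (Fintype.card F * (Fintype.card F + 1)) +
      ((a ^ 2 - 1) + (a - 1)) * (Fintype.card F - 1) =
        (Fintype.card F ^ 2 + Fintype.card F + ((a ^ 2 - 1) + (a - 1))) * (Fintype.card F - 1) := by ring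
    rw [e] at hk
    exact Nat.le_of_mul_le_mul_right hk (by omega)
  have h1 := key _ _ ha ha2 h
  constructor
  · refine h1.trans ?_
    have : (aa F 3).card = 1 ∨ (aa F 3).card = 2 ∨ (aa F 3).card = 3 := by omega
    rcases this with h | h | h <;> rw [h] <;> omega
  · intro hg
    have haa : (aa F 3).card = 1 := by
      rw [Finset.card_eq_one]
      refine ⟨1, ?_⟩
      ext u
      rw [Finset.mem_singleton]
      constructor
      · intro hu
        have h3 := orderOf_dvd_of_mem_aa hu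
        have h4 : orderOf u ∣ Fintype.card F - 1 := by
          rw [← Fintype.card_units]
          exact orderOf_dvd_card
        have h5 := Nat.dvd_gcd h3 h4
        rw [hg, Nat.dvd_one, orderOf_eq_one_iff] at h5
        exact h5
      · rintro rfl
        exact one_mem_aa 3
    rw [hg, one_mul, haa] at h1
    exact h1

end Cfsg.Agent.H42.Psl3
end

-- part: H42/Psl3/Act
section
/-!
# The subgroup `Q = {1 + a e₁₃ + b e₂₃}` of `PSL₃(q)` (helper42)
-/

set_option autoImplicit false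
set_option linter.style.haveILetI false

namespace Cfsg.Agent.H42.Psl3

open Matrix Cfsg Cfsg.Agent.Characters.Core Cfsg.Agent.H672

variable {F : Type*} [Field F]

/-- the matrices `1 + a e₁₃ + b e₂₃` -/
def tau (F : Type*) [Field F] : Multiplicative (F × F) →* SpecialLinearGroup (Fin 3) F where
  toFun z := ⟨!![1, 0, (Multiplicative.toAdd z).1; 0, 1, (Multiplicative.toAdd z).2; 0, 0, 1], by
    rw [Matrix.det_fin_three]; simp⟩
  map_one' := by
    apply Subtype.ext
    ext i j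
    (revert i j; simp only [_root_.Fin.forall_fin_succ, _root_.toAdd_one, _root_.Prod.fst_zero, _root_.Prod.snd_zero, _root_.Matrix.of_apply, _root_.Matrix.cons_val', _root_.Matrix.cons_val_fin_one, _root_.Matrix.SpecialLinearGroup.coe_one, Fin.isValue, _root_.Matrix.cons_val_zero, _root_.Matrix.cons_val_succ, _root_.IsEmpty.forall_iff, _root_.and_true, _root_.Matrix.one_apply_eq, Nat.reduceAdd, _root_.Fin.succ_zero_eq_one, _root_.ne_eq, _root_.zero_ne_one, _root_.not_false_eq_true, _root_.Matrix.one_apply_ne, _root_.Fin.succ_one_eq_two, Fin.reduceEq, _root_.and_self, _root_.Fin.succ_ne_zero, _root_.true_and])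
  map_mul' z w := by
    apply Subtype.ext
    change (!![1, 0, (Multiplicative.toAdd (z * w)).1; 0, 1, (Multiplicative.toAdd (z * w)).2; 0, 0, 1] :
      Matrix (Fin 3) (Fin 3) F) = !![1, 0, (Multiplicative.toAdd z).1; 0, 1, (Multiplicative.toAdd z).2; 0, 0, 1] *
        !![1, 0, (Multiplicative.toAdd w).1; 0, 1, (Multiplicative.toAdd w).2; 0, 0, 1]
    ext i j
    fin_cases i <;> fin_cases j <;> simp [Matrix.mul_apply, Fin.sum_univ_three, toAdd_mul, add_comm]

theorem tau_coe (z : Multiplicative (F × F)) : ((tau F z : SpecialLinearGroup (Fin 3) F) : Matrix (Fin 3) (Fin 3) F) =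
    !![1, 0, (Multiplicative.toAdd z).1; 0, 1, (Multiplicative.toAdd z).2; 0, 0, 1] := rfl

theorem tau_transvection {z : Multiplicative (F × F)} (hz : z ≠ 1) :
    IsTransvection ((tau F z : SpecialLinearGroup (Fin 3) F) : Matrix (Fin 3) (Fin 3) F) := by
  rw [tau_coe]
  set a := (Multiplicative.toAdd z).1
  set b := (Multiplicative.toAdd z).2
  have hab : ¬ (a = 0 ∧ b = 0) := by
    rintro ⟨h1, h2⟩
    exact hz (Multiplicative.toAdd.injective (Prod.ext h1 h2))
  have e : (!![1, 0, a; 0, 1, b; 0, 0, 1] - 1 : Matrix (Fin 3) (Fin 3) F) = Matrix.vecMulVec ![a, b, 0] ![0, 0, 1] := by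
    ext i j
    (revert i j; simp only [Matrix.vecMulVec_apply, _root_.Fin.forall_fin_succ, _root_.Matrix.sub_apply, _root_.Matrix.of_apply, _root_.Matrix.cons_val', _root_.Matrix.cons_val_fin_one, _root_.Nat.succ_eq_add_one, Nat.reduceAdd, Fin.isValue, _root_.Matrix.cons_val_zero, _root_.MulZeroClass.mul_zero, _root_.Matrix.cons_val_succ, _root_.mul_one, _root_.IsEmpty.forall_iff, _root_.and_true, _root_.Matrix.one_apply_eq, _root_.sub_self, _root_.Fin.succ_zero_eq_one, _root_.ne_eq, _root_.zero_ne_one, _root_.not_false_eq_true, _root_.Matrix.one_apply_ne, _root_.Fin.succ_one_eq_two, Fin.reduceEq, _root_.sub_zero, _root_.and_self, _root_.Fin.succ_ne_zero, _root_.zero_sub, _root_.neg_eq_zero, _root_.true_and])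
  constructor
  · rw [e]
    apply le_antisymm (Matrix.rank_vecMulVec_le _ _)
    rw [Nat.one_le_iff_ne_zero]
    intro h0
    rw [Matrix.rank, Submodule.finrank_eq_zero, LinearMap.range_eq_bot] at h0
    apply hab
    have h1 := LinearMap.congr_fun h0 ![0, 0, 1]
    have h2 := congrFun h1 0
    have h3 := congrFun h1 1
    simp [Matrix.mulVec, dotProduct, Fin.sum_univ_three] at h2 h3
    exact ⟨h2, h3⟩
  · rw [e]
    ext i j
    (revert i j; simp only [Matrix.mul_apply, Fin.sum_univ_three, _root_.Fin.forall_fin_succ, _root_.Nat.succ_eq_add_one, Nat.reduceAdd, _root_.Matrix.vecMulVec_cons, _root_.Matrix.smul_cons, _root_.smul_eq_mul, _root_.MulZeroClass.mul_zero, _root_.mul_one, _root_.Matrix.smul_empty, _root_.Matrix.of_apply, Fin.isValue, _root_.Matrix.cons_val_zero, _root_.MulZeroClass.zero_mul, _root_.Matrix.cons_val_one, _root_.add_zero, _root_.Matrix.cons_val, _root_.zero_add, _root_.Matrix.zero_apply, _root_.mul_eq_zero, _root_.or_true, _root_.Matrix.cons_val_succ,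 _root_.Matrix.cons_val_fin_one, _root_.implies_true, _root_.and_self])

/-- the image in `PSL₃(q)` -/
def tq (F : Type*) [Field F] : Multiplicative (F × F) →* ProjectiveSpecialLinearGroup (Fin 3) F := (pr F).comp (tau F)

theorem tq_injective : Function.Injective (tq F) := by
  rw [← MonoidHom.ker_eq_bot_iff, eq_bot_iff]
  intro z hz
  rw [Subgroup.mem_bot]
  have h1 : pr F (tau F z) = pr F 1 := by
    rw [map_one]
    exact hz
  obtain ⟨w, hw⟩ := pr_eq_iff h1
  rw [tau_coe, Matrix.SpecialLinearGroup.coe_one] at hw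
  have h02 := congrFun (congrFun hw 0) 2
  have h12 := congrFun (congrFun hw 1) 2
  simp at h02 h12
  exact Multiplicative.toAdd.injective (Prod.ext h02 h12)

theorem tq_isConj [Finite F] {z w : Multiplicative (F × F)} (hz : z ≠ 1) (hw : w ≠ 1) :
    IsConj (tq F z) (tq F w) :=
  MonoidHom.map_isConj (pr F)
    (S2579.result (F := F) (n := 3) le_rfl (tau F z) (tau F w) (tau_transvection hz) (tau_transvection hw))

/-- **Minimal degrees** from an abelian subgroup with all its non-trivial elements conjugate. -/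
theorem min_degree {S : Type*} [Group S] [Finite S] {A : Type*} [CommGroup A] [Finite A] (f : A →* S)
    (hconj : ∀ a b, a ≠ 1 → b ≠ 1 → IsConj (f a) (f b)) {a₀ : A} (ha₀ : a₀ ≠ 1)
    {χ : S → ℂ} (hχ : IsIrrCharacter S χ) (hker : χ (f a₀) ≠ χ 1) : Nat.card A - 1 ≤ charDegree χ := by
  classical
  letI := Fintype.ofFinite A
  obtain ⟨μ, hμ⟩ := CommGroup.exists_apply_ne_one_of_hasEnoughRootsOfUnity A ℂ ha₀
  have hφ : IsCharacter A (χ ∘ f) := isCharacter_comp f (isIrr_isCharacter hχ)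
  obtain ⟨t, ht⟩ := classInner_isNat hφ (isCharacter_one (G := A))
  obtain ⟨b, hb⟩ := classInner_isNat hφ (Characters.Linear.isCharacter_hom μ)
  have hval : ∀ a : A, a ≠ 1 → χ (f a) = χ (f a₀) := by
    intro a ha
    obtain ⟨c, hc⟩ := isConj_iff.1 (hconj a a₀ ha ha₀)
    rw [← hc]
    exact (isIrr_isClassFunction hχ (f a) c).symm
  have h0 : (Nat.card A : ℂ) ≠ 0 := by exact_mod_cast Nat.card_pos.ne'
  have hμsum : ∑ a : A, (starRingEnd ℂ) (μ a : ℂ) = 0 := by
    have h1 : classInner (1 : A → ℂ) (fun a => (μ a : ℂ)) = 0 := by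
      refine classInner_irr_ne isIrr_one (Characters.Linear.isIrrCharacter_hom μ) ?_
      intro h
      have := congrFun h a₀
      apply hμ
      apply Units.ext
      rw [Units.val_one]
      exact this.symm
    change (Nat.card A : ℂ)⁻¹ * ∑ a : A, (1 : ℂ) * (starRingEnd ℂ) (μ a : ℂ) = 0 at h1
    rcases mul_eq_zero.1 h1 with h | h
    · exact absurd h (inv_ne_zero h0)
    · simpa only [_root_.one_mul] using h
  have e1 : (Nat.card A : ℂ) * t = χ 1 + ((Nat.card A : ℂ) - 1) * χ (f a₀) := by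
    rw [← ht]
    change (Nat.card A : ℂ) * ((Nat.card A : ℂ)⁻¹ * ∑ a : A, χ (f a) * (starRingEnd ℂ) (1 : ℂ)) = _
    rw [mul_inv_cancel_left₀ h0, ← Finset.add_sum_erase _ _ (Finset.mem_univ (1 : A))]
    rw [Finset.sum_congr rfl (g := fun _ => χ (f a₀)) fun a ha => by
      rw [map_one, mul_one, hval a (Finset.ne_of_mem_erase ha)]]
    rw [Finset.sum_const, Finset.card_erase_of_mem (Finset.mem_univ _), Finset.card_univ, nsmul_eq_mul,
      ← Nat.card_eq_fintype_card, Nat.cast_sub Nat.card_pos, map_one, map_one, mul_one, Nat.cast_one]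
  have e2 : (Nat.card A : ℂ) * b = χ 1 - χ (f a₀) := by
    rw [← hb]
    change (Nat.card A : ℂ) * ((Nat.card A : ℂ)⁻¹ * ∑ a : A, χ (f a) * (starRingEnd ℂ) (μ a : ℂ)) = _
    rw [← Finset.add_sum_erase _ _ (Finset.mem_univ (1 : A))] at hμsum
    rw [mul_inv_cancel_left₀ h0, ← Finset.add_sum_erase _ _ (Finset.mem_univ (1 : A))]
    rw [Finset.sum_congr rfl (g := fun a => χ (f a₀) * (starRingEnd ℂ) (μ a : ℂ)) fun a ha => by
      rw [hval a (Finset.ne_of_mem_erase ha)]]
    rw [← Finset.mul_sum]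
    have h3 : (starRingEnd ℂ) ((μ 1 : ℂˣ) : ℂ) = 1 := by simp
    rw [h3] at hμsum ⊢
    rw [map_one]
    linear_combination χ (f a₀) * hμsum
  have hbne : b ≠ 0 := by
    rintro rfl
    apply hker
    rw [Nat.cast_zero, mul_zero] at e2
    linear_combination e2
  have e3 : (charDegree χ : ℂ) = t + ((Nat.card A : ℂ) - 1) * b := by
    rw [coe_charDegree hχ]
    apply mul_left_cancel₀ h0
    linear_combination -e1 - ((Nat.card A : ℂ) - 1) * e2
  have h1 : 1 ≤ Nat.card A := Nat.card_pos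
  have e4 : charDegree χ = t + (Nat.card A - 1) * b := by
    rw [← Nat.cast_one, ← Nat.cast_sub h1] at e3
    exact_mod_cast e3
  rw [e4]
  calc Nat.card A - 1 ≤ (Nat.card A - 1) * b := Nat.le_mul_of_pos_right _ (Nat.pos_of_ne_zero hbne)
    _ ≤ _ := Nat.le_add_left _ _

omit [Field F] in
theorem card_mul_prod [Fintype F] : Nat.card (Multiplicative (F × F)) = Fintype.card F ^ 2 := by
  rw [Nat.card_congr Multiplicative.toAdd, Nat.card_prod, Nat.card_eq_fintype_card, sq]

/-- **Minimal degrees of `PSL₃(q)`.** -/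
theorem psl_min_degree [Fintype F] {χ : ProjectiveSpecialLinearGroup (Fin 3) F → ℂ}
    (hχ : IsIrrCharacter (ProjectiveSpecialLinearGroup (Fin 3) F) χ) (h1 : χ ≠ 1) :
    Fintype.card F ^ 2 - 1 ≤ charDegree χ := by
  have := psl_finite (F := F)
  have := S0249.result (F := F) 3 le_rfl
  have ha : (Multiplicative.ofAdd ((1, 0) : F × F)) ≠ 1 := by
    intro h
    have := congrArg (fun z => (Multiplicative.toAdd z).1) h
    exact one_ne_zero this
  have h := min_degree (tq F) (fun a b ha hb => tq_isConj ha hb) ha hχ ?_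
  · rwa [card_mul_prod] at h
  · intro h
    exact h1 (SporadicA.M11CharSimple.eq_one_of_apply_eq hχ
      (fun h => ha ((map_eq_one_iff _ tq_injective).1 h)) h)

/-- transitive actions of small degree are 2-transitive -/
theorem two_trans {S : Type*} [Group S] [Fintype S] {Ω : Type*} [Fintype Ω] [MulAction S Ω]
    [MulAction.IsPretransitive S Ω] {k : ℕ} (h2 : 2 ≤ Nat.card Ω) (hlt : Nat.card Ω < 2 * k + 1)
    (hmin : ∀ χ : S → ℂ, IsIrrCharacter S χ → χ ≠ 1 → k ≤ charDegree χ) :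
    MulAction.IsMultiplyPretransitive S Ω 2 ∧
      ∃ χ : S → ℂ, IsIrrCharacter S χ ∧ charDegree χ + 1 = Nat.card Ω := by
  classical
  have hne : Nonempty Ω := by
    rw [← Finite.card_pos_iff]
    omega
  obtain ⟨a⟩ := hne
  obtain ⟨m, -, hm1, hmsq, hmsum⟩ := PermutationGroups.MultFree.exists_decomp (G := S) a
  set i1 : IrrCharacter S := ⟨_, PermutationGroups.MultFree.isIrr_one⟩ with hi1
  have hi1s : i1 ∈ m.support := by
    rw [Finsupp.mem_support_iff, hm1]
    exact one_ne_zero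
  have hnat : Nat.card Ω = ∑ ψ ∈ m.support, m ψ * charDegree (ψ : S → ℂ) := by
    have h3 : (Nat.card Ω : ℂ) = ((∑ ψ ∈ m.support, m ψ * charDegree (ψ : S → ℂ) : ℕ) : ℂ) := by
      rw [hmsum, Nat.cast_sum]
      refine Finset.sum_congr rfl fun ψ _ => ?_
      rw [Nat.cast_mul, coe_charDegree ψ.2]
    exact_mod_cast h3
  have hd1 : charDegree (i1 : S → ℂ) = 1 := charDegree_of_eq (by simp [hi1])
  rw [← Finset.add_sum_erase _ _ hi1s, hm1, hd1, mul_one] at hnat
  rw [← Finset.add_sum_erase _ _ hi1s, hm1, one_pow] at hmsq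
  have hterm : ∀ ψ ∈ m.support.erase i1, k ≤ m ψ * charDegree (ψ : S → ℂ) ∧ k ≤ charDegree (ψ : S → ℂ) ∧ 1 ≤ m ψ := by
    intro ψ hψ
    have h3 := Finset.mem_erase.1 hψ
    have h4 : m ψ ≠ 0 := Finsupp.mem_support_iff.1 h3.2
    have h5 : k ≤ charDegree (ψ : S → ℂ) := hmin ψ ψ.2 fun h => h3.1 (Subtype.ext h)
    exact ⟨h5.trans (Nat.le_mul_of_pos_left _ (Nat.pos_of_ne_zero h4)), h5, Nat.pos_of_ne_zero h4⟩
  have hcard : (m.support.erase i1).card = 1 := by
    have h3 : (m.support.erase i1).card * k ≤ ∑ ψ ∈ m.support.erase i1, m ψ * charDegree (ψ : S → ℂ) := by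
      rw [← smul_eq_mul]
      exact Finset.card_nsmul_le_sum _ _ _ fun ψ hψ => (hterm ψ hψ).1
    have h4 : (m.support.erase i1).card ≠ 0 := by
      intro h0
      rw [Finset.card_eq_zero] at h0
      rw [h0, Finset.sum_empty] at hnat
      omega
    by_contra h5
    have h6 : 2 * k ≤ (m.support.erase i1).card * k := Nat.mul_le_mul_right _ (by omega)
    omega
  obtain ⟨ψ, hψ⟩ := Finset.card_eq_one.1 hcard
  obtain ⟨h5, h6, h7⟩ := hterm ψ (by rw [hψ]; exact Finset.mem_singleton_self ψ)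
  rw [hψ, Finset.sum_singleton] at hnat hmsq
  have hm : m ψ = 1 := by
    by_contra h8
    have h9 : 2 * charDegree (ψ : S → ℂ) ≤ m ψ * charDegree (ψ : S → ℂ) := Nat.mul_le_mul_right _ (by omega)
    omega
  rw [hm] at hmsq hnat
  refine ⟨?_, ψ, ψ.2, by omega⟩
  rw [S0157.two_pretransitive_iff_card_orbits S Ω h2]
  have h8 := S0669.result (G := S) a
  rw [← hmsq] at h8
  exact h8

theorem card_fixedBy_conj {S : Type*} [Group S] {Ω : Type*} [MulAction S Ω] {g h : S} (hgh : IsConj g h) :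
    Nat.card (MulAction.fixedBy Ω g) = Nat.card (MulAction.fixedBy Ω h) := by
  obtain ⟨c, hc⟩ := isConj_iff.1 hgh
  refine Nat.card_congr ⟨fun x => ⟨c • x, ?_⟩, fun x => ⟨c⁻¹ • x, ?_⟩, fun x => ?_, fun x => ?_⟩
  · rw [MulAction.mem_fixedBy, ← hc, smul_smul, inv_mul_cancel_right, mul_smul, x.2]
  · have h1 : g = c⁻¹ * h * c := by rw [← hc]; group
    rw [MulAction.mem_fixedBy, h1, smul_smul, mul_inv_cancel_right, mul_smul, x.2]
  · exact Subtype.ext (by simp)
  · exact Subtype.ext (by simp)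

/-- Burnside's lemma for an abelian group with all its non-trivial elements conjugate in a larger group. -/
theorem fix_sum {S : Type*} [Group S] {A : Type*} [CommGroup A] [Finite A] (f : A →* S)
    (hconj : ∀ a b, a ≠ 1 → b ≠ 1 → IsConj (f a) (f b)) {a₀ : A} (ha₀ : a₀ ≠ 1)
    (Ω : Type*) [Finite Ω] [MulAction S Ω] :
    ∃ r : ℕ, Nat.card Ω + (Nat.card A - 1) * Nat.card (MulAction.fixedBy Ω (f a₀)) = r * Nat.card A := by
  classical
  letI := Fintype.ofFinite A
  letI := Fintype.ofFinite Ω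
  letI : MulAction A Ω := MulAction.compHom Ω f
  have h := MulAction.sum_card_fixedBy_eq_card_orbits_mul_card_group A Ω
  refine ⟨_, Eq.trans ?_ (h.trans (by rw [← Nat.card_eq_fintype_card (α := A)]))⟩
  rw [← Finset.add_sum_erase _ _ (Finset.mem_univ (1 : A))]
  congr 1
  · rw [← Nat.card_eq_fintype_card]
    refine Nat.card_congr (Equiv.subtypeUnivEquiv fun x => one_smul A x).symm
  · rw [Finset.sum_congr rfl (g := fun _ => Nat.card (MulAction.fixedBy Ω (f a₀))) fun a ha => ?_]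
    · rw [Finset.sum_const, Finset.card_erase_of_mem (Finset.mem_univ _), Finset.card_univ, smul_eq_mul,
        Nat.card_eq_fintype_card]
    · rw [← Nat.card_eq_fintype_card]
      exact card_fixedBy_conj (S := S) (Ω := Ω) (hconj a a₀ (Finset.ne_of_mem_erase ha) ha₀)

/-- the number of fixed points of the elements of `Q` on a transitive set with `q² + q + 1` points -/
theorem card_fixedBy_tq [Fintype F] (Ω : Type*) [Finite Ω] [MulAction (ProjectiveSpecialLinearGroup (Fin 3) F) Ω]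
    [MulAction.IsPretransitive (ProjectiveSpecialLinearGroup (Fin 3) F) Ω]
    (hΩ : Nat.card Ω = Fintype.card F ^ 2 + Fintype.card F + 1) {z : Multiplicative (F × F)} (hz : z ≠ 1) :
    Nat.card (MulAction.fixedBy Ω (tq F z)) = Fintype.card F + 1 := by
  classical
  have hs := S0249.result (F := F) 3 le_rfl
  obtain ⟨r, hr⟩ := fix_sum (tq F) (fun a b ha hb => tq_isConj ha hb) hz Ω
  rw [card_mul_prod, hΩ] at hr
  have hle : Nat.card (MulAction.fixedBy Ω (tq F z)) ≤ Nat.card Ω :=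
    Nat.card_le_card_of_injective _ Subtype.val_injective
  have hne : Nat.card (MulAction.fixedBy Ω (tq F z)) ≠ Nat.card Ω := by
    intro h
    have hall : ∀ x : Ω, tq F z • x = x := by
      have h1 : Function.Surjective (Subtype.val : MulAction.fixedBy Ω (tq F z) → Ω) :=
        ((Nat.bijective_iff_injective_and_card _).2 ⟨Subtype.val_injective, h⟩).2
      intro x
      obtain ⟨y, rfl⟩ := h1 x
      exact y.2
    let ρ := MulAction.toPermHom (ProjectiveSpecialLinearGroup (Fin 3) F) Ω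
    have hk : tq F z ∈ ρ.ker := by
      rw [MonoidHom.mem_ker]
      exact Equiv.ext hall
    have htop : ρ.ker = ⊤ := by
      rcases (inferInstance : ρ.ker.Normal).eq_bot_or_eq_top with h1 | h1
      · rw [h1, Subgroup.mem_bot, map_eq_one_iff _ tq_injective] at hk
        exact absurd hk hz
      · exact h1
    have h2 : 1 < Nat.card Ω := by
      have : 2 ≤ Fintype.card F := Fintype.one_lt_card
      omega
    rw [Finite.one_lt_card_iff_nontrivial] at h2
    obtain ⟨x, y, hxy⟩ := h2.exists_pair_ne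
    obtain ⟨g, hg⟩ := MulAction.exists_smul_eq (ProjectiveSpecialLinearGroup (Fin 3) F) x y
    apply hxy
    rw [← hg]
    have h3 : g ∈ ρ.ker := by rw [htop]; trivial
    rw [MonoidHom.mem_ker] at h3
    exact (congrArg (fun e : Equiv.Perm Ω => e x) h3).symm
  rw [hΩ] at hle hne
  have hq : 2 ≤ Fintype.card F := Fintype.one_lt_card
  generalize Nat.card (MulAction.fixedBy Ω (tq F z)) = c at *
  generalize Fintype.card F = q at *
  clear hΩ
  -- `q² + q + 1 + (q² - 1) c = r q²`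
  have hq2 : 1 ≤ q ^ 2 := Nat.one_le_pow _ _ (by omega)
  have h4 : q ^ 2 + q + 1 + q ^ 2 * c = r * q ^ 2 + c := by
    have : (q ^ 2 - 1) * c + c = q ^ 2 * c := by
      rw [← Nat.succ_mul]
      congr 1
      omega
    omega
  have h5 : (q + 1) % q ^ 2 = c % q ^ 2 := by
    have h6 : (q ^ 2 + q + 1 + q ^ 2 * c) % q ^ 2 = (r * q ^ 2 + c) % q ^ 2 := by rw [h4]
    rw [Nat.add_mul_mod_self_left, add_assoc, Nat.add_mod_left, Nat.add_comm (r * q ^ 2), Nat.add_mul_mod_self_right] at h6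
    exact h6
  have h6 : c < q ^ 2 + q + 1 := by omega
  rcases Nat.lt_or_ge c (q ^ 2) with h7 | h7
  · rw [Nat.mod_eq_of_lt h7] at h5
    rw [← h5]
    rcases Nat.lt_or_ge (q + 1) (q ^ 2) with h8 | h8
    · exact Nat.mod_eq_of_lt h8
    · exfalso
      nlinarith only [hq, h8]
  · exfalso
    obtain ⟨j, rfl⟩ : ∃ j, c = q ^ 2 + j := ⟨c - q ^ 2, by omega⟩
    have h9 : j < q + 1 := by omega
    have h10 : q + 1 < q ^ 2 ∨ q = 1 ∨ q + 1 ≥ q ^ 2 := by omega
    rw [Nat.add_mod_left, Nat.mod_eq_of_lt (by nlinarith only [hq, hle] : j < q ^ 2), Nat.mod_eq_of_lt (by nlinarith only [hq] : q + 1 < q ^ 2)] at h5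
    omega

end Cfsg.Agent.H42.Psl3
end

-- part: H42/Psl3/Dual
section
/-!
# Actions of `PSL₃(q)` on abelian groups with orbits of length `1` and `q² + q + 1` only are trivial (helper42)
-/

set_option autoImplicit false
set_option linter.style.haveILetI false

namespace Cfsg.Agent.H42.Psl3

open Matrix Cfsg

/-- the differences of a 2-transitive orbit, together with the identity, are closed under multiplication -/
theorem closed_of_quot {W : Type*} [CommGroup W] [DecidableEq W] {S : Type*} [Group S] [MulDistribMulAction S W]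
    (L D : Finset W) (hL : ∀ (g : S), ∀ x ∈ L, g • x ∈ L) (hD : ∀ a ∈ D, ∀ b ∈ D, ∃ g : S, g • a = b)
    (hquot : ∀ x ∈ L, ∀ y ∈ L, x ≠ y → y / x ∈ D) (hcard : D.card = L.card) (h3 : 3 ≤ L.card)
    (h1 : (1 : W) ∉ D) {a b : W} (ha : a ∈ D) (hb : b ∈ D) : a * b ∈ D ∨ a * b = 1 := by
  classical
  -- for a fixed element of `L` there is exactly one bad difference
  have hx : ∀ x ∈ L, (D.filter fun a => a * x ∉ L).card = 1 := by
    intro x hx
    have e1 : (D.filter fun a => a * x ∈ L) = (L.erase x).image (fun y => y / x) := by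
      ext a
      rw [Finset.mem_filter, Finset.mem_image]
      constructor
      · rintro ⟨h4, h5⟩
        refine ⟨a * x, Finset.mem_erase.2 ⟨?_, h5⟩, mul_div_cancel_right a x⟩
        intro h6
        apply h1
        rw [mul_eq_right] at h6
        rwa [← h6]
      · rintro ⟨y, hy, rfl⟩
        obtain ⟨h5, h6⟩ := Finset.mem_erase.1 hy
        exact ⟨hquot x hx y h6 (Ne.symm h5), by rwa [div_mul_cancel]⟩
    have e2 : (D.filter fun a => a * x ∈ L).card = L.card - 1 := by
      rw [e1, Finset.card_image_of_injective _ (fun y z h => div_left_injective h), Finset.card_erase_of_mem hx]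
    have e3 := Finset.card_filter_add_card_filter_not (s := D) (fun a => a * x ∈ L)
    omega
  have hinv : ∀ a ∈ D, ∀ b ∈ D, (L.filter fun x => a * x ∉ L).card = (L.filter fun x => b * x ∉ L).card := by
    have hle : ∀ a ∈ D, ∀ b ∈ D, (L.filter fun x => a * x ∉ L).card ≤ (L.filter fun x => b * x ∉ L).card := by
      intro a ha b hb
      obtain ⟨g, hg⟩ := hD a ha b hb
      refine Finset.card_le_card_of_injOn (fun x => g • x) ?_ (fun x _ y _ h => MulAction.injective g h)
      intro x hx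
      rw [Finset.mem_coe, Finset.mem_filter] at hx ⊢
      refine ⟨hL g x hx.1, fun h => hx.2 ?_⟩
      rw [← hg, ← smul_mul'] at h
      have := hL g⁻¹ _ h
      rwa [inv_smul_smul] at this
    exact fun a ha b hb => le_antisymm (hle a ha b hb) (hle b hb a ha)
  have hcount := Finset.sum_card_bipartiteAbove_eq_sum_card_bipartiteBelow (s := D) (t := L) (fun a x => a * x ∉ L)
  have hone : ∀ a ∈ D, (L.filter fun x => a * x ∉ L).card = 1 := by
    intro a ha
    have e1 : ∑ b ∈ L, (D.bipartiteBelow (fun a x => a * x ∉ L) b).card = L.card := by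
      refine (Finset.sum_congr rfl (g := fun _ => 1) fun x hx' => hx x hx').trans ?_
      rw [Finset.sum_const, smul_eq_mul, mul_one]
    have e2 : ∑ b ∈ D, (L.bipartiteAbove (fun a x => a * x ∉ L) b).card = D.card * (L.filter fun x => a * x ∉ L).card := by
      refine (Finset.sum_congr rfl (g := fun _ => (L.filter fun x => a * x ∉ L).card)
        fun b hb' => hinv b hb' a ha).trans ?_
      rw [Finset.sum_const, smul_eq_mul]
    rw [e1, e2, hcard] at hcount
    have : L.card * (L.filter fun x => a * x ∉ L).card = L.card * 1 := by rw [mul_one]; exact hcount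
    exact Nat.eq_of_mul_eq_mul_left (by omega) this
  -- a good element
  obtain ⟨x, hxL, hx1, hx2⟩ : ∃ x ∈ L, b * x ∈ L ∧ a * (b * x) ∈ L := by
    by_contra hcon
    push Not at hcon
    have h5 : L ⊆ (L.filter fun x => b * x ∉ L) ∪ (L.filter fun x => a * x ∉ L).image (fun y => b⁻¹ * y) := by
      intro x hx'
      rw [Finset.mem_union, Finset.mem_filter, Finset.mem_image]
      by_cases h6 : b * x ∈ L
      · right
        exact ⟨b * x, Finset.mem_filter.2 ⟨h6, hcon x hx' h6⟩, inv_mul_cancel_left b x⟩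
      · left
        exact ⟨hx', h6⟩
    have h6 := Finset.card_le_card h5
    have h7 := Finset.card_union_le (L.filter fun x => b * x ∉ L) ((L.filter fun x => a * x ∉ L).image (fun y => b⁻¹ * y))
    have h8 := Finset.card_image_le (s := L.filter fun x => a * x ∉ L) (f := fun y => b⁻¹ * y)
    have h9 := hone a ha
    have h10 := hone b hb
    omega
  by_cases h : x = a * (b * x)
  · right
    have : a * b * x = 1 * x := by rw [mul_assoc, ← h, one_mul]
    exact mul_right_cancel this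
  · left
    have h5 := hquot x hxL _ hx2 h
    rwa [← mul_assoc, mul_div_cancel_right] at h5

variable {F : Type*} [Field F] [Fintype F]

/-- **An action of `PSL₃(q)`, `q ≥ 3`, on a finite abelian group with orbits of length `1` and `q² + q + 1` only is
trivial.** -/
theorem trivial_of_orbits (hq : 3 ≤ Fintype.card F) {W : Type*} [CommGroup W] [Finite W]
    [MulDistribMulAction (ProjectiveSpecialLinearGroup (Fin 3) F) W]
    (horb : ∀ w : W, Nat.card (MulAction.orbit (ProjectiveSpecialLinearGroup (Fin 3) F) w) = 1 ∨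
      Nat.card (MulAction.orbit (ProjectiveSpecialLinearGroup (Fin 3) F) w) = Fintype.card F ^ 2 + Fintype.card F + 1)
    (s : ProjectiveSpecialLinearGroup (Fin 3) F) (w : W) : s • w = w := by
  classical
  have := psl_finite (F := F)
  letI := Fintype.ofFinite (ProjectiveSpecialLinearGroup (Fin 3) F)
  have fix_of_one : ∀ w : W, Nat.card (MulAction.orbit (ProjectiveSpecialLinearGroup (Fin 3) F) w) = 1 →
      ∀ s : ProjectiveSpecialLinearGroup (Fin 3) F, s • w = w := by
    intro w h s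
    rw [Nat.card_eq_one_iff_unique] at h
    obtain ⟨h1, -⟩ := h
    exact congrArg Subtype.val (h1.elim ⟨s • w, MulAction.mem_orbit _ _⟩ ⟨w, MulAction.mem_orbit_self _⟩)
  rcases horb w with h | h
  · exact fix_of_one w h s
  exfalso
  letI : Fintype W := Fintype.ofFinite W
  set n := Fintype.card F ^ 2 + Fintype.card F + 1 with hn
  have hn3 : 3 ≤ n := by linarith only [hq, hn, _root_.sq_nonneg (↑(Fintype.card F) : ℤ)]
  -- the orbit is 2-transitive
  have h2t := (two_trans (S := ProjectiveSpecialLinearGroup (Fin 3) F)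
    (Ω := MulAction.orbit (ProjectiveSpecialLinearGroup (Fin 3) F) w) (k := Fintype.card F ^ 2 - 1)
    (by rw [h]; omega) (by
      rw [h, hn]
      have : Fintype.card F ^ 2 ≥ 3 * Fintype.card F := by nlinarith only [hq]
      omega) (fun χ hχ h1 => psl_min_degree hχ h1)).1
  rw [MulAction.is_two_pretransitive_iff] at h2t
  have h2 : ∀ a ∈ MulAction.orbit (ProjectiveSpecialLinearGroup (Fin 3) F) w,
      ∀ b ∈ MulAction.orbit (ProjectiveSpecialLinearGroup (Fin 3) F) w,
      ∀ c ∈ MulAction.orbit (ProjectiveSpecialLinearGroup (Fin 3) F) w,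
      ∀ d ∈ MulAction.orbit (ProjectiveSpecialLinearGroup (Fin 3) F) w, a ≠ b → c ≠ d →
      ∃ g : ProjectiveSpecialLinearGroup (Fin 3) F, g • a = c ∧ g • b = d := by
    intro a ha b hb c hc d hd hab hcd
    obtain ⟨g, hg1, hg2⟩ := @h2t ⟨a, ha⟩ ⟨b, hb⟩ ⟨c, hc⟩ ⟨d, hd⟩ (fun h => hab (congrArg Subtype.val h))
      (fun h => hcd (congrArg Subtype.val h))
    exact ⟨g, congrArg Subtype.val hg1, congrArg Subtype.val hg2⟩
  set L : Finset W := (MulAction.orbit (ProjectiveSpecialLinearGroup (Fin 3) F) w).toFinset with hL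
  have hLm : ∀ x, x ∈ L ↔ x ∈ MulAction.orbit (ProjectiveSpecialLinearGroup (Fin 3) F) w := fun x => Set.mem_toFinset
  have hLc : L.card = n := by
    rw [hL, Set.toFinset_card, ← Nat.card_eq_fintype_card, h]
  obtain ⟨x₁, hx₁, x₂, hx₂, h12⟩ : ∃ x₁ ∈ L, ∃ x₂ ∈ L, x₁ ≠ x₂ := by
    have : 1 < L.card := by omega
    rw [Finset.one_lt_card] at this
    obtain ⟨a, ha, b, hb, hab⟩ := this
    exact ⟨a, ha, b, hb, hab⟩
  set δ := x₂ / x₁ with hδ
  have hδ1 : δ ≠ 1 := by
    rw [hδ, Ne, div_eq_one]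
    exact Ne.symm h12
  set D : Finset W := (MulAction.orbit (ProjectiveSpecialLinearGroup (Fin 3) F) δ).toFinset with hD
  have hDm : ∀ x, x ∈ D ↔ x ∈ MulAction.orbit (ProjectiveSpecialLinearGroup (Fin 3) F) δ := fun x => Set.mem_toFinset
  have hquot : ∀ x ∈ L, ∀ y ∈ L, x ≠ y → y / x ∈ D := by
    intro x hx y hy hxy
    obtain ⟨g, hg1, hg2⟩ := h2 x₁ ((hLm _).1 hx₁) x₂ ((hLm _).1 hx₂) x ((hLm _).1 hx) y ((hLm _).1 hy) h12 hxy
    rw [hDm]
    refine ⟨g, ?_⟩
    change g • δ = _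
    rw [hδ, smul_div', hg1, hg2]
  have hform : ∀ a ∈ D, ∃ x ∈ L, ∃ y ∈ L, x ≠ y ∧ a = y / x := by
    intro a ha
    obtain ⟨g, hg⟩ := (hDm a).1 ha
    refine ⟨g • x₁, ?_, g • x₂, ?_, fun h => h12 (MulAction.injective g h), ?_⟩
    · rw [hLm]
      obtain ⟨k, hk⟩ := (hLm _).1 hx₁
      exact ⟨g * k, by rw [← hk]; exact mul_smul g k w⟩
    · rw [hLm]
      obtain ⟨k, hk⟩ := (hLm _).1 hx₂
      exact ⟨g * k, by rw [← hk]; exact mul_smul g k w⟩
    · rw [← hg, hδ]
      exact smul_div' g x₂ x₁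
  have hDc : D.card = n := by
    rcases horb δ with h5 | h5
    · exfalso
      have h6 := fix_of_one δ h5
      obtain ⟨x₃, hx₃, h13, h23⟩ : ∃ x₃ ∈ L, x₃ ≠ x₁ ∧ x₃ ≠ x₂ := by
        by_contra hcon
        push Not at hcon
        have h7 : L ⊆ {x₁, x₂} := by
          intro x hx
          rw [Finset.mem_insert, Finset.mem_singleton]
          by_cases h8 : x = x₁
          · exact Or.inl h8
          · exact Or.inr (hcon x hx h8)
        have := Finset.card_le_card h7
        have := Finset.card_le_two (a := x₁) (b := x₂)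
        omega
      have h7 := hquot x₁ hx₁ x₃ hx₃ (Ne.symm h13)
      obtain ⟨g, hg⟩ := (hDm _).1 h7
      have h8 : g • δ = x₃ / x₁ := hg
      rw [h6 g, hδ, div_left_inj] at h8
      exact h23 h8.symm
    · rw [hD, Set.toFinset_card, ← Nat.card_eq_fintype_card, h5]
  have h1D : (1 : W) ∉ D := by
    intro h5
    obtain ⟨g, hg⟩ := (hDm _).1 h5
    have h6 : g • δ = 1 := hg
    apply hδ1
    have := congrArg (fun x => g⁻¹ • x) h6
    simpa using this
  have hDtrans : ∀ a ∈ D, ∀ b ∈ D, ∃ g : ProjectiveSpecialLinearGroup (Fin 3) F, g • a = b := by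
    intro a ha b hb
    obtain ⟨g, hg⟩ := (hDm _).1 ha
    obtain ⟨k, hk⟩ := (hDm _).1 hb
    have hg' : g • δ = a := hg
    have hk' : k • δ = b := hk
    exact ⟨k * g⁻¹, by rw [← hg', ← hk', mul_smul, inv_smul_smul]⟩
  have hLinv : ∀ (g : ProjectiveSpecialLinearGroup (Fin 3) F), ∀ x ∈ L, g • x ∈ L := by
    intro g x hx
    rw [hLm] at hx ⊢
    obtain ⟨k, hk⟩ := hx
    exact ⟨g * k, by rw [← hk]; exact mul_smul g k w⟩
  have hclosed : ∀ a ∈ D, ∀ b ∈ D, a * b ∈ D ∨ a * b = 1 := fun a ha b hb =>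
    closed_of_quot L D hLinv hDtrans hquot (hDc.trans hLc.symm) (by omega) h1D ha hb
  let T : Subgroup W :=
    { carrier := {a | a = 1 ∨ a ∈ D}
      one_mem' := Or.inl rfl
      mul_mem' := by
        rintro a b (rfl | ha) (rfl | hb)
        · exact Or.inl (mul_one 1)
        · right; rwa [one_mul]
        · right; rwa [mul_one]
        · exact (hclosed a ha b hb).symm
      inv_mem' := by
        rintro a (rfl | ha)
        · exact Or.inl inv_one
        · right
          obtain ⟨x, hx, y, hy, hxy, rfl⟩ := hform a ha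
          rw [inv_div]
          exact hquot y hy x hx (Ne.symm hxy) }
  obtain ⟨z, hz⟩ : ∃ z : Multiplicative (F × F), z ≠ 1 := by
    refine ⟨Multiplicative.ofAdd ((1, 0) : F × F), fun h => ?_⟩
    have := congrArg (fun z => (Multiplicative.toAdd z).1) h
    exact one_ne_zero this
  let T' : Subgroup W :=
    { carrier := {a | a ∈ T ∧ tq F z • a = a}
      one_mem' := ⟨T.one_mem, smul_one _⟩
      mul_mem' := by
        rintro a b ⟨ha, ha'⟩ ⟨hb, hb'⟩
        exact ⟨T.mul_mem ha hb, by rw [smul_mul', ha', hb']⟩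
      inv_mem' := by
        rintro a ⟨ha, ha'⟩
        exact ⟨T.inv_mem ha, by rw [smul_inv', ha']⟩ }
  have hdvd : Nat.card T' ∣ Nat.card T := Subgroup.card_dvd_of_le (fun a ha => ha.1)
  have hTc : Nat.card T = n + 1 := by
    have e1 : (T : Set W) = ((insert 1 D : Finset W) : Set W) := by
      ext a
      rw [Finset.mem_coe, Finset.mem_insert]
      exact Iff.rfl
    change Nat.card (T : Set W) = _
    rw [e1, Nat.card_coe_set_eq, Set.ncard_coe_finset, Finset.card_insert_of_notMem h1D, hDc]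
  have hT'c : Nat.card T' = Fintype.card F + 2 := by
    have e1 : (T' : Set W) = ((insert 1 (D.filter fun a => tq F z • a = a) : Finset W) : Set W) := by
      ext a
      rw [Finset.mem_coe, Finset.mem_insert, Finset.mem_filter]
      constructor
      · rintro ⟨h5 | h5, h6⟩
        · exact Or.inl h5
        · exact Or.inr ⟨h5, h6⟩
      · rintro (rfl | h5)
        · exact T'.one_mem
        · exact ⟨Or.inr h5.1, h5.2⟩
    change Nat.card (T' : Set W) = _
    rw [e1, Nat.card_coe_set_eq, Set.ncard_coe_finset, Finset.card_insert_of_notMem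
      (fun h => h1D (Finset.mem_filter.1 h).1)]
    have h5 := card_fixedBy_tq (F := F) (MulAction.orbit (ProjectiveSpecialLinearGroup (Fin 3) F) δ) (by
      rw [← hn, ← hDc, hD, Set.toFinset_card, Nat.card_eq_fintype_card]) hz
    have h6 : (D.filter fun a => tq F z • a = a).card = Nat.card (MulAction.fixedBy
        (MulAction.orbit (ProjectiveSpecialLinearGroup (Fin 3) F) δ) (tq F z)) := by
      rw [← Fintype.card_coe, ← Nat.card_eq_fintype_card]
      refine Nat.card_congr ⟨fun a => ⟨⟨a, (hDm _).1 (Finset.mem_filter.1 a.2).1⟩,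
        Subtype.ext (Finset.mem_filter.1 a.2).2⟩, fun a => ⟨(a.1 : W), Finset.mem_filter.2
          ⟨(hDm _).2 a.1.2, congrArg Subtype.val a.2⟩⟩, fun a => rfl, fun a => rfl⟩
    rw [h6, h5]
  rw [hTc, hT'c, hn] at hdvd
  obtain ⟨t, ht⟩ : ∃ t, Fintype.card F = t + 3 := ⟨Fintype.card F - 3, by (clear * - hq; omega)⟩
  rw [ht] at hdvd
  have h5 : (t + 3) ^ 2 + (t + 3) + 1 + 1 = (t + 3 + 2) * (t + 2) + 4 := by ring
  rw [h5, Nat.dvd_add_right (Dvd.intro _ rfl)] at hdvd
  have := Nat.le_of_dvd (by norm_num) hdvd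
  (clear * - this; omega)

end Cfsg.Agent.H42.Psl3
end

-- part: H42/Psl3/Arith
section
/-!
# Arithmetic for `central_of_psl3` (helper42)
-/

set_option autoImplicit false

namespace Cfsg.Agent.H42.Psl3

open Cfsg.Agent.H691.T3

/-- the large degrees -/
theorem dt_cases {q D : ℕ} (hq : 3 ≤ q) (hD : D ∈ DT q) :
    D ≤ (q - 1) * (q ^ 2 + q + 1) ∨ D = q ^ 3 ∨ D = q * (q ^ 2 + q + 1) ∨
      (5 ≤ q ∧ D = (q + 1) * (q ^ 2 + q + 1)) := by
  obtain ⟨t, rfl⟩ : ∃ t, q = t + 3 := ⟨q - 3, by omega⟩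
  have e1 : t + 3 - 1 = t + 2 := by omega
  rw [e1]
  have hP : (t + 3) ^ 3 = (t + 2) * ((t + 3) ^ 2 + (t + 3) + 1) + 1 := by ring
  rcases hD with h | h | h | h | h | ⟨_, h | h⟩ | ⟨h5, h⟩ | ⟨_, h | h⟩
  · left; rw [h]; nlinarith only []
  · left; rw [h]; nlinarith only []
  · exact Or.inr (Or.inl h)
  · left; omega
  · left; rw [h, e1]; linarith only [_root_.sq_nonneg (↑t + 2 : ℤ), _root_.Nat.cast_nonneg (α := ℤ) (t)]
  · left; rw [h]; nlinarith only []
  · exact Or.inr (Or.inr (Or.inl h))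
  · exact Or.inr (Or.inr (Or.inr ⟨h5, h⟩))
  · left
    have : 3 * D ≤ 3 * ((t + 2) * ((t + 3) ^ 2 + (t + 3) + 1)) := by rw [h]; nlinarith only []
    omega
  · left
    rw [e1] at h
    have : 3 * D ≤ 3 * ((t + 2) * ((t + 3) ^ 2 + (t + 3) + 1)) := by rw [h]; linarith only [h, _root_.sq_nonneg (↑t + 2 : ℤ), _root_.Nat.cast_nonneg (α := ℤ) (t), _root_.Nat.cast_nonneg (α := ℤ) (D)]
    omega

theorem arith_orbit {q D i m t : ℕ} (hq : 3 ≤ q) (hD : D ∈ DT q) (hD0 : 0 < D) (hi : q ^ 2 + q + 1 ≤ i) (hdvd : i ∣ D)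
    (hle : i * (m * t) ≤ D) (ht : 1 ≤ t) (hm : (q ^ 2 - 1) * (q ^ 2 + q + 1) ≤ m ^ 2 * i) :
    t = 1 ∧ (i = q ^ 2 + q + 1 ∨ (q = 7 ∧ i = 76)) := by
  obtain ⟨u, hu⟩ := hdvd
  set n := q ^ 2 + q + 1 with hn
  have hi0 : 0 < i := by omega
  -- `(q² - 1) n t² ≤ D u`
  have h1 : (q ^ 2 - 1) * n * t ^ 2 ≤ D * u := by
    have e1 : i * ((q ^ 2 - 1) * n * t ^ 2) ≤ i * (m ^ 2 * i * t ^ 2) :=
      Nat.mul_le_mul_left _ (Nat.mul_le_mul_right _ hm)
    have e2 : i * (m ^ 2 * i * t ^ 2) = (i * (m * t)) ^ 2 := by ring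
    have e3 : (i * (m * t)) ^ 2 ≤ D ^ 2 := Nat.pow_le_pow_left hle 2
    have e4 : D ^ 2 = i * (D * u) := by rw [sq]; nth_rw 1 [hu]; ring
    rw [e2] at e1
    exact Nat.le_of_mul_le_mul_left ((e1.trans e3).trans (le_of_eq e4)) hi0
  have h2 : u * n ≤ D := by
    rw [hu, mul_comm]
    exact Nat.mul_le_mul_right _ hi
  have hu0 : 0 < u := by
    rw [Nat.pos_iff_ne_zero]
    rintro rfl
    rw [mul_zero] at hu
    omega
  obtain ⟨s, hs⟩ : ∃ s, q = s + 3 := ⟨q - 3, by omega⟩
  have hq2 : q ^ 2 - 1 = (s + 2) * (s + 4) := by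
    have : q ^ 2 = (s + 2) * (s + 4) + 1 := by rw [hs]; ring
    omega
  have hn' : n = s ^ 2 + 7 * s + 13 := by rw [hn, hs]; ring
  have hn0 : 0 < n := by omega
  have ht2 : 1 ≤ t ^ 2 := Nat.one_le_pow _ _ ht
  rw [hq2] at h1
  have h3 : (s + 2) * (s + 4) * n ≤ D * u :=
    le_trans (by nlinarith only [ht2, Nat.zero_le ((s + 2) * (s + 4) * n)]) h1
  have hcs := dt_cases hq hD
  rw [← hn] at hcs
  rcases hcs with h | h | h | ⟨h5, h⟩
  · exfalso
    have e1 : q - 1 = s + 2 := by omega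
    rw [e1] at h
    have e2 : u ≤ s + 2 := Nat.le_of_mul_le_mul_right (h2.trans h) hn0
    have e3 : D * u ≤ (s + 2) * n * (s + 2) := Nat.mul_le_mul h e2
    have e4 : (s + 2) * (s + 4) * n ≤ (s + 2) * n * (s + 2) := h3.trans e3
    have e5 : (s + 2) * n * (s + 2) + 2 * ((s + 2) * n) = (s + 2) * (s + 4) * n := by ring
    have e6 : 0 < (s + 2) * n := Nat.mul_pos (by omega) hn0
    omega
  · exfalso
    have e1 : u ≤ s + 2 := by
      by_contra hcon
      have e2 : (s + 3) * n ≤ u * n := Nat.mul_le_mul_right _ (by omega)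
      rw [h, hs] at h2
      rw [hn'] at e2 h2
      linarith only [h2, e2, _root_.sq_nonneg (↑s : ℤ), _root_.Nat.cast_nonneg (α := ℤ) (s)]
    have e2 : D * u ≤ (s + 3) ^ 3 * (s + 2) := by
      rw [h, hs]
      exact Nat.mul_le_mul_left _ e1
    rw [hn'] at h3
    nlinarith only [h3, e2]
  · have e1 : u ≤ s + 3 := by
      rw [h, hs] at h2
      exact Nat.le_of_mul_le_mul_right h2 hn0
    have e2 : (s + 2) * (s + 4) * t ^ 2 ≤ (s + 3) * u := by
      have : (s + 2) * (s + 4) * t ^ 2 * n ≤ (s + 3) * u * n := by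
        calc (s + 2) * (s + 4) * t ^ 2 * n = (s + 2) * (s + 4) * n * t ^ 2 := by ring
          _ ≤ D * u := h1
          _ = _ := by rw [h, hs]; ring
      exact Nat.le_of_mul_le_mul_right this hn0
    have ht1 : t = 1 := by
      by_contra hne
      have e3 : 4 ≤ t ^ 2 := by
        have : 2 ^ 2 ≤ t ^ 2 := Nat.pow_le_pow_left (by omega) 2
        omega
      linarith only [e2, Nat.mul_le_mul_left ((s + 2) * (s + 4)) e3, Nat.mul_le_mul_left (s + 3) e1, _root_.sq_nonneg (↑s : ℤ), _root_.Nat.cast_nonneg (α := ℤ) (s)]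
    have hu3 : u = s + 3 := by
      by_contra hne
      have e3 : u ≤ s + 2 := by omega
      rw [ht1] at e2
      linarith only [e2, Nat.mul_le_mul_left (s + 3) e3]
    refine ⟨ht1, Or.inl ?_⟩
    rw [h, hu3, hs, mul_comm] at hu
    exact (Nat.eq_of_mul_eq_mul_right (by omega) hu).symm
  · have e1 : u ≤ s + 4 := by
      rw [h, hs] at h2
      exact Nat.le_of_mul_le_mul_right h2 hn0
    have e2 : (s + 2) * t ^ 2 ≤ u := by
      have : (s + 2) * t ^ 2 * ((s + 4) * n) ≤ u * ((s + 4) * n) := by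
        calc (s + 2) * t ^ 2 * ((s + 4) * n) = (s + 2) * (s + 4) * n * t ^ 2 := by ring
          _ ≤ D * u := h1
          _ = _ := by rw [h, hs]; ring
      exact Nat.le_of_mul_le_mul_right this (Nat.mul_pos (by omega) hn0)
    have ht1 : t = 1 := by
      by_contra hne
      have e3 : 4 ≤ t ^ 2 := by
        have : 2 ^ 2 ≤ t ^ 2 := Nat.pow_le_pow_left (by omega) 2
        omega
      linarith only [e1, e2, Nat.mul_le_mul_left (s + 2) e3]
    refine ⟨ht1, ?_⟩
    rw [ht1, one_pow, mul_one] at e2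
    have hcase : u = s + 4 ∨ u = s + 3 ∨ u = s + 2 := by omega
    rcases hcase with hu4 | hu4 | hu4
    · left
      rw [h, hu4, hs, mul_comm] at hu
      exact (Nat.eq_of_mul_eq_mul_right (by omega) hu).symm
    · exfalso
      rw [h, hu4, hs, hn'] at hu
      have e3 : (s + 3 + 1) * (s ^ 2 + 7 * s + 13) = (s ^ 2 + 8 * s + 17) * (s + 3) + 1 := by ring
      rw [e3] at hu
      have e4 : (s + 3) ∣ 1 := by
        rw [← Nat.dvd_add_right (Dvd.intro_left (s ^ 2 + 8 * s + 17) rfl), hu]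
        exact Dvd.intro_left _ rfl
      have := Nat.le_of_dvd one_pos e4
      omega
    · right
      rw [h, hu4, hs, hn'] at hu
      have e3 : (s + 3 + 1) * (s ^ 2 + 7 * s + 13) = (s ^ 2 + 9 * s + 23) * (s + 2) + 6 := by ring
      rw [e3] at hu
      have e4 : (s + 2) ∣ 6 := by
        rw [← Nat.dvd_add_right (Dvd.intro_left (s ^ 2 + 9 * s + 23) rfl), hu]
        exact Dvd.intro_left _ rfl
      have e5 := Nat.le_of_dvd (by norm_num) e4
      have e6 : s = 2 ∨ s = 3 ∨ s = 4 := by omega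
      rcases e6 with rfl | rfl | rfl
      · exact absurd e4 (by decide)
      · exact absurd e4 (by decide)
      · exact ⟨hs, by omega⟩

/-- the largest degree -/
theorem dt_le {q D : ℕ} (hq : 3 ≤ q) (hD : D ∈ DT q) :
    D ≤ (q + 1) * (q ^ 2 + q + 1) ∧ (q ≤ 4 → D ≤ q * (q ^ 2 + q + 1)) := by
  rcases dt_cases hq hD with h | h | h | ⟨h5, h⟩
  · have e : (q - 1) * (q ^ 2 + q + 1) ≤ q * (q ^ 2 + q + 1) := Nat.mul_le_mul_right _ (by omega)
    have e' : q * (q ^ 2 + q + 1) ≤ (q + 1) * (q ^ 2 + q + 1) := Nat.mul_le_mul_right _ (by omega)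
    exact ⟨by omega, fun _ => by omega⟩
  · rw [h]
    exact ⟨by linarith only [_root_.sq_nonneg (↑q : ℤ)], fun _ => by linarith only [_root_.sq_nonneg (↑q : ℤ)]⟩
  · rw [h]
    exact ⟨Nat.mul_le_mul_right _ (by omega), fun _ => le_rfl⟩
  · rw [h]
    exact ⟨le_rfl, fun h4 => by omega⟩

/-- the squares of the multiplicities are too small for a non-linear invariant character -/
theorem arith_inv {q d N k : ℕ} (hq : 3 ≤ q) (hd : d = Nat.gcd 3 (q - 1)) (hN : d * N = q ^ 3 * (q ^ 2 - 1) * (q ^ 3 - 1))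
    (hk : d * k ≤ q ^ 2 + q + 10) (hk1 : d = 1 → k ≤ q ^ 2 + q) {M : ℕ}
    (hM : M ≤ (q + 1) * (q ^ 2 + q + 1) ∧ (q ≤ 4 → M ≤ q * (q ^ 2 + q + 1))) (h : 4 * N ≤ k * M ^ 2) : False := by
  have hq' : q = 3 ∨ q = 4 ∨ 5 ≤ q := by omega
  rcases hq' with rfl | rfl | h5
  · have hd1 : d = 1 := by rw [hd]; decide
    have e1 := hM.2 (by omega)
    have e2 := hk1 hd1
    rw [hd1] at hN
    norm_num at hN e1 e2
    have e3 : k * M ^ 2 ≤ 12 * 39 ^ 2 := Nat.mul_le_mul e2 (Nat.pow_le_pow_left e1 2)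
    omega
  · have hd1 : d = 3 := by rw [hd]; decide
    have e1 := hM.2 (by omega)
    rw [hd1] at hN hk
    norm_num at hN e1 hk
    have e3 : k * M ^ 2 ≤ 10 * 84 ^ 2 := Nat.mul_le_mul (by omega) (Nat.pow_le_pow_left e1 2)
    omega
  · obtain ⟨s, hs⟩ : ∃ s, q = s + 5 := ⟨q - 5, by omega⟩
    have e1 : M ^ 2 ≤ ((q + 1) * (q ^ 2 + q + 1)) ^ 2 := Nat.pow_le_pow_left hM.1 2
    have e2 : 4 * (d * N) ≤ (q ^ 2 + q + 10) * ((q + 1) * (q ^ 2 + q + 1)) ^ 2 := by
      calc 4 * (d * N) = d * (4 * N) := by ring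
        _ ≤ d * (k * M ^ 2) := Nat.mul_le_mul_left _ h
        _ = (d * k) * M ^ 2 := by ring
        _ ≤ _ := Nat.mul_le_mul hk e1
    rw [hN] at e2
    have e3 : q ^ 2 - 1 = (s + 4) * (s + 6) := by
      have : q ^ 2 = (s + 4) * (s + 6) + 1 := by rw [hs]; ring
      omega
    have e4 : q ^ 3 - 1 = (s + 4) * (s ^ 2 + 11 * s + 31) := by
      have : q ^ 3 = (s + 4) * (s ^ 2 + 11 * s + 31) + 1 := by rw [hs]; ring
      omega
    have e5 : q ^ 2 + q + 1 = s ^ 2 + 11 * s + 31 := by rw [hs]; ring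
    rw [e3, e4, e5, hs] at e2
    have e6 : 4 * ((s + 5) ^ 3 * ((s + 4) * (s + 6)) * ((s + 4) * (s ^ 2 + 11 * s + 31))) =
        ((s + 6) * (s ^ 2 + 11 * s + 31)) * (4 * (s + 5) ^ 3 * (s + 4) ^ 2) := by ring
    have e7 : ((s + 5) ^ 2 + (s + 5) + 10) * ((s + 5 + 1) * (s ^ 2 + 11 * s + 31)) ^ 2 =
        ((s + 6) * (s ^ 2 + 11 * s + 31)) * (((s + 5) ^ 2 + (s + 5) + 10) * ((s + 6) * (s ^ 2 + 11 * s + 31))) := by ring
    rw [e6, e7] at e2
    have e8 := Nat.le_of_mul_le_mul_left e2 (by (clear * -; positivity))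
    linarith only [e8, Nat.zero_le (s ^ 5), Nat.zero_le (s ^ 4), Nat.zero_le (s ^ 3), _root_.sq_nonneg (↑s : ℤ), _root_.Nat.cast_nonneg (α := ℤ) (s)]

end Cfsg.Agent.H42.Psl3
end

-- part: H42/Psl3/Main
section
/-!
# `R` is central when `N / R ≅ PSL₃(q)` and the degrees of `G` are degrees of `SL₃(q)` (helper42)
-/

set_option autoImplicit false
set_option linter.style.haveILetI false

namespace Cfsg.Agent.H42.Psl3

open Cfsg Matrix Cfsg.Agent.H691 Cfsg.Agent.H691.T3 Cfsg.Agent.Characters.Core Cfsg.Agent.Characters.Clifford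
  Cfsg.Agent.H672 Cfsg.Agent.H669 Cfsg.Agent.H669.SlTwoE

universe u

variable {H : Type u} [Group H] [Finite H] {F : Type*} [Field F] [Fintype F]

/-- the map onto `PSL₃(q)` -/
def pp (R : Subgroup H) [R.Normal] (e : (H ⧸ R) ≃* ProjectiveSpecialLinearGroup (Fin 3) F) :
    H →* ProjectiveSpecialLinearGroup (Fin 3) F := e.toMonoidHom.comp (QuotientGroup.mk' R)

omit [Finite H] [Fintype F] in
theorem pp_surjective (R : Subgroup H) [R.Normal] (e : (H ⧸ R) ≃* ProjectiveSpecialLinearGroup (Fin 3) F) :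
    Function.Surjective (pp R e) := e.surjective.comp (QuotientGroup.mk'_surjective R)

omit [Finite H] [Fintype F] in
theorem ker_pp (R : Subgroup H) [R.Normal] (e : (H ⧸ R) ≃* ProjectiveSpecialLinearGroup (Fin 3) F) :
    (pp R e).ker = R := by
  ext x
  rw [MonoidHom.mem_ker, pp]
  change e (QuotientGroup.mk x) = 1 ↔ _
  rw [map_eq_one_iff e e.injective, QuotientGroup.eq_one_iff]

/-- **(E1)** an irreducible character of `R` is invariant, or linear with `q² + q + 1` conjugates. -/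
theorem inertia_cases (h3 : 3 ≤ Fintype.card F)
    (hD : ∀ η : H → ℂ, IsIrrCharacter H η → ∃ D ∈ DT (Fintype.card F), charDegree η ∣ D ∧ 0 < D) (R : Subgroup H)
    [R.Normal] (e : (H ⧸ R) ≃* ProjectiveSpecialLinearGroup (Fin 3) F) {θ : R → ℂ}
    (hθ : IsIrrCharacter R θ) : inertia R θ = ⊤ ∨
      (charDegree θ = 1 ∧ (inertia R θ).index = Fintype.card F ^ 2 + Fintype.card F + 1) := by
  classical
  have hfin := psl_finite (F := F)
  letI := Fintype.ofFinite H
  letI := Fintype.ofFinite R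
  rw [or_iff_not_imp_left]
  intro hne
  set I := inertia R θ with hI
  have hRI : R ≤ I := le_inertia (isIrr_isClassFunction hθ)
  have hidx : (I.map (pp R e)).index = I.index :=
    Subgroup.index_map_eq _ (pp_surjective R e) (by rw [ker_pp]; exact hRI)
  have hAne : I.map (pp R e) ≠ ⊤ := by
    intro h
    apply hne
    rw [← Subgroup.index_eq_one, ← hidx, h, Subgroup.index_top]
  have hn : Fintype.card F ^ 2 + Fintype.card F + 1 ≤ I.index := by
    have h1 := (S2140.result (F := F) rfl 3 le_rfl (by omega)).1 _ hAne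
    rw [hidx] at h1
    refine le_trans (le_of_eq ?_) h1
    have h2 : Fintype.card F ^ 3 - 1 = (Fintype.card F - 1) * (Fintype.card F ^ 2 + Fintype.card F + 1) := by
      obtain ⟨t, ht⟩ : ∃ t, Fintype.card F = t + 1 := ⟨Fintype.card F - 1, by omega⟩
      rw [ht, Nat.add_sub_cancel]
      have : (t + 1) ^ 3 = t * ((t + 1) ^ 2 + (t + 1) + 1) + 1 := by ring
      omega
    rw [h2]
    exact (Nat.mul_div_cancel_left _ (by omega)).symm
  -- inside `I`
  letI := Fintype.ofFinite I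
  set M : Subgroup I := R.subgroupOf I with hM
  letI := Fintype.ofFinite M
  let ε : M ≃* R := Subgroup.subgroupOfEquivOfLe hRI
  set θ' : M → ℂ := θ ∘ ε with hθ'
  have hθ'i : IsIrrCharacter M θ' := isIrr_comp ε.toMonoidHom ε.surjective hθ
  have hinv' : ∀ (g : I) (n : M), θ' ⟨g * n * g⁻¹, (inferInstance : M.Normal).conj_mem (n : I) n.2 g⟩ = θ' n := by
    intro g n
    exact (mem_inertia_iff.1 g.2) (ε n)
  haveI := finite_irr (G := I)
  letI := Fintype.ofFinite (IrrCharacter I)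
  obtain ⟨m, hm, hmdeg, hmsum⟩ := OverCount.sum_sq_over M hθ'i hinv'
  have hcount := OverCount.card_over_le M hθ'i hinv'
  -- a character with the largest multiplicity
  haveI : Nonempty (IrrCharacter I) := ⟨⟨1, isIrr_one⟩⟩
  obtain ⟨ξ, hξ⟩ := Finite.exists_max m
  have hbound : M.index ≤ Nat.card (ConjClasses (I ⧸ M)) * m ξ ^ 2 := by
    rw [← hmsum]
    refine le_trans ?_ (Nat.mul_le_mul_right _ hcount)
    rw [Nat.card_eq_fintype_card, Fintype.card_subtype, Finset.card_filter, Finset.sum_mul]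
    refine Finset.sum_le_sum fun ζ _ => ?_
    rw [hm ζ]
    by_cases h0 : m ζ = 0
    · rw [h0]; simp
    · have h7 : ((m ζ : ℂ) ≠ 0) := by exact_mod_cast h0
      rw [if_pos h7, one_mul]
      exact Nat.pow_le_pow_left (hξ ζ) 2
  have hmpos : m ξ ≠ 0 := by
    intro h0
    rw [h0, zero_pow two_ne_zero, mul_zero] at hbound
    have : M.index ≠ 0 := Subgroup.index_ne_zero_of_finite
    omega
  obtain ⟨η, hη, hoη⟩ := exists_over_subtype I ξ.2
  obtain ⟨b, hb⟩ := classInner_isNat (isCharacter_comp (I.subtype.comp M.subtype) (isIrr_isCharacter hη))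
    (isIrr_isCharacter hθ'i)
  have hab := mult_mono I.subtype M.subtype (isIrr_isCharacter hη) ξ.2 hoη hθ'i
    (a := m ξ) (b := b) (hm ξ) hb
  have hb' : classInner (fun r : R => η r) θ = b := by
    rw [← hb]
    exact (classInner_comp_mulEquiv ε (fun r : R => η r) θ).symm
  have hoη' : Over R.subtype η θ := by
    rw [over_subtype_iff, hb']
    have : b ≠ 0 := by omega
    exact_mod_cast this
  have hdeg := CharDeep.CliffordCorr.index_mul_le_degree R hθ I (fun g => mem_inertia_iff)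
      (isIrr_isCharacter hη) hb' (coe_charDegree hθ).symm (coe_charDegree hη).symm
  have hdvd := index_mul_charDegree_dvd R hη hθ hoη'
  rw [← hI] at hdvd
  obtain ⟨D, hDD, hηD, hD0⟩ := hD η hη
  -- the orders
  have hkle := classes_sub (F := F) (A := I ⧸ M) (QuotientGroup.lift M ((pp R e).comp I.subtype) (by
    intro x hx
    rw [MonoidHom.mem_ker]
    change pp R e (x : H) = 1
    rw [← MonoidHom.mem_ker, ker_pp]
    exact hx)) (by
    rw [injective_iff_map_eq_one]
    intro x hx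
    obtain ⟨y, rfl⟩ := QuotientGroup.mk_surjective x
    rw [QuotientGroup.lift_mk, MonoidHom.comp_apply, ← MonoidHom.mem_ker, ker_pp] at hx
    rw [QuotientGroup.eq_one_iff]
    exact hx)
  have hord : M.index * I.index = Nat.card (ProjectiveSpecialLinearGroup (Fin 3) F) := by
    rw [← Nat.card_congr e.toEquiv, ← Subgroup.index_eq_card]
    exact Subgroup.relIndex_mul_index hRI
  have hpsl := card_psl (F := F)
  have hmain : (Fintype.card F ^ 2 - 1) * (Fintype.card F ^ 2 + Fintype.card F + 1) ≤ m ξ ^ 2 * I.index := by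
    have e1 : Nat.gcd 3 (Fintype.card F - 1) * (M.index * I.index) ≤
        (Fintype.card F - 1) * Fintype.card F ^ 3 * (m ξ ^ 2 * I.index) := by
      calc Nat.gcd 3 (Fintype.card F - 1) * (M.index * I.index)
          ≤ Nat.gcd 3 (Fintype.card F - 1) * (Nat.card (ConjClasses (I ⧸ M)) * m ξ ^ 2 * I.index) :=
            Nat.mul_le_mul_left _ (Nat.mul_le_mul_right _ hbound)
        _ = (Nat.gcd 3 (Fintype.card F - 1) * Nat.card (ConjClasses (I ⧸ M))) * (m ξ ^ 2 * I.index) := by ring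
        _ ≤ _ := Nat.mul_le_mul_right _ hkle
    rw [hord, hpsl] at e1
    obtain ⟨t, ht⟩ : ∃ t, Fintype.card F = t + 1 := ⟨Fintype.card F - 1, by omega⟩
    have e2 : Fintype.card F ^ 3 - 1 = (Fintype.card F - 1) * (Fintype.card F ^ 2 + Fintype.card F + 1) := by
      rw [ht, Nat.add_sub_cancel]
      have : (t + 1) ^ 3 = t * ((t + 1) ^ 2 + (t + 1) + 1) + 1 := by ring
      omega
    rw [e2] at e1
    have e3 : Fintype.card F ^ 3 * (Fintype.card F ^ 2 - 1) *
        ((Fintype.card F - 1) * (Fintype.card F ^ 2 + Fintype.card F + 1)) =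
        (Fintype.card F - 1) * Fintype.card F ^ 3 * ((Fintype.card F ^ 2 - 1) *
          (Fintype.card F ^ 2 + Fintype.card F + 1)) := by ring
    rw [e3] at e1
    exact Nat.le_of_mul_le_mul_left e1 (Nat.mul_pos (by omega) (by positivity))
  have hi_dvd : I.index ∣ D := (Dvd.intro _ rfl : I.index ∣ I.index * charDegree θ).trans (hdvd.trans hηD)
  have hle : I.index * (m ξ * charDegree θ) ≤ D := by
    refine le_trans ?_ (hdeg.trans (Nat.le_of_dvd hD0 hηD))
    exact Nat.mul_le_mul_left _ (Nat.mul_le_mul_right _ hab)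
  obtain ⟨ht1, hcase⟩ := arith_orbit h3 hDD hD0 hn hi_dvd hle (charDegree_pos hθ) hmain
  refine ⟨ht1, ?_⟩
  rcases hcase with hc | ⟨hq7, hc⟩
  · exact hc
  · exfalso
    -- a subgroup of index `76` of `PSL₃(7)`
    rw [← hidx] at hc
    letI := Fintype.ofFinite (ProjectiveSpecialLinearGroup (Fin 3) F)
    letI := Fintype.ofFinite (ProjectiveSpecialLinearGroup (Fin 3) F ⧸ I.map (pp R e))
    rw [Subgroup.index_eq_card] at hc
    obtain ⟨-, χ, hχ, hχ1⟩ := two_trans (S := ProjectiveSpecialLinearGroup (Fin 3) F)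
      (Ω := ProjectiveSpecialLinearGroup (Fin 3) F ⧸ I.map (pp R e)) (k := 48) (by rw [hc]; omega) (by rw [hc]; omega)
      (fun χ hχ h1 => by
        have := psl_min_degree hχ h1
        rw [hq7] at this
        omega)
    rw [hc] at hχ1
    have h75 : charDegree χ = 75 := by omega
    have h5 := Blocks.Knorr.charDegree_dvd hχ
    rw [h75] at h5
    rw [hq7] at hpsl
    have h6 : 75 ∣ 7 ^ 3 * (7 ^ 2 - 1) * (7 ^ 3 - 1) := by
      rw [← hpsl]
      exact h5.mul_left _
    revert h6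
    decide

/-- **(E2)** all irreducible characters of `R` are linear. -/
theorem charDegree_eq_one (h3 : 3 ≤ Fintype.card F)
    (hD : ∀ η : H → ℂ, IsIrrCharacter H η → ∃ D ∈ DT (Fintype.card F), charDegree η ∣ D ∧ 0 < D) (R : Subgroup H)
    [hR : R.Normal] (e : (H ⧸ R) ≃* ProjectiveSpecialLinearGroup (Fin 3) F) {θ : R → ℂ}
    (hθ : IsIrrCharacter R θ) : charDegree θ = 1 := by
  classical
  letI := Fintype.ofFinite H
  letI := Fintype.ofFinite R
  rcases inertia_cases h3 hD R e hθ with htop | h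
  swap
  · exact h.1
  have hinv : ∀ (g : H) (n : R), θ ⟨g * n * g⁻¹, hR.conj_mem (n : H) n.2 g⟩ = θ n := fun g n => by
    have : g ∈ inertia R θ := by rw [htop]; trivial
    exact mem_inertia_iff.1 this n
  by_contra hne
  have hpos := charDegree_pos hθ
  haveI := finite_irr (G := H)
  letI := Fintype.ofFinite (IrrCharacter H)
  obtain ⟨m, hm, hmdeg, hmsum⟩ := OverCount.sum_sq_over R hθ hinv
  have hcount := OverCount.card_over_le R hθ hinv
  have hk : Nat.card (ConjClasses (H ⧸ R)) =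
      Nat.card (ConjClasses (ProjectiveSpecialLinearGroup (Fin 3) F)) :=
    H92.KTools.card_classes_congr e
  have hidx : R.index = Nat.card (ProjectiveSpecialLinearGroup (Fin 3) F) := by
    rw [Subgroup.index_eq_card]
    exact Nat.card_congr e.toEquiv
  -- the largest degree
  set M := if Fintype.card F ≤ 4 then Fintype.card F * (Fintype.card F ^ 2 + Fintype.card F + 1)
    else (Fintype.card F + 1) * (Fintype.card F ^ 2 + Fintype.card F + 1) with hMdef
  have hM : M ≤ (Fintype.card F + 1) * (Fintype.card F ^ 2 + Fintype.card F + 1) ∧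
      (Fintype.card F ≤ 4 → M ≤ Fintype.card F * (Fintype.card F ^ 2 + Fintype.card F + 1)) := by
    have h5 : Fintype.card F * (Fintype.card F ^ 2 + Fintype.card F + 1) ≤
        (Fintype.card F + 1) * (Fintype.card F ^ 2 + Fintype.card F + 1) := Nat.mul_le_mul_right _ (by omega)
    rw [hMdef]
    split_ifs with h4
    · exact ⟨h5, fun _ => le_rfl⟩
    · exact ⟨le_rfl, fun h => absurd h h4⟩
  have hdegM : ∀ η : IrrCharacter H, charDegree (η : H → ℂ) ≤ M := by
    intro η
    obtain ⟨D, hDD, hηD, hD0⟩ := hD η η.2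
    refine (Nat.le_of_dvd hD0 hηD).trans ?_
    have h4 := dt_le h3 hDD
    rw [hMdef]
    split_ifs with h5
    · exact h4.2 h5
    · exact h4.1
  have h1 : 4 * R.index ≤ Nat.card (ConjClasses (H ⧸ R)) * M ^ 2 := by
    rw [← hmsum, Finset.mul_sum]
    refine le_trans ?_ (Nat.mul_le_mul_right _ hcount)
    rw [Nat.card_eq_fintype_card, Fintype.card_subtype, Finset.card_filter, Finset.sum_mul]
    refine Finset.sum_le_sum fun ξ _ => ?_
    rw [hm ξ]
    by_cases h0 : m ξ = 0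
    · rw [h0]; simp
    · have h2 := hmdeg ξ h0
      have h3 := hdegM ξ
      have h4 : m ξ * 2 ≤ m ξ * charDegree θ := Nat.mul_le_mul_left _ (by omega)
      have h6 : 2 * m ξ ≤ M := by omega
      have h7 : ((m ξ : ℂ) ≠ 0) := by exact_mod_cast h0
      rw [if_pos h7, one_mul]
      have h8 : (2 * m ξ) ^ 2 ≤ M ^ 2 := Nat.pow_le_pow_left h6 2
      calc 4 * m ξ ^ 2 = (2 * m ξ) ^ 2 := by ring
        _ ≤ _ := h8
  rw [hk, hidx] at h1
  have hcl := classes_le (F := F)
  exact arith_inv h3 rfl (card_psl (F := F)) hcl.1 hcl.2 hM h1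

/-- `H` acts on the linear characters of `R` -/
def act (R : Subgroup H) [R.Normal] : H →* MulAut (R →* ℂˣ) where
  toFun h :=
    { toFun := fun l => l.comp (MulAut.conjNormal h⁻¹ : MulAut R).toMonoidHom
      invFun := fun l => l.comp (MulAut.conjNormal h : MulAut R).toMonoidHom
      left_inv := fun l => by
        ext r
        simp only [_root_.map_inv, _root_.MulEquiv.toMonoidHom_eq_coe, _root_.MonoidHom.coe_comp, _root_.MonoidHom.coe_coe, _root_.MulAut.coe_inv, _root_.Function.comp_apply, _root_.MulEquiv.symm_apply_apply]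
      right_inv := fun l => by
        ext r
        simp only [_root_.MulEquiv.toMonoidHom_eq_coe, _root_.map_inv, _root_.MonoidHom.coe_comp, _root_.MonoidHom.coe_coe, _root_.MulAut.coe_inv, _root_.Function.comp_apply, _root_.MulEquiv.apply_symm_apply]
      map_mul' := fun l k => rfl }
  map_one' := by
    ext l r
    simp
  map_mul' g h := by
    ext l r
    simp only [_root_.mul_inv_rev, _root_.map_mul, _root_.map_inv, _root_.MulEquiv.toMonoidHom_eq_coe, _root_.MulEquiv.coe_mk, _root_.Equiv.coe_fn_mk, _root_.MonoidHom.coe_comp, _root_.MonoidHom.coe_coe, _root_.MulAut.coe_mul, _root_.MulAut.coe_inv, _root_.Function.comp_apply, _root_.MulAut.mul_apply]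

omit [Finite H] in
theorem act_apply (R : Subgroup H) [hR : R.Normal] (h : H) (l : R →* ℂˣ) (r : R) :
    act R h l r = l ⟨h⁻¹ * r * h, by
      have := hR.conj_mem r r.2 h⁻¹
      rwa [inv_inv] at this⟩ := by
  change l (MulAut.conjNormal h⁻¹ r) = _
  congr 1
  apply Subtype.ext
  change h⁻¹ * (r : H) * h⁻¹⁻¹ = h⁻¹ * r * h
  rw [inv_inv]

theorem trivial_of_hom (hq : 3 ≤ Fintype.card F) {W : Type*} [CommGroup W] [Finite W]
    (ρ : ProjectiveSpecialLinearGroup (Fin 3) F →* MulAut W)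
    (horb : ∀ w : W, ∃ K : Subgroup (ProjectiveSpecialLinearGroup (Fin 3) F), (∀ s, s ∈ K ↔ ρ s w = w) ∧
      (K.index = 1 ∨ K.index = Fintype.card F ^ 2 + Fintype.card F + 1))
    (s : ProjectiveSpecialLinearGroup (Fin 3) F) (w : W) : ρ s w = w := by
  letI : MulDistribMulAction (ProjectiveSpecialLinearGroup (Fin 3) F) W := MulDistribMulAction.compHom W ρ
  refine trivial_of_orbits hq (fun w => ?_) s w
  obtain ⟨K, hK, hK'⟩ := horb w
  have h1 : MulAction.stabilizer (ProjectiveSpecialLinearGroup (Fin 3) F) w = K := by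
    ext s
    rw [MulAction.mem_stabilizer_iff, hK]
    exact Iff.rfl
  have h2 : Nat.card (MulAction.orbit (ProjectiveSpecialLinearGroup (Fin 3) F) w) = K.index := by
    rw [← h1, Subgroup.index_eq_card]
    exact Nat.card_congr (MulAction.orbitEquivQuotientStabilizer _ w)
  rw [h2]
  exact hK'

/-- **all linear characters of `R` are invariant** -/
theorem inertia_eq_top' (h3 : 3 ≤ Fintype.card F)
    (hD : ∀ η : H → ℂ, IsIrrCharacter H η → ∃ D ∈ DT (Fintype.card F), charDegree η ∣ D ∧ 0 < D) (R : Subgroup H)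
    [hR : R.Normal] (e : (H ⧸ R) ≃* ProjectiveSpecialLinearGroup (Fin 3) F) (l : R →* ℂˣ) (h : H) :
    act R h l = l := by
  classical
  letI := Fintype.ofFinite R
  have hker : R ≤ (act R).ker := by
    intro r hr
    rw [MonoidHom.mem_ker]
    ext l s
    rw [act_apply, MulAut.one_apply]
    have : (⟨r⁻¹ * s * r, by
      have := hR.conj_mem s s.2 r⁻¹
      rwa [inv_inv] at this⟩ : R) = (⟨r, hr⟩ : R)⁻¹ * s * ⟨r, hr⟩ := rfl
    rw [this, map_mul, map_mul, map_inv, mul_comm, mul_inv_cancel_left]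
  let ρ : ProjectiveSpecialLinearGroup (Fin 3) F →* MulAut (R →* ℂˣ) :=
    (QuotientGroup.lift R (act R) hker).comp e.symm.toMonoidHom
  have hρ : ∀ h : H, ρ (pp R e h) = act R h := by
    intro h
    change QuotientGroup.lift R (act R) hker (e.symm (e (QuotientGroup.mk h))) = _
    rw [MulEquiv.symm_apply_apply]
    rfl
  haveI : Finite (R →* ℂˣ) := by
    apply Nat.finite_of_card_ne_zero
    rw [Characters.Linear.card_hom_eq_index_commutator]
    exact Subgroup.index_ne_zero_of_finite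
  rw [← hρ]
  refine trivial_of_hom (W := R →* ℂˣ) h3 ρ ?_ _ _
  intro l
  have hθ : IsIrrCharacter R (fun r => (l r : ℂ)) := Characters.Linear.isIrrCharacter_hom l
  have hst : ∀ h : H, h ∈ inertia R (fun r => (l r : ℂ)) ↔ act R h l = l := by
    intro h
    rw [mem_inertia_iff]
    constructor
    · intro h1
      ext r
      rw [act_apply]
      have h2 := h1 ⟨h⁻¹ * r * h, by
        have := hR.conj_mem r r.2 h⁻¹
        rwa [inv_inv] at this⟩
      rw [← h2]
      have h3 : (⟨h * (h⁻¹ * r * h) * h⁻¹, hR.conj_mem _ (by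
        have := hR.conj_mem r r.2 h⁻¹
        rwa [inv_inv] at this) h⟩ : R) = r := Subtype.ext (by group)
      exact congrArg (fun x => ((l x : ℂˣ) : ℂ)) h3
    · intro h1 n
      have h2 : act R h l ⟨h * n * h⁻¹, hR.conj_mem (n : H) n.2 h⟩ = l ⟨h * n * h⁻¹, hR.conj_mem (n : H) n.2 h⟩ := by
        rw [h1]
      rw [act_apply] at h2
      rw [← h2]
      have h3 : (⟨h⁻¹ * (h * n * h⁻¹) * h, by
        have := hR.conj_mem _ (hR.conj_mem (n : H) n.2 h) h⁻¹
        rwa [inv_inv] at this⟩ : R) = n := Subtype.ext (by group)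
      rw [h3]
  refine ⟨(inertia R (fun r => (l r : ℂ))).map (pp R e), ?_, ?_⟩
  · intro s
    constructor
    · rintro ⟨h, hh, rfl⟩
      rw [hρ]
      exact (hst h).1 hh
    · intro hs
      obtain ⟨h, rfl⟩ := pp_surjective R e s
      rw [hρ] at hs
      exact ⟨h, (hst h).2 hs, rfl⟩
  · rw [Subgroup.index_map_eq _ (pp_surjective R e) (by
      rw [ker_pp]; exact le_inertia (isIrr_isClassFunction hθ))]
    rcases inertia_cases h3 hD R e hθ with h1 | h1
    · left
      rw [h1, Subgroup.index_top]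
    · right
      exact h1.2

/-- **`R` is central.** -/
theorem central_abs3 (h3 : 3 ≤ Fintype.card F)
    (hD : ∀ η : H → ℂ, IsIrrCharacter H η → ∃ D ∈ DT (Fintype.card F), charDegree η ∣ D ∧ 0 < D) (R : Subgroup H)
    [hR : R.Normal] (e : (H ⧸ R) ≃* ProjectiveSpecialLinearGroup (Fin 3) F) :
    R ≤ Subgroup.center H := by
  classical
  letI := Fintype.ofFinite R
  intro r hr
  rw [Subgroup.mem_center_iff]
  intro h
  have h1 : h * r * h⁻¹ ∈ R := hR.conj_mem r hr h
  have key : (⟨h * r * h⁻¹, h1⟩ * (⟨r, hr⟩ : R)⁻¹ : R) = 1 := by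
    apply eq_one_of_forall
    intro θ hθ
    have hd := charDegree_eq_one h3 hD R e hθ
    have hθ1 : θ 1 = 1 := by rw [← coe_charDegree hθ, hd, Nat.cast_one]
    obtain ⟨f, hf⟩ := Characters.Linear.exists_hom_of_isIrrCharacter hθ hθ1
    have h5 := inertia_eq_top' h3 hD R e f h⁻¹
    have h2 : f ⟨h * r * h⁻¹, h1⟩ = f ⟨r, hr⟩ := by
      have h6 : act R h⁻¹ f ⟨r, hr⟩ = f ⟨r, hr⟩ := by rw [h5]
      rw [act_apply] at h6
      rw [← h6]
      congr 1
      apply Subtype.ext
      simp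
    have h7 : ∀ x, θ x = (f x : ℂ) := fun x => congrFun hf x
    rw [hθ1, h7, map_mul, map_inv, h2, mul_inv_cancel, Units.val_one]
  have h2 := congrArg Subtype.val key
  have h3 : h * r * h⁻¹ * r⁻¹ = 1 := h2
  rw [mul_inv_eq_one, mul_inv_eq_iff_eq_mul] at h3
  exact h3

set_option linter.unusedVariables false in
/-- **Step C of S4855.** -/
theorem central_of_psl3 {G : Type*} [Group G] [Finite G] {F : Type*} [Field F] [Fintype F]
    (h3 : 3 ≤ Fintype.card F) (hD : charDegrees G ⊆ DT (Fintype.card F)) (N R : Subgroup G)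
    [N.Normal] [R.Normal] (hRN : R ≤ N) (hN : ⁅N, N⁆ = N)
    (e : (N ⧸ R.subgroupOf N) ≃* ProjectiveSpecialLinearGroup (Fin 3) F) :
    R ≤ Subgroup.centralizer (N : Set G) := by
  classical
  have hDN : ∀ η : N → ℂ, IsIrrCharacter N η → ∃ D ∈ DT (Fintype.card F), charDegree η ∣ D ∧ 0 < D := by
    intro η hη
    obtain ⟨χ, hχ, ho⟩ := exists_over_subtype N hη
    have h1 := (charDegree_dvd_of_over N hχ hη ho).1
    have h2 : charDegree χ ∈ DT (Fintype.card F) := hD ⟨⟨χ, hχ⟩, rfl⟩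
    exact ⟨_, h2, h1, charDegree_pos hχ⟩
  have h1 := central_abs3 h3 hDN (R.subgroupOf N) e
  intro r hr
  rw [Subgroup.mem_centralizer_iff]
  intro n hn
  have h2 : (⟨r, hRN hr⟩ : N) ∈ R.subgroupOf N := Subgroup.mem_subgroupOf.2 hr
  have h3 := Subgroup.mem_center_iff.1 (h1 h2) ⟨n, hn⟩
  exact congrArg Subtype.val h3

end Cfsg.Agent.H42.Psl3
end

-- part: H691/T3/LateAll
section
/-!
# The facts used by the proof of S4855 (helper691)

Assembly: Itô-Michler for the nonsporadic simple groups (hub H5, helper33 and others), the sporadic groups and the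
Tits group (helper510), centrality of the kernel (helper42).
-/

set_option autoImplicit false

open Cfsg

namespace Cfsg.Agent.H691.T3.LateAll

universe u

theorem late : Cfsg.Agent.H691.T3.Main.Late.{u} where
  im := by
    intro S _ _ hs hK hc hsp l hl hd
    have := Fact.mk hl
    obtain ⟨χ, hχ⟩ := Cfsg.Agent.H33.im_nonsporadic hs hK hc hsp hd
    exact ⟨_, ⟨χ, rfl⟩, hχ⟩
  spor := by
    intro A _ _ S h p F hp hF h3 hpS hD hsp
    exact Cfsg.Agent.H510.T3S.spor_false3 h hp hF h3 hpS hD hsp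
  central := by
    intro G _ _ F _ _ h3 hD N R _ _ hRN hN e
    exact Cfsg.Agent.H42.Psl3.central_of_psl3 h3 hD N R hRN hN e

end Cfsg.Agent.H691.T3.LateAll
end

private theorem dce_48b2aaccc66c : _root_.True := by
  try have : _root_.True := by simp only [_root_.Cfsg.Agent.H42.Psl3.pp.eq_1]
  exact _root_.True.intro
end
end
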